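/-
helper53: automorphisms of finite `p`-groups and the Frattini quotient:
Burnside's theorem (a `p'`-automorphism trivial on `P/Φ(P)` is trivial), and the
two-generator case `|P/Φ(P)| ≤ 4` for `p = 2`.
-/
import Mathlib
import Cfsg.Agent.Lib.Helper1.PGroupMax

set_option autoImplicit false

namespace Cfsg.Agent.Lib.Helper53

section frat

variable {P : Type*} [Group P] [Finite P] {p : ℕ} [Fact p.Prime]

/-- `p`-th powers lie in the Frattini subgroup of a finite `p`-group (cf. Helper97.PStable2). -/
theorem pow_prime_mem_frattini' (hP : IsPGroup p P) (x : P) : x ^ p ∈ frattini P := by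
  unfold frattini Order.radical
  rw [Subgroup.mem_iInf]
  intro M
  rw [Subgroup.mem_iInf]
  intro hM
  have hM : IsCoatom M := hM
  have hn : M.Normal := Cfsg.Agent.Lib.Helper1.coatom_normal_of_isPGroup hP hM
  have hi : M.index = p := Cfsg.Agent.Lib.Helper1.coatom_index_of_isPGroup hP hM
  have hcard : Nat.card (P ⧸ M) = p := by rw [← hi]; rfl
  rw [← QuotientGroup.eq_one_iff]
  have h := pow_card_eq_one' (G := P ⧸ M) (x := (x : P ⧸ M))
  rw [hcard] at h
  simpa using h

omit [Finite P] [Fact p.Prime] in
theorem frattini_apply_mem' (α : MulAut P) (x : P) (hx : x ∈ frattini P) : α x ∈ frattini P := by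
  have h := (frattini_characteristic (G := P))
  have h2 := (Subgroup.characteristic_iff_map_le.mp h) α
  exact h2 (Subgroup.mem_map_of_mem _ hx)

/-- **Burnside**: an automorphism of prime order `q ≠ p` of a finite `p`-group which is trivial
modulo the Frattini subgroup is trivial. -/
theorem aut_eq_one_of_trivial_mod_frattini (hP : IsPGroup p P) (α : MulAut P) (q : ℕ)
    [hq : Fact q.Prime] (hqp : q ≠ p) (hαq : α ^ q = 1) (h : ∀ x, x⁻¹ * α x ∈ frattini P) :
    α = 1 := by
  classical
  have key : ∀ x : P, ∃ y : P, α y = y ∧ x⁻¹ * y ∈ frattini P := by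
    intro x
    let S : Set P := {y | x⁻¹ * y ∈ frattini P}
    have hS : ∀ y, y ∈ S ↔ α.toEquiv y ∈ S := by
      intro y
      have e : x⁻¹ * α y = (x⁻¹ * y) * (y⁻¹ * α y) := by group
      constructor
      · intro hy
        show x⁻¹ * α y ∈ frattini P
        rw [e]; exact mul_mem hy (h y)
      · intro hy
        have hy' : x⁻¹ * α y ∈ frattini P := hy
        have e2 : x⁻¹ * y = (x⁻¹ * α y) * (y⁻¹ * α y)⁻¹ := by group
        show x⁻¹ * y ∈ frattini P
        rw [e2]; exact mul_mem hy' (inv_mem (h y))
    let σ : Equiv.Perm S := α.toEquiv.subtypeEquiv hS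
    have hσ1 : ∀ s : S, ((σ s : S) : P) = α s := fun s => rfl
    have hσpow : ∀ n : ℕ, ∀ s : S, (((σ ^ n) s : S) : P) = (α ^ n) (s : P) := by
      intro n
      induction n with
      | zero => intro s; simp
      | succ n ih =>
        intro s
        rw [pow_succ', Equiv.Perm.mul_apply, hσ1, ih, pow_succ', MulAut.mul_apply]
    have hσq : σ ^ q ^ 1 = 1 := by
      rw [pow_one]
      ext s
      rw [hσpow, hαq]
      simp
    have hfinS : Fintype S := Fintype.ofFinite S
    have hcard : Nat.card S = Nat.card (frattini P) := by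
      refine Nat.card_congr ⟨fun s => ⟨x⁻¹ * s, s.2⟩, fun f => ⟨x * f, ?_⟩, ?_, ?_⟩
      · show x⁻¹ * (x * f) ∈ frattini P
        rw [inv_mul_cancel_left]; exact f.2
      · intro s; ext; simp
      · intro f; ext; simp
    have hnd : ¬ q ∣ Fintype.card S := by
      rw [← Nat.card_eq_fintype_card, hcard]
      obtain ⟨k, hk⟩ := (hP.to_subgroup (frattini P)).exists_card_eq
      rw [hk]
      intro hdvd
      have := (Nat.prime_dvd_prime_iff_eq hq.out (Fact.out : p.Prime)).mp
        (hq.out.dvd_of_dvd_pow hdvd)
      exact hqp this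
    obtain ⟨s, hs⟩ := Equiv.Perm.exists_fixed_point_of_prime hnd hσq
    exact ⟨s, congrArg Subtype.val hs, s.2⟩
  -- the fixed subgroup
  let C : Subgroup P :=
    { carrier := {y | α y = y}
      mul_mem' := by
        intro a b ha hb
        show α (a * b) = a * b
        rw [map_mul, ha, hb]
      one_mem' := map_one α
      inv_mem' := by
        intro a ha
        show α a⁻¹ = a⁻¹
        rw [map_inv, ha] }
  have hC : C ⊔ frattini P = ⊤ := by
    rw [eq_top_iff]
    intro x _
    obtain ⟨y, hy, hxy⟩ := key x
    have e : x = y * (x⁻¹ * y)⁻¹ := by group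
    rw [e]
    exact mul_mem (Subgroup.mem_sup_left hy) (Subgroup.mem_sup_right (inv_mem hxy))
  have hCtop : C = ⊤ := frattini_nongenerating hC
  ext x
  have : x ∈ C := by rw [hCtop]; exact Subgroup.mem_top x
  exact this

end frat

/-- In a group of order at most `4` in which all squares are trivial, two distinct nontrivial
elements together with `1` and their product exhaust the group. -/
theorem klein_all {Q : Type*} [Group Q] [Finite Q] (hsq : ∀ q : Q, q * q = 1)
    (hcard : Nat.card Q ≤ 4) (u v : Q) (hu : u ≠ 1) (hv : v ≠ 1) (huv : u ≠ v) :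
    ∀ q : Q, q = 1 ∨ q = u ∨ q = v ∨ q = u * v := by
  classical
  have hfin : Fintype Q := Fintype.ofFinite Q
  have huv1 : u * v ≠ 1 := by
    intro h
    apply huv
    have h2 := hsq u
    exact mul_left_cancel (h2.trans h.symm)
  have huvu : u * v ≠ u := by
    intro h
    apply hv
    exact mul_left_cancel (h.trans (mul_one u).symm)
  have huvv : u * v ≠ v := by
    intro h
    apply hu
    exact mul_right_cancel (h.trans (one_mul v).symm)
  let T : Finset Q := {1, u, v, u * v}
  have hT : T.card = 4 := by
    simp only [T]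
    rw [Finset.card_insert_of_notMem, Finset.card_insert_of_notMem, Finset.card_insert_of_notMem,
      Finset.card_singleton]
    · simp only [Finset.mem_singleton]; exact fun h => huvv h.symm
    · simp only [Finset.mem_insert, Finset.mem_singleton, not_or]
      exact ⟨huv, fun h => huvu h.symm⟩
    · simp only [Finset.mem_insert, Finset.mem_singleton, not_or]
      exact ⟨fun h => hu h.symm, fun h => hv h.symm, fun h => huv1 h.symm⟩
  have hTuniv : T = Finset.univ := by
    apply Finset.eq_univ_of_card
    rw [hT]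
    rw [Nat.card_eq_fintype_card] at hcard
    have := Finset.card_le_univ T
    rw [hT] at this
    omega
  intro q
  have hq : q ∈ T := by rw [hTuniv]; exact Finset.mem_univ q
  simpa [T] using hq

/-- A group generated by two elements in which all squares are trivial has order at most `4`. -/
theorem card_le_four_of_closure_pair {Q : Type*} [Group Q] [Finite Q] (hsq : ∀ q : Q, q * q = 1)
    (u v : Q) (hgen : Subgroup.closure ({u, v} : Set Q) = ⊤) : Nat.card Q ≤ 4 := by
  classical
  have hfin : Fintype Q := Fintype.ofFinite Q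
  have hinv : ∀ q : Q, q⁻¹ = q := fun q => inv_eq_of_mul_eq_one_right (hsq q)
  have hcomm : ∀ x y : Q, x * y = y * x := by
    intro x y
    have h1 := hsq (x * y)
    have h2 : x * y = (x * y)⁻¹ := (hinv _).symm
    rw [h2, mul_inv_rev, hinv, hinv]
  have hu2 : u ^ 2 = 1 := by rw [pow_two]; exact hsq u
  have hv2 : v ^ 2 = 1 := by rw [pow_two]; exact hsq v
  have hall : ∀ q : Q, ∃ i j : ℕ, q = u ^ i * v ^ j := by
    intro q
    have hq : q ∈ Subgroup.closure ({u, v} : Set Q) := by rw [hgen]; exact Subgroup.mem_top q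
    induction hq using Subgroup.closure_induction with
    | mem x hx =>
      rcases hx with rfl | rfl
      · exact ⟨1, 0, by simp⟩
      · exact ⟨0, 1, by simp⟩
    | one => exact ⟨0, 0, by simp⟩
    | mul x y _ _ hx hy =>
      obtain ⟨i, j, rfl⟩ := hx
      obtain ⟨i', j', rfl⟩ := hy
      refine ⟨i + i', j + j', ?_⟩
      calc u ^ i * v ^ j * (u ^ i' * v ^ j') = u ^ i * (v ^ j * u ^ i') * v ^ j' := by
            simp only [mul_assoc]
        _ = u ^ i * (u ^ i' * v ^ j) * v ^ j' := by rw [hcomm (v ^ j) (u ^ i')]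
        _ = u ^ (i + i') * v ^ (j + j') := by rw [pow_add, pow_add]; simp only [mul_assoc]
    | inv x _ hx =>
      obtain ⟨i, j, rfl⟩ := hx
      exact ⟨i, j, hinv _⟩
  have hsub : (Finset.univ : Finset Q) ⊆ ({1, u, v, u * v} : Finset Q) := by
    intro q _
    obtain ⟨i, j, rfl⟩ := hall q
    rw [pow_eq_pow_mod i hu2, pow_eq_pow_mod j hv2]
    rcases Nat.mod_two_eq_zero_or_one i with hi | hi <;>
      rcases Nat.mod_two_eq_zero_or_one j with hj | hj <;> rw [hi, hj] <;> simp
  rw [Nat.card_eq_fintype_card]
  calc Fintype.card Q = (Finset.univ : Finset Q).card := rfl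
    _ ≤ ({1, u, v, u * v} : Finset Q).card := Finset.card_le_card hsub
    _ ≤ 4 := Finset.card_le_four

end Cfsg.Agent.Lib.Helper53
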