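/-
helper53: homomorphisms out of Mathlib's (generalized) quaternion group `QuaternionGroup n`
from generators and relations (adapted from Helper35.QuaternionRecog).
-/
import Mathlib

set_option autoImplicit false

namespace Cfsg.Agent.Lib.Helper53

open QuaternionGroup

section lift

variable {G : Type*} [Group G] (n : ℕ) [NeZero n] (α β : G)

/-- The underlying function of `quatLift`. -/
def quatLiftFun : QuaternionGroup n → G
  | QuaternionGroup.a i => α ^ i.val
  | QuaternionGroup.xa i => β * α ^ i.val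

variable {n α β}

theorem quatLiftFun_mul (hα : α ^ (2 * n) = 1) (hβ2 : β * β = α ^ n) (hconj : β * α * β⁻¹ = α⁻¹)
    (q r : QuaternionGroup n) :
    quatLiftFun n α β (q * r) = quatLiftFun n α β q * quatLiftFun n α β r := by
  have hN : NeZero (2 * n) := ⟨by have := NeZero.ne n; omega⟩
  have hpowmod : ∀ m : ℕ, α ^ (m % (2 * n)) = α ^ m := by
    intro m
    conv_rhs => rw [← Nat.div_add_mod m (2 * n), pow_add, pow_mul, hα, one_pow, one_mul]
  set g : ZMod (2 * n) → G := fun i => α ^ i.val with hg
  have g_add : ∀ i j, g (i + j) = g i * g j := by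
    intro i j
    simp only [hg]
    rw [ZMod.val_add, hpowmod, pow_add]
  have g_zero : g 0 = 1 := by simp [hg]
  have g_neg : ∀ i, g (-i) = (g i)⁻¹ := by
    intro i
    rw [eq_inv_iff_mul_eq_one, ← g_add, neg_add_cancel, g_zero]
  have g_n : g (n : ZMod (2 * n)) = α ^ n := by
    simp only [hg]
    rw [ZMod.val_natCast, hpowmod]
  have conj_g : ∀ i, β * g i * β⁻¹ = (g i)⁻¹ := by
    intro i
    simp only [hg]
    rw [← conj_pow, hconj, inv_pow]
  have g_beta : ∀ i, g i * β = β * g (-i) := by
    intro i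
    have h := conj_g (-i)
    rw [g_neg, inv_inv] at h
    calc g i * β = (β * (g i)⁻¹ * β⁻¹) * β := by rw [h]
      _ = β * (g i)⁻¹ := by group
      _ = β * g (-i) := by rw [g_neg]
  rcases q with i | i <;> rcases r with j | j
  · show g (i + j) = g i * g j
    exact g_add i j
  · show β * g (j - i) = g i * (β * g j)
    rw [← mul_assoc, g_beta, mul_assoc, ← g_add, neg_add_eq_sub]
  · show β * g (i + j) = β * g i * g j
    rw [g_add, mul_assoc]
  · show g ((n : ZMod (2 * n)) + j - i) = β * g i * (β * g j)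
    have e : β * g i * (β * g j) = (β * β) * (g (-i) * g j) := by
      calc β * g i * (β * g j) = β * (g i * β) * g j := by group
        _ = β * (β * g (-i)) * g j := by rw [g_beta]
        _ = (β * β) * (g (-i) * g j) := by group
    rw [e, hβ2, ← g_n, ← g_add, ← g_add]
    congr 1
    ring

/-- The homomorphism `QuaternionGroup n →* G` sending `a 1 ↦ α`, `xa 0 ↦ β`, given
`α ^ (2n) = 1`, `β² = αⁿ`, `β α β⁻¹ = α⁻¹`. -/
noncomputable def quatLift (hα : α ^ (2 * n) = 1) (hβ2 : β * β = α ^ n)
    (hconj : β * α * β⁻¹ = α⁻¹) : QuaternionGroup n →* G :=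
  MonoidHom.mk' (quatLiftFun n α β) (quatLiftFun_mul hα hβ2 hconj)

theorem quatLift_a (hα : α ^ (2 * n) = 1) (hβ2 : β * β = α ^ n) (hconj : β * α * β⁻¹ = α⁻¹)
    (i : ZMod (2 * n)) : quatLift hα hβ2 hconj (QuaternionGroup.a i) = α ^ i.val := rfl

theorem quatLift_xa (hα : α ^ (2 * n) = 1) (hβ2 : β * β = α ^ n) (hconj : β * α * β⁻¹ = α⁻¹)
    (i : ZMod (2 * n)) : quatLift hα hβ2 hconj (QuaternionGroup.xa i) = β * α ^ i.val := rfl

end lift

/-- `QuaternionGroup n` is generated by `a 1` and `xa 0`. -/
theorem closure_a_one_xa_zero (n : ℕ) [NeZero n] :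
    Subgroup.closure ({QuaternionGroup.a 1, QuaternionGroup.xa 0} : Set (QuaternionGroup n)) = ⊤ := by
  have hN : NeZero (2 * n) := ⟨by have := NeZero.ne n; omega⟩
  rw [eq_top_iff]
  intro q _
  have ha : ∀ i : ZMod (2 * n), (QuaternionGroup.a i : QuaternionGroup n) ∈
      Subgroup.closure ({QuaternionGroup.a 1, QuaternionGroup.xa 0} : Set (QuaternionGroup n)) := by
    intro i
    have : (QuaternionGroup.a i : QuaternionGroup n) = (QuaternionGroup.a 1) ^ i.val := by
      rw [QuaternionGroup.a_one_pow, ZMod.natCast_zmod_val]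
    rw [this]
    exact Subgroup.pow_mem _ (Subgroup.subset_closure (by simp)) _
  rcases q with i | i
  · exact ha i
  · have : (QuaternionGroup.xa i : QuaternionGroup n) = QuaternionGroup.xa 0 * QuaternionGroup.a i := by
      rw [QuaternionGroup.xa_mul_a, zero_add]
    rw [this]
    exact Subgroup.mul_mem _ (Subgroup.subset_closure (by simp)) (ha i)

end Cfsg.Agent.Lib.Helper53
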