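/-
helper53: odd-order automorphisms of cyclic 2-groups and of generalized quaternion groups
of order at least 16 are trivial; uniqueness of the involution of a generalized quaternion group.
-/
import Mathlib
import Cfsg.Agent.Lib.Helper53.QuatLift

set_option autoImplicit false

namespace Cfsg.Agent.Lib.Helper53

open QuaternionGroup

theorem zmod_add_self_eq_zero' {n : ℕ} [NeZero n] (j : ZMod (2 * n)) (h : j + j = 0) :
    j = 0 ∨ j = (n : ZMod (2 * n)) := by
  have hj : ((j.val + j.val : ℕ) : ZMod (2 * n)) = 0 := by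
    rw [Nat.cast_add, ZMod.natCast_zmod_val]; exact h
  rw [ZMod.natCast_eq_zero_iff] at hj
  have hlt : j.val < 2 * n := ZMod.val_lt j
  obtain ⟨c, hc⟩ := hj
  have hc' : j.val = n * c := by
    have : 2 * j.val = 2 * (n * c) := by rw [← mul_assoc, ← hc]; ring
    exact Nat.eq_of_mul_eq_mul_left (by norm_num) this
  have hc2 : c < 2 := by
    by_contra hcon
    rw [not_lt] at hcon
    have : n * 2 ≤ n * c := Nat.mul_le_mul_left n hcon
    omega
  interval_cases c
  · left
    exact (ZMod.val_eq_zero j).mp (by simpa using hc')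
  · right
    rw [← ZMod.natCast_zmod_val j, hc', mul_one]

/-- The unique involution of a generalized quaternion group. -/
theorem quaternion_eq_a_of_orderOf_eq_two {m : ℕ} [NeZero m] (z : QuaternionGroup m)
    (hz : orderOf z = 2) : z = a (m : ZMod (2 * m)) := by
  rcases z with i | i
  · have h1 : (a i : QuaternionGroup m) ^ 2 = 1 := by rw [← hz]; exact pow_orderOf_eq_one _
    rw [pow_two, a_mul_a, one_def] at h1
    rcases zmod_add_self_eq_zero' i (a.inj h1) with h | h
    · exfalso
      rw [h, a_zero, orderOf_one] at hz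
      omega
    · rw [h]
  · rw [orderOf_xa] at hz
    omega

/-- A group embedding into a generalized quaternion group has at most one subgroup of order 2. -/
theorem uniq_order_two_of_injective {Q : Type*} [Group Q] {m : ℕ} [NeZero m]
    (ι : Q →* QuaternionGroup m) (hι : Function.Injective ι) :
    ∀ H K : Subgroup Q, Nat.card H = 2 → Nat.card K = 2 → H = K := by
  have key : ∀ H : Subgroup Q, Nat.card H = 2 →
      ∃ h : Q, ι h = a (m : ZMod (2 * m)) ∧ H = Subgroup.zpowers h := by
    intro H hH
    have hfin : Finite H := Nat.finite_of_card_ne_zero (by rw [hH]; norm_num)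
    have : Fact (Nat.Prime 2) := ⟨Nat.prime_two⟩
    obtain ⟨h, hh⟩ := exists_prime_orderOf_dvd_card' (G := H) 2 (by rw [hH])
    have hh' : orderOf (h : Q) = 2 := by rw [Subgroup.orderOf_coe]; exact hh
    refine ⟨(h : Q), ?_, ?_⟩
    · apply quaternion_eq_a_of_orderOf_eq_two
      rw [orderOf_injective ι hι]; exact hh'
    · symm
      apply Subgroup.eq_of_le_of_card_ge
      · rw [Subgroup.zpowers_le]; exact h.2
      · rw [Nat.card_zpowers, hh', hH]
  intro H K hH hK
  obtain ⟨h, hh, rfl⟩ := key H hH
  obtain ⟨k, hk, rfl⟩ := key K hK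
  have : h = k := hι (by rw [hh, hk])
  rw [this]

/-- An automorphism of odd order of a cyclic 2-group is trivial. -/
theorem aut_eq_one_of_cyclic {Q : Type*} [Group Q] [Finite Q] [IsCyclic Q] (hQ : IsPGroup 2 Q)
    (β : MulAut Q) (hodd : (orderOf β).Coprime 2) : β = 1 := by
  have : Fact (Nat.Prime 2) := ⟨Nat.prime_two⟩
  obtain ⟨k, hk⟩ := hQ.exists_card_eq
  have hcard : Nat.card (MulAut Q) = Nat.totient (2 ^ k) := by
    rw [IsCyclic.card_mulAut, hk]
  have hfin : Finite (MulAut Q) := by
    apply Nat.finite_of_card_ne_zero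
    rw [hcard]
    exact (Nat.totient_pos.mpr (by positivity)).ne'
  have hdvd : orderOf β ∣ Nat.totient (2 ^ k) := by
    rw [← hcard]; exact orderOf_dvd_natCard β
  have h1 : orderOf β = 1 := by
    rcases Nat.eq_zero_or_pos k with rfl | hkpos
    · simpa using hdvd
    · rw [Nat.totient_prime_pow Nat.prime_two hkpos] at hdvd
      have : (orderOf β).Coprime (2 ^ (k - 1) * (2 - 1)) := by
        simpa using Nat.Coprime.pow_right (k - 1) hodd
      exact Nat.Coprime.eq_one_of_dvd this hdvd
  exact orderOf_eq_one_iff.mp h1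

theorem a_pow' {m : ℕ} (j : ZMod (2 * m)) (k : ℕ) :
    (a j : QuaternionGroup m) ^ k = a ((k : ZMod (2 * m)) * j) := by
  induction k with
  | zero => rw [pow_zero, Nat.cast_zero, zero_mul, a_zero]
  | succ k ih =>
    rw [pow_succ, ih, a_mul_a]
    congr 1
    push_cast
    ring

/-- An automorphism of odd order of a generalized quaternion group of order `4 m = 2 ^ (k+1)`,
`m ≥ 3`, is trivial. -/
theorem aut_eq_one_of_quaternion {m : ℕ} [NeZero m] (hm : 3 ≤ m) (k : ℕ) (hk : 2 * m = 2 ^ k)
    (β : MulAut (QuaternionGroup m)) (hodd : (orderOf β).Coprime 2) : β = 1 := by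
  have hN : NeZero (2 * m) := ⟨by have := NeZero.ne m; omega⟩
  have hfinA : Finite (MulAut (QuaternionGroup m)) := inferInstance
  set r := orderOf β with hr
  have hrpos : 0 < r := orderOf_pos β
  have hβr : β ^ r = 1 := pow_orderOf_eq_one β
  -- β (a 1) = a j
  obtain ⟨j, hj⟩ : ∃ j, β (a 1) = a j := by
    rcases hb : β (a 1) with j | j
    · exact ⟨j, rfl⟩
    · exfalso
      have h1 : orderOf (β (a 1)) = 2 * m := by
        rw [MulEquiv.orderOf_eq, orderOf_a_one]
      rw [hb, orderOf_xa] at h1
      omega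
  have hβa : ∀ i : ZMod (2 * m), β (a i) = a (i * j) := by
    intro i
    have : (a i : QuaternionGroup m) = (a 1) ^ i.val := by
      rw [a_one_pow, ZMod.natCast_zmod_val]
    rw [this, map_pow, hj, a_pow', ZMod.natCast_zmod_val]
  have hpow : ∀ s : ℕ, (β ^ s) (a 1) = a (j ^ s) := by
    intro s
    induction s with
    | zero => simp
    | succ s ih =>
      rw [pow_succ', MulAut.mul_apply, ih, hβa, pow_succ]
  have hjr : j ^ r = 1 := by
    have := hpow r
    rw [hβr, MulAut.one_apply] at this
    exact (a.inj this).symm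
  -- j = 1
  have hj1 : j = 1 := by
    set ju : (ZMod (2 * m))ˣ := Units.ofPowEqOne j r hjr hrpos.ne' with hju
    have h1 : ju ^ r = 1 := Units.pow_ofPowEqOne hjr hrpos.ne'
    have h2 : ju ^ (Nat.totient (2 * m)) = 1 := by
      rw [← ZMod.card_units_eq_totient, ← Nat.card_eq_fintype_card]
      exact pow_card_eq_one'
    have hkpos : 0 < k := by
      rcases Nat.eq_zero_or_pos k with rfl | h
      · rw [pow_zero] at hk; omega
      · exact h
    have htot : Nat.totient (2 * m) = 2 ^ (k - 1) * (2 - 1) := by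
      rw [hk, Nat.totient_prime_pow Nat.prime_two hkpos]
    rw [htot] at h2
    have hd1 : orderOf ju ∣ r := orderOf_dvd_of_pow_eq_one h1
    have hd2 : orderOf ju ∣ 2 ^ (k - 1) * (2 - 1) := orderOf_dvd_of_pow_eq_one h2
    have hcop : (orderOf ju).Coprime (2 ^ (k - 1) * (2 - 1)) := by
      have : (orderOf ju).Coprime 2 := Nat.Coprime.coprime_dvd_left hd1 hodd
      simpa using Nat.Coprime.pow_right (k - 1) this
    have : orderOf ju = 1 := Nat.Coprime.eq_one_of_dvd hcop hd2
    have hju1 : ju = 1 := orderOf_eq_one_iff.mp this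
    have : (ju : ZMod (2 * m)) = 1 := by rw [hju1]; rfl
    rw [← this]
    rfl
  have hfixa : ∀ i : ZMod (2 * m), β (a i) = a i := by
    intro i; rw [hβa, hj1, mul_one]
  -- β (xa 0) = xa c
  obtain ⟨c, hc⟩ : ∃ c, β (xa 0) = xa c := by
    rcases hb : β (xa 0) with c | c
    · exfalso
      have : β (xa 0) = β (a c) := by rw [hb, hfixa]
      have := β.injective this
      cases this
    · exact ⟨c, rfl⟩
  have hpowx : ∀ s : ℕ, (β ^ s) (xa 0) = xa ((s : ZMod (2 * m)) * c) := by
    intro s
    induction s with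
    | zero => simp
    | succ s ih =>
      rw [pow_succ', MulAut.mul_apply, ih]
      have : (xa ((s : ZMod (2 * m)) * c) : QuaternionGroup m) = xa 0 * a ((s : ZMod (2 * m)) * c) := by
        rw [xa_mul_a, zero_add]
      rw [this, map_mul, hc, hfixa, xa_mul_a]
      congr 1
      push_cast
      ring
  have hrc : (r : ZMod (2 * m)) * c = 0 := by
    have := hpowx r
    rw [hβr, MulAut.one_apply] at this
    exact (xa.inj this).symm
  have hc0 : c = 0 := by
    have hu : IsUnit (r : ZMod (2 * m)) := by
      rw [ZMod.isUnit_iff_coprime, hk]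
      exact Nat.Coprime.pow_right k hodd
    exact (hu.mul_right_eq_zero).mp hrc
  rw [hc0] at hc
  -- conclude
  have h : β.toMonoidHom = MonoidHom.id _ := by
    apply MonoidHom.eq_of_eqOn_dense (closure_a_one_xa_zero m)
    intro x hx
    rcases hx with rfl | rfl
    · exact hfixa 1
    · exact hc
  ext q
  exact DFunLike.congr_fun h q

end Cfsg.Agent.Lib.Helper53
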