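/-
helper53: recognition of `SL(2,3)` by generators and relations
`u^4 = 1, v^2 = u^2, v u v⁻¹ = u⁻¹, t^3 = 1, t u t⁻¹ = v, t v t⁻¹ = u v`.
-/
import Mathlib
import Cfsg.Agent.Lib.Helper53.QuatLift

set_option autoImplicit false

namespace Cfsg.Agent.Lib.Helper53

open QuaternionGroup

/-- The homomorphism `ZMod n → M` (multiplicatively) sending the generator to `t`, `t ^ n = 1`. -/
def powHom {M : Type*} [Monoid M] (n : ℕ) [NeZero n] (t : M) (h : t ^ n = 1) :
    Multiplicative (ZMod n) →* M where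
  toFun z := t ^ (Multiplicative.toAdd z).val
  map_one' := by simp
  map_mul' x y := by
    show t ^ (Multiplicative.toAdd (x * y)).val = _
    rw [toAdd_mul, ZMod.val_add, ← pow_add]
    exact (pow_eq_pow_mod _ h).symm

theorem powHom_apply {M : Type*} [Monoid M] (n : ℕ) [NeZero n] (t : M) (h : t ^ n = 1)
    (z : Multiplicative (ZMod n)) : powHom n t h z = t ^ (Multiplicative.toAdd z).val := rfl

theorem lift_compat {N A : Type*} [Group N] [Group A] (n : ℕ) [NeZero n] (γ : MulAut N)
    (hγ : γ ^ n = 1) (t : A) (ht : t ^ n = 1) (f : N →* A)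
    (hf : ∀ q, f (γ q) = t * f q * t⁻¹) :
    ∀ g, f.comp ((powHom n γ hγ) g).toMonoidHom =
      (MulAut.conj ((powHom n t ht) g)).toMonoidHom.comp f := by
  intro g
  ext q
  show f ((γ ^ (Multiplicative.toAdd g).val) q) =
    t ^ (Multiplicative.toAdd g).val * f q * (t ^ (Multiplicative.toAdd g).val)⁻¹
  generalize (Multiplicative.toAdd g).val = k
  induction k generalizing q with
  | zero => simp
  | succ k ih =>
    rw [pow_succ', MulAut.mul_apply, hf, ih, pow_succ']
    group

/-- The automorphism `a 1 ↦ xa 0`, `xa 0 ↦ xa 3` of `Q8`, as a function. -/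
def gamma0Fun : QuaternionGroup 2 → QuaternionGroup 2 := quatLiftFun 2 (xa 0) (xa 3)

theorem gamma0Fun_cube : ∀ q, gamma0Fun (gamma0Fun (gamma0Fun q)) = q := by decide

theorem gamma0Fun_mul : ∀ q r, gamma0Fun (q * r) = gamma0Fun q * gamma0Fun r := by decide

/-- The automorphism `a 1 ↦ xa 0`, `xa 0 ↦ xa 3` of `Q8`. -/
def gamma0 : MulAut (QuaternionGroup 2) where
  toFun := gamma0Fun
  invFun := fun q => gamma0Fun (gamma0Fun q)
  left_inv := gamma0Fun_cube
  right_inv := gamma0Fun_cube
  map_mul' := gamma0Fun_mul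

theorem gamma0_apply (q : QuaternionGroup 2) : gamma0 q = gamma0Fun q := rfl

theorem gamma0_cube : gamma0 ^ 3 = 1 := by
  ext q
  show (gamma0 ^ 3) q = q
  have e : gamma0 ^ 3 = gamma0 * gamma0 * gamma0 := by
    rw [pow_succ, pow_two]
  rw [e]
  simp only [MulAut.mul_apply, gamma0_apply]
  exact gamma0Fun_cube q

theorem q8_pow_four' : ∀ q : QuaternionGroup 2, q ^ 4 = 1 := by decide

/-- The model group `Q8 ⋊ C3` of order 24. -/
abbrev Model := QuaternionGroup 2 ⋊[powHom 3 gamma0 gamma0_cube] Multiplicative (ZMod 3)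

section recog

variable {A : Type*} [Group A] {u v t : A}

theorem quatLift_gamma0 (hu : u ^ (2 * 2) = 1) (hv : v * v = u ^ 2) (hc : v * u * v⁻¹ = u⁻¹)
    (htu : t * u * t⁻¹ = v) (htv : t * v * t⁻¹ = u * v) (q : QuaternionGroup 2) :
    quatLift hu hv hc (gamma0 q) = t * quatLift hu hv hc q * t⁻¹ := by
  have h : (quatLift hu hv hc).comp gamma0.toMonoidHom =
      (MulAut.conj t).toMonoidHom.comp (quatLift hu hv hc) := by
    apply MonoidHom.eq_of_eqOn_dense (closure_a_one_xa_zero 2)
    intro x hx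
    rcases hx with rfl | rfl
    · show quatLift hu hv hc (gamma0Fun (a 1)) = t * quatLift hu hv hc (a 1) * t⁻¹
      have e1 : gamma0Fun (a 1) = xa 0 := by decide
      rw [e1, quatLift_xa, quatLift_a]
      have : ((1 : ZMod (2 * 2))).val = 1 := by decide
      rw [this, ZMod.val_zero, pow_zero, mul_one, pow_one, htu]
    · show quatLift hu hv hc (gamma0Fun (xa 0)) = t * quatLift hu hv hc (xa 0) * t⁻¹
      have e1 : gamma0Fun (xa 0) = xa 3 := by decide
      rw [e1, quatLift_xa, quatLift_xa]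
      have : ((3 : ZMod (2 * 2))).val = 3 := by decide
      rw [this, ZMod.val_zero, pow_zero, mul_one, htv]
      -- v * u ^ 3 = u * v
      have h1 : v * u = u⁻¹ * v := by
        have : v * u = (v * u * v⁻¹) * v := by group
        rw [this, hc]
      have h2 : u ^ 3 = u⁻¹ := by
        have : u ^ 3 * u = 1 := by rw [← pow_succ]; exact hu
        exact eq_inv_of_mul_eq_one_left this
      rw [h2]
      have h3 : v * u⁻¹ * v⁻¹ = u := by
        have : v * u⁻¹ * v⁻¹ = (v * u * v⁻¹)⁻¹ := by group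
        rw [this, hc, inv_inv]
      calc v * u⁻¹ = (v * u⁻¹ * v⁻¹) * v := by group
        _ = u * v := by rw [h3]
  exact DFunLike.congr_fun h q

/-- The homomorphism from the model group given by `u, v, t` satisfying the relations. -/
noncomputable def recogHom (hu : u ^ (2 * 2) = 1) (hv : v * v = u ^ 2) (hc : v * u * v⁻¹ = u⁻¹)
    (ht : t ^ 3 = 1) (htu : t * u * t⁻¹ = v) (htv : t * v * t⁻¹ = u * v) : Model →* A :=
  SemidirectProduct.lift (quatLift hu hv hc) (powHom 3 t ht)
    (lift_compat 3 gamma0 gamma0_cube t ht _ (quatLift_gamma0 hu hv hc htu htv))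

theorem recogHom_apply (hu : u ^ (2 * 2) = 1) (hv : v * v = u ^ 2) (hc : v * u * v⁻¹ = u⁻¹)
    (ht : t ^ 3 = 1) (htu : t * u * t⁻¹ = v) (htv : t * v * t⁻¹ = u * v) (p : Model) :
    recogHom hu hv hc ht htu htv p =
      quatLift hu hv hc p.left * t ^ (Multiplicative.toAdd p.right).val := rfl

theorem recogHom_injective (hu : u ^ (2 * 2) = 1) (hv : v * v = u ^ 2) (hc : v * u * v⁻¹ = u⁻¹)
    (ht : t ^ 3 = 1) (htu : t * u * t⁻¹ = v) (htv : t * v * t⁻¹ = u * v)
    (hu2 : u ^ 2 ≠ 1) (ht1 : t ≠ 1) : Function.Injective (recogHom hu hv hc ht htu htv) := by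
  rw [injective_iff_map_eq_one]
  intro p hp
  rw [recogHom_apply] at hp
  set y := quatLift hu hv hc p.left with hy
  set k := (Multiplicative.toAdd p.right).val with hk
  have hy4 : y ^ 4 = 1 := by
    rw [hy, ← map_pow, q8_pow_four', map_one]
  have hy3 : y ^ 3 = 1 := by
    have : y = (t ^ k)⁻¹ := eq_inv_of_mul_eq_one_left hp
    rw [this, inv_pow, ← pow_mul, mul_comm, pow_mul, ht, one_pow, inv_one]
  have hy1 : y = 1 := by
    have : y ^ 4 = y ^ 3 * y := pow_succ y 3
    rw [hy4, hy3, one_mul] at this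
    exact this.symm
  have htk : t ^ k = 1 := by rw [hy1, one_mul] at hp; exact hp
  have hklt : k < 3 := ZMod.val_lt _
  have hk0 : k = 0 := by
    interval_cases k
    · rfl
    · exact absurd (by simpa using htk) ht1
    · exfalso
      apply ht1
      have : t ^ 3 = t ^ 2 * t := pow_succ t 2
      rw [ht, htk, one_mul] at this
      exact this.symm
  have hr : p.right = 1 := by
    have := (ZMod.val_eq_zero (Multiplicative.toAdd p.right)).mp hk0
    exact this
  have hou : orderOf u = 2 ^ 2 := by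
    apply orderOf_eq_prime_pow
    · simpa using hu2
    · simpa using hu
  have hl : p.left = 1 := by
    rcases hpl : p.left with i | i
    · rw [hpl, quatLift_a] at hy
      rw [hy] at hy1
      have hdvd : 2 ^ 2 ∣ i.val := by rw [← hou]; exact orderOf_dvd_of_pow_eq_one hy1
      have hlt : i.val < 2 * 2 := ZMod.val_lt i
      have : i.val = 0 := by
        rcases hdvd with ⟨c, hc'⟩
        omega
      have : i = 0 := (ZMod.val_eq_zero i).mp this
      rw [this]; rfl
    · exfalso
      rw [hpl, quatLift_xa] at hy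
      rw [hy] at hy1
      have hv' : v = (u ^ i.val)⁻¹ := eq_inv_of_mul_eq_one_left hy1
      have hcomm : v * u * v⁻¹ = u := by
        rw [hv']; group
      rw [hc] at hcomm
      apply hu2
      rw [pow_two]
      calc u * u = u * u⁻¹ := by rw [hcomm]
        _ = 1 := mul_inv_cancel u
  exact SemidirectProduct.ext hl hr

theorem recogHom_surjective (hu : u ^ (2 * 2) = 1) (hv : v * v = u ^ 2) (hc : v * u * v⁻¹ = u⁻¹)
    (ht : t ^ 3 = 1) (htu : t * u * t⁻¹ = v) (htv : t * v * t⁻¹ = u * v)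
    (hgen : Subgroup.closure ({u, v, t} : Set A) = ⊤) :
    Function.Surjective (recogHom hu hv hc ht htu htv) := by
  rw [← MonoidHom.range_eq_top, eq_top_iff, ← hgen, Subgroup.closure_le]
  intro x hx
  rcases hx with rfl | rfl | rfl
  · refine ⟨SemidirectProduct.inl (a 1), ?_⟩
    rw [recogHom, SemidirectProduct.lift_inl, quatLift_a]
    have : ((1 : ZMod (2 * 2))).val = 1 := by decide
    rw [this, pow_one]
  · refine ⟨SemidirectProduct.inl (xa 0), ?_⟩
    rw [recogHom, SemidirectProduct.lift_inl, quatLift_xa, ZMod.val_zero, pow_zero, mul_one]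
  · refine ⟨SemidirectProduct.inr (Multiplicative.ofAdd 1), ?_⟩
    rw [recogHom, SemidirectProduct.lift_inr, powHom_apply]
    have : (Multiplicative.toAdd (Multiplicative.ofAdd (1 : ZMod 3))).val = 1 := by decide
    rw [this, pow_one]

end recog

/-! ### The model is `SL(2,3)` -/

section SL23

/-- `SL(2,3)` -/
abbrev SL23 := Matrix.SpecialLinearGroup (Fin 2) (ZMod 3)

open Matrix in
def slU : SL23 := ⟨!![2, 2; 2, 1], by decide⟩
open Matrix in
def slV : SL23 := ⟨!![0, 1; 2, 0], by decide⟩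
open Matrix in
def slT : SL23 := ⟨!![1, 2; 0, 1], by decide⟩

theorem slU_pow : slU ^ (2 * 2) = 1 := by decide
theorem slV_sq : slV * slV = slU ^ 2 := by decide
theorem slV_conj : slV * slU * slV⁻¹ = slU⁻¹ := by decide
theorem slT_cube : slT ^ 3 = 1 := by decide
theorem slT_u : slT * slU * slT⁻¹ = slV := by decide
theorem slT_v : slT * slV * slT⁻¹ = slU * slV := by decide
theorem slU_sq_ne : slU ^ 2 ≠ 1 := by decide
theorem slT_ne : slT ≠ 1 := by decide
theorem card_SL23 : Fintype.card SL23 = 24 := by decide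

theorem card_model : Nat.card Model = 24 := by
  rw [SemidirectProduct.card, Nat.card_eq_fintype_card, Nat.card_eq_fintype_card,
    QuaternionGroup.card]
  simp

/-- The model group is isomorphic to `SL(2,3)`. -/
noncomputable def modelEquivSL23 : Model ≃* SL23 :=
  MulEquiv.ofBijective (recogHom slU_pow slV_sq slV_conj slT_cube slT_u slT_v)
    (Function.Injective.bijective_of_nat_card_le
      (recogHom_injective slU_pow slV_sq slV_conj slT_cube slT_u slT_v slU_sq_ne slT_ne)
      (by rw [card_model, Nat.card_eq_fintype_card, card_SL23]))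

end SL23

/-- **Recognition of `SL(2,3)`**: a group generated by `u, v, t` with `u^4 = 1`, `v^2 = u^2`,
`v u v⁻¹ = u⁻¹`, `t^3 = 1`, `t u t⁻¹ = v`, `t v t⁻¹ = u v`, `u^2 ≠ 1`, `t ≠ 1` is `SL(2,3)`. -/
theorem nonempty_mulEquiv_SL23 {A : Type*} [Group A] {u v t : A}
    (hu : u ^ (2 * 2) = 1) (hv : v * v = u ^ 2) (hc : v * u * v⁻¹ = u⁻¹)
    (ht : t ^ 3 = 1) (htu : t * u * t⁻¹ = v) (htv : t * v * t⁻¹ = u * v)
    (hu2 : u ^ 2 ≠ 1) (ht1 : t ≠ 1) (hgen : Subgroup.closure ({u, v, t} : Set A) = ⊤) :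
    Nonempty (A ≃* Matrix.SpecialLinearGroup (Fin 2) (ZMod 3)) :=
  ⟨(MulEquiv.ofBijective (recogHom hu hv hc ht htu htv)
      ⟨recogHom_injective hu hv hc ht htu htv hu2 ht1,
        recogHom_surjective hu hv hc ht htu htv hgen⟩).symm.trans modelEquivSL23⟩

end Cfsg.Agent.Lib.Helper53
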