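/-
helper53: a metacyclic 2-group with an automorphism of odd prime order is `Q8` or
homocyclic `C_{2^n} × C_{2^n}`.
-/
import Mathlib
import Cfsg.Agent.Lib.Helper24.ClassTwoExp
import Cfsg.Agent.Lib.Helper53.QuatLift
import Cfsg.Agent.Lib.Helper53.QuatAut
import Cfsg.Agent.Lib.Helper53.SL23Recog
import Cfsg.Agent.Lib.Helper53.FrattiniAut

set_option autoImplicit false

open scoped commutatorElement

namespace Cfsg.Agent.Lib.Helper53

section cyclic2

variable {X : Type*} [Group X]

/-- The unique involution of a cyclic group of order `2 ^ m`. -/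
theorem eq_pow_of_mem_zpowers_of_sq {a x : X} {m : ℕ} (hm : 1 ≤ m) (ha : orderOf a = 2 ^ m)
    (hx : x ∈ Subgroup.zpowers a) (hx2 : x * x = 1) (hx1 : x ≠ 1) : x = a ^ (2 ^ (m - 1)) := by
  classical
  have hfin : IsOfFinOrder a := by
    rw [← orderOf_pos_iff, ha]; positivity
  rw [hfin.mem_zpowers_iff_mem_range_orderOf] at hx
  obtain ⟨i, hi, rfl⟩ := Finset.mem_image.mp hx
  rw [Finset.mem_range, ha] at hi
  have h2 : a ^ (i + i) = 1 := by rw [pow_add]; exact hx2
  have hdvd : 2 ^ m ∣ i + i := by rw [← ha]; exact orderOf_dvd_of_pow_eq_one h2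
  have hm' : 2 ^ m = 2 * 2 ^ (m - 1) := by
    rw [← pow_succ']; congr 1; omega
  obtain ⟨j, hj⟩ := hdvd
  have hi2 : i = 2 ^ (m - 1) * j := by
    have : 2 * i = 2 * (2 ^ (m - 1) * j) := by rw [← mul_assoc, ← hm', ← hj]; ring
    exact Nat.eq_of_mul_eq_mul_left (by norm_num) this
  have hj2 : j < 2 := by
    by_contra hcon
    rw [not_lt] at hcon
    have : 2 ^ (m - 1) * 2 ≤ 2 ^ (m - 1) * j := Nat.mul_le_mul_left _ hcon
    omega
  interval_cases j
  · exfalso; apply hx1; rw [hi2]; simp
  · rw [hi2, mul_one]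

/-- A nontrivial subgroup of a cyclic group of order `2 ^ m` contains the involution. -/
theorem pow_mem_zpowers_of_ne_one {a d : X} {m : ℕ} (hm : 1 ≤ m) (ha : orderOf a = 2 ^ m)
    (hd : d ∈ Subgroup.zpowers a) (hd1 : d ≠ 1) : a ^ (2 ^ (m - 1)) ∈ Subgroup.zpowers d := by
  have hdvd : orderOf d ∣ 2 ^ m := by rw [← ha]; exact orderOf_dvd_of_mem_zpowers hd
  obtain ⟨j, hjm, hj⟩ := (Nat.dvd_prime_pow Nat.prime_two).mp hdvd
  have hj1 : 1 ≤ j := by
    rcases Nat.eq_zero_or_pos j with rfl | h
    · rw [pow_zero, orderOf_eq_one_iff] at hj; exact absurd hj hd1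
    · exact h
  set x := d ^ (2 ^ (j - 1)) with hx
  have hxd : x ∈ Subgroup.zpowers d := Subgroup.pow_mem _ (Subgroup.mem_zpowers d) _
  have hxa : x ∈ Subgroup.zpowers a := by
    have : Subgroup.zpowers d ≤ Subgroup.zpowers a := by
      rw [Subgroup.zpowers_le]; exact hd
    exact this hxd
  have hx2 : x * x = 1 := by
    rw [hx, ← pow_add, ← two_mul, ← pow_succ']
    have : j - 1 + 1 = j := by omega
    rw [this, ← hj]; exact pow_orderOf_eq_one d
  have hx1 : x ≠ 1 := by
    apply pow_ne_one_of_lt_orderOf (by positivity)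
    rw [hj]
    exact Nat.pow_lt_pow_right (by norm_num) (by omega)
  rw [← eq_pow_of_mem_zpowers_of_sq hm ha hxa hx2 hx1]
  exact hxd

end cyclic2

/-- `quatLift` into a group is injective for `n = 2` as soon as `u ^ 2 ≠ 1`. -/
theorem quatLift_two_injective {A : Type*} [Group A] {u v : A} (hu : u ^ (2 * 2) = 1)
    (hv : v * v = u ^ 2) (hc : v * u * v⁻¹ = u⁻¹) (hu2 : u ^ 2 ≠ 1) :
    Function.Injective (quatLift hu hv hc) := by
  rw [injective_iff_map_eq_one]
  intro q hq
  have hou : orderOf u = 2 ^ 2 := by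
    apply orderOf_eq_prime_pow
    · simpa using hu2
    · simpa using hu
  rcases q with i | i
  · rw [quatLift_a] at hq
    have hdvd : 2 ^ 2 ∣ i.val := by rw [← hou]; exact orderOf_dvd_of_pow_eq_one hq
    have hlt : i.val < 2 * 2 := ZMod.val_lt i
    have h0 : i.val = 0 := by
      rcases hdvd with ⟨c, hc'⟩
      omega
    have : i = 0 := (ZMod.val_eq_zero i).mp h0
    rw [this]; rfl
  · exfalso
    rw [quatLift_xa] at hq
    have hv' : v = (u ^ i.val)⁻¹ := eq_inv_of_mul_eq_one_left hq
    have hcomm : v * u * v⁻¹ = u := by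
      rw [hv']; group
    rw [hc] at hcomm
    apply hu2
    rw [pow_two]
    calc u * u = u * u⁻¹ := by rw [hcomm]
      _ = 1 := mul_inv_cancel u

/-- **Core**: a finite 2-group `X` with a cyclic normal subgroup `N`, cyclic quotient `X/N`, and an
automorphism of odd prime order is `Q8` or homocyclic of rank two. -/
theorem metacyclic_two_core {X : Type*} [Group X] [Finite X] (hX : IsPGroup 2 X)
    (N : Subgroup X) [hNn : N.Normal] (hNc : IsCyclic N) (hQc : IsCyclic (X ⧸ N))
    (α : MulAut X) (q : ℕ) [hq : Fact q.Prime] (hq2 : q ≠ 2) (hαq : α ^ q = 1) (hα1 : α ≠ 1) :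
    Nonempty (X ≃* QuaternionGroup 2) ∨
      ∃ n : ℕ, Nonempty (X ≃* Multiplicative (ZMod (2 ^ n)) × Multiplicative (ZMod (2 ^ n))) := by
  classical
  have : Fact (Nat.Prime 2) := ⟨Nat.prime_two⟩
  -- the Frattini quotient
  set Φ : Subgroup X := frattini X with hΦ
  set π : X →* X ⧸ Φ := QuotientGroup.mk' Φ with hπ
  have hπs : Function.Surjective π := QuotientGroup.mk'_surjective Φ
  have hker : ∀ x : X, π x = 1 ↔ x ∈ Φ := fun x => QuotientGroup.eq_one_iff x
  have heq : ∀ x y : X, π x = π y ↔ x⁻¹ * y ∈ Φ := fun x y => QuotientGroup.eq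
  have hsq : ∀ u : X ⧸ Φ, u * u = 1 := by
    intro u
    obtain ⟨x, rfl⟩ := hπs u
    rw [← map_mul, hker, ← pow_two]
    exact pow_prime_mem_frattini' hX x
  have hΦα : ∀ β : MulAut X, ∀ x : X, x ∈ Φ → β x ∈ Φ := fun β x hx => frattini_apply_mem' β x hx
  -- well-definedness of automorphisms on the quotient
  have hwd : ∀ β : MulAut X, ∀ x y : X, π x = π y → π (β x) = π (β y) := by
    intro β x y h
    rw [heq] at h ⊢
    have := hΦα β _ h
    rwa [map_mul, map_inv] at this
  have hwd' : ∀ x y : X, π (α x) = π (α y) → π x = π y := by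
    intro x y h
    have := hwd α⁻¹ _ _ h
    rwa [MulAut.inv_apply_self, MulAut.inv_apply_self] at this
  -- order of α
  have hoα : orderOf α = q := orderOf_eq_prime hαq hα1
  have hqodd : Nat.Coprime q 2 := (Nat.coprime_primes hq.out Nat.prime_two).mpr hq2
  -- X is not cyclic
  have hnc : ¬ IsCyclic X := by
    intro hc
    exact hα1 (aut_eq_one_of_cyclic hX α (by rw [hoα]; exact hqodd))
  have hnc' : ∀ x : X, Subgroup.zpowers x ⊔ Φ ≠ ⊤ := by
    intro x h
    have h1 : Subgroup.zpowers x = ⊤ := frattini_nongenerating h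
    exact hnc ⟨⟨x, fun y => Subgroup.mem_zpowers_iff.mp (by rw [h1]; exact Subgroup.mem_top y)⟩⟩
  -- Burnside
  have hB : ∀ β : MulAut X, β ^ q = 1 → (∀ x, π (β x) = π x) → β = 1 := by
    intro β hβq hβ
    apply aut_eq_one_of_trivial_mod_frattini hX β q hq2 hβq
    intro x
    rw [← heq]
    exact (hβ x).symm
  -- generators
  obtain ⟨⟨a1, ha1N⟩, hgenN⟩ := hNc.exists_generator
  have hNeq : N = Subgroup.zpowers a1 := by
    apply le_antisymm
    · intro x hx
      have := hgenN ⟨x, hx⟩
      rw [Subgroup.mem_zpowers_iff] at this ⊢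
      obtain ⟨k, hk⟩ := this
      exact ⟨k, by simpa using congrArg Subtype.val hk⟩
    · rw [Subgroup.zpowers_le]; exact ha1N
  obtain ⟨bq, hbq⟩ := hQc.exists_generator
  obtain ⟨b, rfl⟩ := QuotientGroup.mk_surjective bq
  have hgenab : Subgroup.closure ({a1, b} : Set X) = ⊤ := by
    rw [eq_top_iff]
    intro x _
    have hx := hbq (x : X ⧸ N)
    rw [Subgroup.mem_zpowers_iff] at hx
    obtain ⟨k, hk⟩ := hx
    have h1 : (b ^ k)⁻¹ * x ∈ N := by
      rw [← QuotientGroup.eq, QuotientGroup.mk_zpow]; exact hk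
    have e : x = b ^ k * ((b ^ k)⁻¹ * x) := by group
    rw [e]
    apply mul_mem
    · exact Subgroup.zpow_mem _ (Subgroup.subset_closure (by simp)) k
    · rw [hNeq] at h1
      have : Subgroup.zpowers a1 ≤ Subgroup.closure ({a1, b} : Set X) := by
        rw [Subgroup.zpowers_le]; exact Subgroup.subset_closure (by simp)
      exact this h1
  -- |X/Φ| ≤ 4
  have hcard4 : Nat.card (X ⧸ Φ) ≤ 4 := by
    apply card_le_four_of_closure_pair hsq (π a1) (π b)
    have h1 : (Subgroup.closure ({a1, b} : Set X)).map π = ⊤ := by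
      rw [hgenab]; exact Subgroup.map_top_of_surjective π hπs
    rw [MonoidHom.map_closure] at h1
    rw [← h1]
    congr 1
    simp [Set.image_insert_eq]
  -- generation criterion
  have hGEN : ∀ H : Subgroup X, ∀ x ∈ H, ∀ x' ∈ H, π x ≠ 1 → π x' ≠ 1 → π x ≠ π x' → H = ⊤ := by
    intro H x hx x' hx' h1 h2 h3
    apply frattini_nongenerating
    rw [eq_top_iff]
    intro y _
    have hmem : ∀ h ∈ H, π y = π h → y ∈ H ⊔ Φ := by
      intro h hh hyh
      have : h⁻¹ * y ∈ Φ := (heq h y).mp hyh.symm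
      have e : y = h * (h⁻¹ * y) := by group
      rw [e]
      exact mul_mem (Subgroup.mem_sup_left hh) (Subgroup.mem_sup_right this)
    rcases klein_all hsq hcard4 (π x) (π x') h1 h2 h3 (π y) with h | h | h | h
    · exact hmem 1 (one_mem H) (by rw [h, map_one])
    · exact hmem x hx h
    · exact hmem x' hx' h
    · exact hmem (x * x') (mul_mem hx hx') (by rw [h, map_mul])
  -- α acts fixed-point-freely on the nontrivial elements of X/Φ
  have hFPF : ∀ x : X, π x ≠ 1 → π (α x) ≠ π x := by
    intro x hx1 hfix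
    -- an element outside `{1, π x}`
    obtain ⟨y, hy1, hyx⟩ : ∃ y : X, π y ≠ 1 ∧ π y ≠ π x := by
      by_contra hcon
      push Not at hcon
      apply hnc' x
      rw [eq_top_iff]
      intro y _
      by_cases hy : π y = 1
      · exact Subgroup.mem_sup_right ((hker y).mp hy)
      · have h1 := hcon y hy
        have : x⁻¹ * y ∈ Φ := (heq x y).mp h1.symm
        have e : y = x * (x⁻¹ * y) := by group
        rw [e]
        exact mul_mem (Subgroup.mem_sup_left (Subgroup.mem_zpowers x)) (Subgroup.mem_sup_right this)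
    have hall := klein_all hsq hcard4 (π x) (π y) hx1 hy1 (Ne.symm hyx)
    -- image of y
    have hw1 : π (α y) ≠ 1 := by
      intro h
      apply hy1
      rw [hker] at h ⊢
      have := hΦα α⁻¹ _ h
      rwa [MulAut.inv_apply_self] at this
    have hwx : π (α y) ≠ π x := by
      intro h
      apply hyx
      apply hwd'
      rw [h, hfix]
    have hα2x : π (α (α x)) = π x := by
      rw [hwd α _ _ hfix, hfix]
    have hα2y : π (α (α y)) = π y := by
      rcases hall (π (α y)) with h | h | h | h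
      · exact absurd h hw1
      · exact absurd h hwx
      · rw [hwd α _ _ h, h]
      · have h' : π (α y) = π (x * y) := by rw [h, map_mul]
        rw [hwd α _ _ h', map_mul, map_mul, hfix, h, ← mul_assoc, hsq, one_mul]
    have hα2 : α ^ 2 = 1 := by
      apply hB
      · rw [← pow_mul, mul_comm, pow_mul, hαq, one_pow]
      · intro z
        have e : (α ^ 2) z = α (α z) := by rw [pow_two, MulAut.mul_apply]
        rw [e]
        rcases hall (π z) with h | h | h | h
        · rw [h, hker]
          exact hΦα α _ (hΦα α _ ((hker z).mp h))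
        · rw [hwd α _ _ (hwd α _ _ h), hα2x, h]
        · rw [hwd α _ _ (hwd α _ _ h), hα2y, h]
        · have h' : π z = π (x * y) := by rw [h, map_mul]
          rw [hwd α _ _ (hwd α _ _ h'), map_mul, map_mul, map_mul, hα2x, hα2y, h]
    have hd : orderOf α ∣ 2 := orderOf_dvd_of_pow_eq_one hα2
    rw [hoα] at hd
    exact hq2 ((Nat.prime_dvd_prime_iff_eq hq.out Nat.prime_two).mp hd)
  -- α-invariant proper subgroups lie in Φ
  have hINV : ∀ H : Subgroup X, (∀ x ∈ H, α x ∈ H) → H ≠ ⊤ → H ≤ Φ := by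
    intro H hH hHtop x hx
    by_contra hxΦ
    apply hHtop
    have h1 : π x ≠ 1 := fun h => hxΦ ((hker x).mp h)
    have h2 : π (α x) ≠ 1 := by
      intro h
      apply hxΦ
      have := hΦα α⁻¹ _ ((hker _).mp h)
      rwa [MulAut.inv_apply_self] at this
    exact hGEN H x hx (α x) (hH x hx) h1 h2 (Ne.symm (hFPF x h1))
  -- a1 ∉ Φ
  have ha1Φ : a1 ∉ Φ := by
    intro h
    apply hnc' b
    rw [eq_top_iff, ← hgenab, Subgroup.closure_le]
    intro x hx
    rcases hx with rfl | rfl
    · exact Subgroup.mem_sup_right h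
    · exact Subgroup.mem_sup_left (Subgroup.mem_zpowers _)
  have hπa1 : π a1 ≠ 1 := fun h => ha1Φ ((hker a1).mp h)
  set a2 : X := α a1 with ha2
  have hπa2 : π a2 ≠ 1 := by
    intro h
    apply ha1Φ
    have := hΦα α⁻¹ _ ((hker _).mp h)
    rwa [ha2, MulAut.inv_apply_self] at this
  have hstar : π a1 ≠ π a2 := Ne.symm (hFPF a1 hπa1)
  have hgen12 : Subgroup.closure ({a1, a2} : Set X) = ⊤ :=
    hGEN _ a1 (Subgroup.subset_closure (by simp)) a2 (Subgroup.subset_closure (by simp))
      hπa1 hπa2 hstar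
  -- commutators lie in both cyclic subgroups
  have hcomm1 : ∀ x y : X, ⁅x, y⁆ ∈ Subgroup.zpowers a1 := by
    intro x y
    rw [← hNeq, ← QuotientGroup.eq_one_iff]
    have h1 : ((⁅x, y⁆ : X) : X ⧸ N) = ⁅(x : X ⧸ N), (y : X ⧸ N)⁆ :=
      map_commutatorElement (QuotientGroup.mk' N) x y
    rw [h1, commutatorElement_eq_one_iff_commute]
    letI := IsCyclic.commGroup (α := X ⧸ N)
    exact Commute.all _ _
  have hmap12 : ∀ z ∈ Subgroup.zpowers a1, α z ∈ Subgroup.zpowers a2 := by
    intro z hz
    obtain ⟨k, rfl⟩ := Subgroup.mem_zpowers_iff.mp hz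
    rw [map_zpow]
    exact Subgroup.zpow_mem _ (Subgroup.mem_zpowers _) k
  have hcomm2 : ∀ x y : X, ⁅x, y⁆ ∈ Subgroup.zpowers a2 := by
    intro x y
    have h1 := hmap12 _ (hcomm1 (α⁻¹ x) (α⁻¹ y))
    rwa [map_commutatorElement, MulAut.apply_inv_self, MulAut.apply_inv_self] at h1
  -- the intersection is central
  have hDcen : ∀ d : X, d ∈ Subgroup.zpowers a1 → d ∈ Subgroup.zpowers a2 → ∀ x : X, d * x = x * d := by
    intro d hd1 hd2 x
    have hle : Subgroup.closure ({a1, a2} : Set X) ≤ Subgroup.centralizer {d} := by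
      rw [Subgroup.closure_le]
      intro y hy
      rw [SetLike.mem_coe, Subgroup.mem_centralizer_iff]
      intro w hw
      rw [Set.mem_singleton_iff] at hw
      subst hw
      rcases hy with hy | hy
      · obtain ⟨k, rfl⟩ := Subgroup.mem_zpowers_iff.mp hd1
        rw [hy]
        exact ((Commute.refl a1).zpow_left k).eq
      · obtain ⟨k, rfl⟩ := Subgroup.mem_zpowers_iff.mp hd2
        rw [Set.mem_singleton_iff] at hy
        rw [hy]
        exact ((Commute.refl a2).zpow_left k).eq
    have hx : x ∈ Subgroup.closure ({a1, a2} : Set X) := by rw [hgen12]; exact Subgroup.mem_top x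
    exact Subgroup.mem_centralizer_iff.mp (hle hx) d (Set.mem_singleton d)
  set c : X := ⁅a1, a2⁆ with hc
  have hc1 : c ∈ Subgroup.zpowers a1 := hcomm1 a1 a2
  have hc2 : c ∈ Subgroup.zpowers a2 := hcomm2 a1 a2
  have hccen : ∀ x : X, c * x = x * c := hDcen c hc1 hc2
  -- all commutators are powers of c
  have hcommC : ∀ f g : X, ⁅f, g⁆ ∈ Subgroup.zpowers c := by
    intro f g
    have h := Cfsg.Agent.Lib.Helper24.comm_mem_of_closure (Subgroup.zpowers c) ({a1, a2} : Set X)
      (by
        intro s hs t ht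
        rcases hs with rfl | rfl <;> rcases ht with rfl | rfl
        · rw [commutatorElement_self]; exact one_mem _
        · exact Subgroup.mem_zpowers _
        · rw [← commutatorElement_inv]; exact inv_mem (Subgroup.mem_zpowers _)
        · rw [commutatorElement_self]; exact one_mem _)
      (by
        intro z hz f _
        obtain ⟨k, rfl⟩ := Subgroup.mem_zpowers_iff.mp hz
        have : Commute c f := hccen f
        exact (this.zpow_left k).eq)
    exact h f (by rw [hgen12]; exact Subgroup.mem_top f) g (by rw [hgen12]; exact Subgroup.mem_top g)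
  -- orders
  obtain ⟨m, hm⟩ := (IsPGroup.iff_orderOf.mp hX) a1
  have hm1 : 1 ≤ m := by
    rcases Nat.eq_zero_or_pos m with rfl | h
    · rw [pow_zero, orderOf_eq_one_iff] at hm
      exact absurd (by rw [hm]; exact one_mem Φ) ha1Φ
    · exact h
  have hm2 : orderOf a2 = 2 ^ m := by rw [ha2, MulEquiv.orderOf_eq]; exact hm
  obtain ⟨k, hk⟩ := (IsPGroup.iff_orderOf.mp hX) c
  have hkm : 2 * k ≤ m := by
    have hconj : a2 * a1 * a2⁻¹ = c⁻¹ * a1 := by
      rw [hc, commutatorElement_def]; group
    have hfin : IsOfFinOrder a1 := by rw [← orderOf_pos_iff, hm]; positivity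
    obtain ⟨s, hs⟩ := (hfin.mem_powers_iff_mem_zpowers).mpr hc1
    have hs : a1 ^ s = c := hs
    have h1 : a2 * c * a2⁻¹ = (c⁻¹) ^ s * c := by
      rw [← hs, ← conj_pow, hconj, hs]
      have hcm : Commute c⁻¹ a1 := (show Commute c a1 from hccen a1).inv_left
      rw [hcm.mul_pow, hs]
    have h2 : a2 * c * a2⁻¹ = c := by
      rw [← hccen a2]; group
    rw [h2] at h1
    have h3 : c ^ s = 1 := by
      have : (c⁻¹) ^ s = 1 := by
        have := h1
        nth_rewrite 1 [← one_mul c] at this
        exact (mul_right_cancel this).symm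
      rwa [inv_pow, inv_eq_one] at this
    have hks : 2 ^ k ∣ s := by rw [← hk]; exact orderOf_dvd_of_pow_eq_one h3
    obtain ⟨s', rfl⟩ := hks
    have hcz : c ∈ Subgroup.zpowers (a1 ^ (2 ^ k)) := by
      rw [← hs, pow_mul]
      exact Subgroup.pow_mem _ (Subgroup.mem_zpowers _) _
    have hkm' : k ≤ m := by
      have : 2 ^ k ∣ 2 ^ m := by rw [← hk, ← hm]; exact orderOf_dvd_of_mem_zpowers hc1
      exact (Nat.pow_dvd_pow_iff_le_right (by norm_num)).mp this
    have ho : orderOf (a1 ^ (2 ^ k)) = 2 ^ (m - k) := by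
      rw [orderOf_pow, hm, Nat.gcd_eq_right (pow_dvd_pow 2 hkm')]
      exact Nat.pow_div hkm' (by norm_num)
    have : 2 ^ k ∣ 2 ^ (m - k) := by
      rw [← hk, ← ho]; exact orderOf_dvd_of_mem_zpowers hcz
    have := (Nat.pow_dvd_pow_iff_le_right (by norm_num)).mp this
    omega
  -- zpowers-membership helper: trivial intersection criterion
  have hcase : (m = 2 ∧ k = 1) ∨ 2 ^ k ∣ (2 ^ (m - 1)).choose 2 := by
    by_cases h : m = 2 ∧ k = 1
    · exact Or.inl h
    · right
      rcases Nat.lt_or_ge m 2 with hlt | hge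
      · have : m = 1 := by omega
        subst this
        simp
      · have hk2 : k ≤ m - 2 := by
          rcases Nat.lt_or_ge m 3 with h3 | h3
          · have hm2' : m = 2 := by omega
            have : k ≠ 1 := fun hk1 => h ⟨hm2', hk1⟩
            omega
          · omega
        have hA : 2 ^ (m - 1) = 2 * 2 ^ (m - 2) := by
          rw [← pow_succ']; congr 1; omega
        have hch : (2 ^ (m - 1)).choose 2 = 2 ^ (m - 2) * (2 ^ (m - 1) - 1) := by
          rw [Nat.choose_two_right]
          conv_lhs => rw [hA]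
          rw [mul_assoc, Nat.mul_div_cancel_left _ (by norm_num : 0 < 2), ← hA]
        rw [hch]
        exact Dvd.dvd.mul_right (pow_dvd_pow 2 hk2) _
  rcases hcase with ⟨hm2', hk1⟩ | hdvd
  · -- the quaternion case
    left
    subst hm2'
    subst hk1
    have hc_ne : c ≠ 1 := by
      intro h
      rw [h, orderOf_one] at hk
      norm_num at hk
    have hcc : c * c = 1 := by
      have := pow_orderOf_eq_one c
      rwa [hk, pow_one, pow_two] at this
    have hca1 : c = a1 ^ 2 := by
      have := eq_pow_of_mem_zpowers_of_sq (m := 2) (by norm_num) hm hc1 hcc hc_ne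
      simpa using this
    have hca2 : c = a2 ^ 2 := by
      have := eq_pow_of_mem_zpowers_of_sq (m := 2) (by norm_num) hm2 hc2 hcc hc_ne
      simpa using this
    have hu : a1 ^ (2 * 2) = 1 := by
      have := pow_orderOf_eq_one a1
      rwa [hm] at this
    have hv : a2 * a2 = a1 ^ 2 := by rw [← pow_two, ← hca2, hca1]
    have hconj : a2 * a1 * a2⁻¹ = a1⁻¹ := by
      have h1 : a2 * a1 * a2⁻¹ = c⁻¹ * a1 := by
        rw [hc, commutatorElement_def]; group
      rw [h1, hca1]
      group
    have hu2 : a1 ^ 2 ≠ 1 := by rw [← hca1]; exact hc_ne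
    have hinj := quatLift_two_injective hu hv hconj hu2
    have hsurj : Function.Surjective (quatLift hu hv hconj) := by
      rw [← MonoidHom.range_eq_top, eq_top_iff, ← hgen12, Subgroup.closure_le]
      intro x hx
      rcases hx with hx | hx
      · refine ⟨QuaternionGroup.a 1, ?_⟩
        rw [quatLift_a, hx]
        have : ((1 : ZMod (2 * 2))).val = 1 := by decide
        rw [this, pow_one]
      · rw [Set.mem_singleton_iff] at hx
        refine ⟨QuaternionGroup.xa 0, ?_⟩
        rw [quatLift_xa, hx, ZMod.val_zero, pow_zero, mul_one]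
    exact ⟨(MulEquiv.ofBijective _ ⟨hinj, hsurj⟩).symm⟩
  · -- the homocyclic case
    right
    refine ⟨m, ?_⟩
    set n : ℕ := 2 ^ (m - 1) with hn
    have hpow : ∀ x y : X, (x * y) ^ n = x ^ n * y ^ n := by
      intro x y
      have hz : y * x = ⁅y, x⁆ * x * y := by
        rw [commutatorElement_def]; group
      have hzc := hcommC y x
      obtain ⟨j, hj⟩ := Subgroup.mem_zpowers_iff.mp hzc
      have hzx : Commute ⁅y, x⁆ x := by
        rw [← hj]; exact (show Commute c x from hccen x).zpow_left j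
      have hzy : Commute ⁅y, x⁆ y := by
        rw [← hj]; exact (show Commute c y from hccen y).zpow_left j
      rw [Cfsg.Agent.Lib.Helper24.mul_pow_of_central_comm x y _ hz hzx hzy n]
      have h1 : ⁅y, x⁆ ^ (n.choose 2) = 1 := by
        obtain ⟨t, ht⟩ := hdvd
        rw [ht, pow_mul]
        have : ⁅y, x⁆ ^ 2 ^ k = 1 := by
          rw [← hj, ← zpow_natCast, ← zpow_mul, mul_comm, zpow_mul, zpow_natCast, ← hk,
            pow_orderOf_eq_one, one_zpow]
        rw [this, one_pow]
      rw [h1, mul_one]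
    set Pm : X →* X := MonoidHom.mk' (fun x => x ^ n) hpow with hPm
    have hKinv : ∀ x ∈ Pm.ker, α x ∈ Pm.ker := by
      intro x hx
      rw [MonoidHom.mem_ker] at hx ⊢
      show (α x) ^ n = 1
      rw [← map_pow]
      have : x ^ n = 1 := hx
      rw [this, map_one]
    have hn0 : n ≠ 0 := by positivity
    have hnlt : n < 2 ^ m := by
      rw [hn]; exact Nat.pow_lt_pow_right (by norm_num) (by omega)
    have hKtop : Pm.ker ≠ ⊤ := by
      intro h
      have h1 : a1 ∈ Pm.ker := by rw [h]; exact Subgroup.mem_top a1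
      rw [MonoidHom.mem_ker] at h1
      have h2 : a1 ^ n = 1 := h1
      exact pow_ne_one_of_lt_orderOf hn0 (by rw [hm]; exact hnlt) h2
    have hKΦ : Pm.ker ≤ Φ := hINV _ hKinv hKtop
    -- trivial intersection
    have hD : ∀ d : X, d ∈ Subgroup.zpowers a1 → d ∈ Subgroup.zpowers a2 → d = 1 := by
      intro d hd1 hd2
      by_contra hd
      have ht1 : a1 ^ n ∈ Subgroup.zpowers d := pow_mem_zpowers_of_ne_one hm1 hm hd1 hd
      have ht2 : a1 ^ n ∈ Subgroup.zpowers a2 := by
        have : Subgroup.zpowers d ≤ Subgroup.zpowers a2 := by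
          rw [Subgroup.zpowers_le]; exact hd2
        exact this ht1
      have hsq1 : a1 ^ n * a1 ^ n = 1 := by
        rw [← pow_add, ← two_mul, hn, ← pow_succ']
        have : m - 1 + 1 = m := by omega
        rw [this, ← hm]; exact pow_orderOf_eq_one a1
      have hne1 : a1 ^ n ≠ 1 := pow_ne_one_of_lt_orderOf hn0 (by rw [hm]; exact hnlt)
      have hteq : a1 ^ n = a2 ^ n := eq_pow_of_mem_zpowers_of_sq hm1 hm2 ht2 hsq1 hne1
      have hmem : a1 * a2⁻¹ ∈ Pm.ker := by
        rw [MonoidHom.mem_ker]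
        show (a1 * a2⁻¹) ^ n = 1
        rw [hpow, inv_pow, hteq, mul_inv_cancel]
      have := hKΦ hmem
      apply hstar
      have h1 : π (a1 * a2⁻¹) = 1 := (hker _).mpr this
      rw [map_mul, map_inv, mul_inv_eq_one] at h1
      exact h1
    -- X is commutative
    have hXcomm : ∀ x y : X, x * y = y * x := by
      intro x y
      have h1 : ⁅x, y⁆ = 1 := hD _ (hcomm1 x y) (hcomm2 x y)
      rw [commutatorElement_eq_one_iff_commute] at h1
      exact h1.eq
    letI : CommGroup X := { (inferInstance : Group X) with mul_comm := hXcomm }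
    haveI : NeZero (2 ^ m) := ⟨by positivity⟩
    have h1m : a1 ^ (2 ^ m) = 1 := by rw [← hm]; exact pow_orderOf_eq_one a1
    have h2m : a2 ^ (2 ^ m) = 1 := by rw [← hm2]; exact pow_orderOf_eq_one a2
    set f : Multiplicative (ZMod (2 ^ m)) × Multiplicative (ZMod (2 ^ m)) →* X :=
      MonoidHom.coprod (powHom (2 ^ m) a1 h1m) (powHom (2 ^ m) a2 h2m) with hf
    have hfapp : ∀ z, f z = a1 ^ (Multiplicative.toAdd z.1).val * a2 ^ (Multiplicative.toAdd z.2).val := by
      intro z
      rw [hf, MonoidHom.coprod_apply, powHom_apply, powHom_apply]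
    have hsurj : Function.Surjective f := by
      rw [← MonoidHom.range_eq_top, eq_top_iff, ← hgen12, Subgroup.closure_le]
      intro x hx
      have h1v : (Multiplicative.toAdd (Multiplicative.ofAdd (1 : ZMod (2 ^ m)))).val = 1 % 2 ^ m := by
        rw [toAdd_ofAdd, ZMod.val_one_eq_one_mod]
      have h1' : ∀ y : X, y ^ (2 ^ m) = 1 → y ^ (1 % 2 ^ m) = y := by
        intro y hy
        rw [← pow_eq_pow_mod 1 hy, pow_one]
      rcases hx with hx | hx
      · refine ⟨(Multiplicative.ofAdd 1, 1), ?_⟩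
        rw [hfapp]
        simp only [toAdd_one, ZMod.val_zero, pow_zero, mul_one]
        rw [h1v, h1' a1 h1m, hx]
      · rw [Set.mem_singleton_iff] at hx
        refine ⟨(1, Multiplicative.ofAdd 1), ?_⟩
        rw [hfapp]
        simp only [toAdd_one, ZMod.val_zero, pow_zero, one_mul]
        rw [h1v, h1' a2 h2m, hx]
    have hinj : Function.Injective f := by
      rw [injective_iff_map_eq_one]
      intro z hz
      rw [hfapp] at hz
      set i := (Multiplicative.toAdd z.1).val with hi
      set j := (Multiplicative.toAdd z.2).val with hj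
      have hmem1 : a1 ^ i ∈ Subgroup.zpowers a1 := Subgroup.pow_mem _ (Subgroup.mem_zpowers _) _
      have hmem2 : a1 ^ i ∈ Subgroup.zpowers a2 := by
        have : a1 ^ i = (a2 ^ j)⁻¹ := eq_inv_of_mul_eq_one_left hz
        rw [this]
        exact inv_mem (Subgroup.pow_mem _ (Subgroup.mem_zpowers _) _)
      have hi1 : a1 ^ i = 1 := hD _ hmem1 hmem2
      have hj1 : a2 ^ j = 1 := by rw [hi1, one_mul] at hz; exact hz
      have hilt : i < 2 ^ m := ZMod.val_lt _
      have hjlt : j < 2 ^ m := ZMod.val_lt _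
      have hi0 : i = 0 := by
        by_contra h0
        exact pow_ne_one_of_lt_orderOf h0 (by rw [hm]; exact hilt) hi1
      have hj0 : j = 0 := by
        by_contra h0
        exact pow_ne_one_of_lt_orderOf h0 (by rw [hm2]; exact hjlt) hj1
      have hz1 : z.1 = 1 := (ZMod.val_eq_zero (Multiplicative.toAdd z.1)).mp hi0
      have hz2 : z.2 = 1 := (ZMod.val_eq_zero (Multiplicative.toAdd z.2)).mp hj0
      exact Prod.ext hz1 hz2
    exact ⟨(MulEquiv.ofBijective f ⟨hinj, hsurj⟩).symm⟩

end Cfsg.Agent.Lib.Helper53
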