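/-
helper53: odd-order automorphisms of the quaternion group `Q8 = QuaternionGroup 2`.
-/
import Mathlib

set_option autoImplicit false

namespace Cfsg.Agent.Lib.Helper53

open QuaternionGroup

theorem q8_sq_cases : ∀ q : QuaternionGroup 2, q * q = a 2 ∨ q = 1 ∨ q = a 2 := by decide

theorem q8_invol : ∀ q : QuaternionGroup 2, q * q = 1 → q ≠ 1 → q = a 2 := by decide

theorem q8_conj : ∀ i j : QuaternionGroup 2, i * i = a 2 → j * j = a 2 → j ≠ i → j ≠ i⁻¹ →
    j * i * j⁻¹ = i⁻¹ := by decide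

theorem q8_jij : ∀ i j : QuaternionGroup 2, i * i = a 2 → j * j = a 2 → j ≠ i → j ≠ i⁻¹ →
    j * i * j = i := by decide

theorem q8_ne_symm : ∀ i j : QuaternionGroup 2, j ≠ i⁻¹ → i ≠ j⁻¹ := by decide

theorem q8_pow_four : ∀ q : QuaternionGroup 2, q ^ 4 = 1 := by decide

theorem q8_a_two_ne_one : (a 2 : QuaternionGroup 2) ≠ 1 := by decide

theorem q8_a_two_mul_self : (a 2 : QuaternionGroup 2) * a 2 = 1 := by decide

set_option maxRecDepth 100000 in
theorem q8_third : ∀ i j k : QuaternionGroup 2, i * i = a 2 → j * j = a 2 → k * k = a 2 →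
    j ≠ i → j ≠ i⁻¹ → k ≠ i → k ≠ i⁻¹ → k ≠ j → k ≠ j⁻¹ → k = i * j ∨ k = j * i := by decide

/-- If `β ^ n` fixes `i` and `n` is coprime to the order of `β`, then `β` fixes `i`. -/
theorem fixed_of_pow_fixed {M : Type*} [Group M] (β : MulAut M) (n : ℕ)
    (hn : n.Coprime (orderOf β)) (i : M) (h : (β ^ n) i = i) : β i = i := by
  obtain ⟨m, hm⟩ := exists_pow_eq_self_of_coprime hn
  have key : ∀ k : ℕ, ((β ^ n) ^ k) i = i := by
    intro k
    induction k with
    | zero => simp
    | succ k ih => rw [pow_succ, MulAut.mul_apply, h, ih]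
  have := key m
  rwa [hm] at this

/-- A nontrivial automorphism of odd order of `Q8` (or its inverse) cyclically permutes
`u → v → u * v` for a pair of generators. -/
theorem q8_aut_odd (β : MulAut (QuaternionGroup 2)) (hodd : (orderOf β).Coprime 2) (hne : β ≠ 1) :
    ∃ (γ : MulAut (QuaternionGroup 2)) (u v : QuaternionGroup 2), (γ = β ∨ γ = β⁻¹) ∧
      u * u = a 2 ∧ v * v = a 2 ∧ v ≠ u ∧ v ≠ u⁻¹ ∧ γ u = v ∧ γ v = u * v := by
  have h2 : Nat.Coprime 2 (orderOf β) := hodd.symm
  have h4 : Nat.Coprime 4 (orderOf β) := by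
    have : (4 : ℕ) = 2 ^ 2 := by norm_num
    rw [this]; exact Nat.Coprime.pow_left 2 h2
  have hβ2 : β (a 2) = a 2 := by
    apply q8_invol
    · rw [← map_mul, q8_a_two_mul_self, map_one]
    · intro h
      have : (a 2 : QuaternionGroup 2) = 1 := β.injective (by rw [h, map_one])
      exact q8_a_two_ne_one this
  have hS : ∀ q : QuaternionGroup 2, q * q = a 2 → β q * β q = a 2 := by
    intro q hq; rw [← map_mul, hq, hβ2]
  have step1 : ∃ i : QuaternionGroup 2, i * i = a 2 ∧ β i ≠ i ∧ β i ≠ i⁻¹ := by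
    by_contra hcon
    push Not at hcon
    apply hne
    ext q
    show β q = q
    apply fixed_of_pow_fixed β 2 h2
    rw [pow_two, MulAut.mul_apply]
    rcases q8_sq_cases q with hq | rfl | rfl
    · by_cases h1 : β q = q
      · rw [h1, h1]
      · have h3 := hcon q hq h1
        rw [h3, map_inv, h3, inv_inv]
    · simp
    · rw [hβ2, hβ2]
  obtain ⟨i, hi, hji, hji'⟩ := step1
  have hjS : β i * β i = a 2 := hS i hi
  have hkS : β (β i) * β (β i) = a 2 := hS _ hjS
  have hkj : β (β i) ≠ β i := fun h => hji (β.injective h)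
  have hkj' : β (β i) ≠ (β i)⁻¹ := by
    intro h
    apply hji'
    apply β.injective
    rw [map_inv]; exact h
  have hki : β (β i) ≠ i := by
    intro h
    apply hji
    apply fixed_of_pow_fixed β 2 h2
    rw [pow_two, MulAut.mul_apply]; exact h
  have hki' : β (β i) ≠ i⁻¹ := by
    intro h
    apply hji
    apply fixed_of_pow_fixed β 4 h4
    have e : β ^ 4 = β * β * (β * β) := by
      rw [← pow_two, ← pow_two, ← pow_mul]
    rw [e]
    simp only [MulAut.mul_apply]
    rw [h, map_inv, map_inv, h, inv_inv]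
  rcases q8_third i (β i) (β (β i)) hi hjS hkS hji hji' hki hki' hkj hkj' with h | h
  · exact ⟨β, i, β i, Or.inl rfl, hi, hjS, hji, hji', rfl, h⟩
  · refine ⟨β⁻¹, β i, i, Or.inr rfl, hjS, hi, fun h' => hji h'.symm,
      q8_ne_symm _ _ hji', MulAut.inv_apply_self _ β i, ?_⟩
    have e : β (β i * i) = i := by
      rw [map_mul, h]
      have := q8_jij i (β i) hi hjS hji hji'
      rw [mul_assoc] at this ⊢
      exact this
    calc β⁻¹ i = β⁻¹ (β (β i * i)) := by rw [e]
      _ = β i * i := MulAut.inv_apply_self _ β _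

end Cfsg.Agent.Lib.Helper53
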