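/-
helper53: a `p`-element of `SL(2, F)` (char `F = p` odd) acting nontrivially on a `p'`-subgroup.
Abstract group-theoretic ingredients.
-/
import Mathlib
import Cfsg.Agent.S0016
import Cfsg.Agent.Lib.Helper53.Q8Aut
import Cfsg.Agent.Lib.Helper53.QuatAut
import Cfsg.Agent.Lib.Helper53.SL23Recog
import Cfsg.Agent.Lib.Helper53.MetacyclicTwo

set_option autoImplicit false

namespace Cfsg.Agent.Lib.Helper53

open scoped Pointwise

/-- An automorphism of prime order `p` of a finite `p'`-group fixes some Sylow `r`-subgroup, whose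
centre contains a nontrivial element. -/
theorem exists_invariant_rsubgroup {R : Type*} [Group R] [Finite R] (β : MulAut R) (p : ℕ)
    [hp : Fact p.Prime] (hβp : β ^ p = 1) (hRp : (Nat.card R).Coprime p) (r : ℕ)
    [hr : Fact r.Prime] (hrR : r ∣ Nat.card R) :
    ∃ S : Subgroup R, IsPGroup r S ∧ (∀ s ∈ S, β s ∈ S) ∧
      ∃ g ∈ S, g ≠ 1 ∧ ∀ s ∈ S, g * s = s * g := by
  classical
  have hZp : IsPGroup p (Subgroup.zpowers β) := by
    rw [IsPGroup]
    rintro ⟨x, hx⟩
    obtain ⟨k, rfl⟩ := Subgroup.mem_zpowers_iff.mp hx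
    refine ⟨1, ?_⟩
    apply Subtype.ext
    rw [pow_one]
    show (β ^ k) ^ p = 1
    rw [← zpow_natCast, ← zpow_mul, mul_comm, zpow_mul, zpow_natCast, hβp, one_zpow]
  have hnd : ¬ p ∣ Nat.card (Sylow r R) := by
    intro hdvd
    obtain ⟨S0⟩ : Nonempty (Sylow r R) := inferInstance
    have h1 : Nat.card (Sylow r R) ∣ Nat.card R :=
      (Sylow.card_dvd_index S0).trans (Subgroup.index_dvd_card _)
    have h2 : p ∣ Nat.card R := hdvd.trans h1
    have := Nat.Coprime.eq_one_of_dvd hRp.symm h2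
    exact hp.out.one_lt.ne' this
  obtain ⟨S, hS⟩ := hZp.nonempty_fixed_point_of_prime_not_dvd_card (Sylow r R) hnd
  have hβS : β • S = S := by
    have := hS ⟨β, Subgroup.mem_zpowers β⟩
    exact this
  have hβS' : β • (S : Subgroup R) = (S : Subgroup R) := by
    have := congrArg (fun T : Sylow r R => (T : Subgroup R)) hβS
    exact this
  have hinv : ∀ s ∈ (S : Subgroup R), β s ∈ (S : Subgroup R) := by
    intro s hs
    have h1 : β • s ∈ β • (S : Subgroup R) := Subgroup.smul_mem_pointwise_smul s β _ hs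
    rw [hβS'] at h1
    exact h1
  have hne : (S : Subgroup R) ≠ ⊥ := S.ne_bot_of_dvd_card hrR
  have hnt : Nontrivial (S : Subgroup R) := (Subgroup.nontrivial_iff_ne_bot _).mpr hne
  have hcen : Nontrivial (Subgroup.center (S : Subgroup R)) := S.isPGroup'.center_nontrivial
  obtain ⟨⟨g, hg⟩, hg1⟩ := exists_ne (1 : Subgroup.center (S : Subgroup R))
  refine ⟨S, S.isPGroup', hinv, (g : R), g.2, ?_, ?_⟩
  · intro h
    apply hg1
    apply Subtype.ext
    apply Subtype.ext
    exact h
  · intro s hs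
    have := Subgroup.mem_center_iff.mp hg ⟨s, hs⟩
    have h2 := congrArg Subtype.val this
    exact h2.symm

/-- If all involutions of a group coincide, so do all subgroups of order `2`. -/
theorem uniq_order_two_of_unique_involution {R : Type*} [Group R]
    (h : ∀ g g' : R, g * g = 1 → g ≠ 1 → g' * g' = 1 → g' ≠ 1 → g = g') :
    ∀ H K : Subgroup R, Nat.card H = 2 → Nat.card K = 2 → H = K := by
  have key : ∀ H : Subgroup R, Nat.card H = 2 →
      ∃ x : R, x * x = 1 ∧ x ≠ 1 ∧ H = Subgroup.zpowers x := by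
    intro H hH
    have hfin : Finite H := Nat.finite_of_card_ne_zero (by rw [hH]; norm_num)
    have : Fact (Nat.Prime 2) := ⟨Nat.prime_two⟩
    obtain ⟨x, hx⟩ := exists_prime_orderOf_dvd_card' (G := H) 2 (by rw [hH])
    have hx' : orderOf (x : R) = 2 := by rw [Subgroup.orderOf_coe]; exact hx
    refine ⟨(x : R), ?_, ?_, ?_⟩
    · rw [← pow_two, ← hx']; exact pow_orderOf_eq_one _
    · intro h1
      rw [h1, orderOf_one] at hx'
      norm_num at hx'
    · symm
      apply Subgroup.eq_of_le_of_card_ge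
      · rw [Subgroup.zpowers_le]; exact x.2
      · rw [Nat.card_zpowers, hx', hH]
  intro H K hH hK
  obtain ⟨x, hx2, hx1, rfl⟩ := key H hH
  obtain ⟨y, hy2, hy1, rfl⟩ := key K hK
  rw [h x y hx2 hx1 hy2 hy1]

theorem q8_gen : ∀ u v : QuaternionGroup 2, u * u = QuaternionGroup.a 2 →
    v * v = QuaternionGroup.a 2 → v ≠ u → v ≠ u⁻¹ →
    ∀ q : QuaternionGroup 2, q = 1 ∨ q = u ∨ q = u * u ∨ q = u * u * u ∨ q = v ∨ q = v * u ∨
      q = v * (u * u) ∨ q = v * (u * u * u) := by decide

/-- A nontrivial automorphism of odd order of a group isomorphic to `Q8`: up to inversion it maps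
`u ↦ v ↦ u v` for generators `u, v` satisfying the quaternion relations; in particular it has
order `3`. -/
theorem q8_group_aut_odd {R : Type*} [Group R] (e : R ≃* QuaternionGroup 2) (β : MulAut R)
    (hodd : (orderOf β).Coprime 2) (hne : β ≠ 1) :
    ∃ (γ : MulAut R) (u v : R), (γ = β ∨ γ = β⁻¹) ∧ u ^ (2 * 2) = 1 ∧ v * v = u ^ 2 ∧
      v * u * v⁻¹ = u⁻¹ ∧ γ u = v ∧ γ v = u * v ∧ u ^ 2 ≠ 1 ∧
      Subgroup.closure ({u, v} : Set R) = ⊤ ∧ γ ^ 3 = 1 := by
  have hβ'odd : (orderOf (MulAut.congr e β)).Coprime 2 := by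
    rw [MulEquiv.orderOf_eq]; exact hodd
  have hβ'ne : MulAut.congr e β ≠ 1 := by
    intro h
    exact hne ((MulEquiv.map_eq_one_iff (MulAut.congr e)).mp h)
  obtain ⟨γ₀, u₀, v₀, hγ, hu₀, hv₀, hvu, hvu', hγu, hγv⟩ := q8_aut_odd _ hβ'odd hβ'ne
  obtain ⟨γ, hγβ, hγ₀⟩ : ∃ γ : MulAut R, (γ = β ∨ γ = β⁻¹) ∧ γ₀ = MulAut.congr e γ := by
    rcases hγ with rfl | rfl
    · exact ⟨β, Or.inl rfl, rfl⟩
    · exact ⟨β⁻¹, Or.inr rfl, by rw [map_inv]⟩
  have key : ∀ q₀, e.symm (γ₀ q₀) = γ (e.symm q₀) := by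
    intro q₀
    rw [hγ₀]
    show e.symm (e (γ (e.symm q₀))) = _
    rw [MulEquiv.symm_apply_apply]
  have h4 : (2 * 2 : ℕ) = 4 := by norm_num
  set u := e.symm u₀ with hu
  set v := e.symm v₀ with hv
  have hu4 : u ^ (2 * 2) = 1 := by rw [hu, ← map_pow, h4, q8_pow_four, map_one]
  have hvv : v * v = u ^ 2 := by rw [hu, hv, ← map_mul, ← map_pow, hv₀, pow_two, hu₀]
  have hconj : v * u * v⁻¹ = u⁻¹ := by
    rw [hu, hv, ← map_inv, ← map_mul, ← map_mul, ← map_inv, q8_conj u₀ v₀ hu₀ hv₀ hvu hvu']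
  have hγu' : γ u = v := by rw [hu, ← key, hγu]
  have hγv' : γ v = u * v := by rw [hv, ← key, hγv, map_mul]
  have hu2 : u ^ 2 ≠ 1 := by
    rw [hu, ← map_pow, pow_two, hu₀]
    intro h
    apply q8_a_two_ne_one
    apply e.symm.injective
    rw [h, map_one]
  have hgen : Subgroup.closure ({u, v} : Set R) = ⊤ := by
    rw [eq_top_iff]
    intro x _
    have hu_mem : u ∈ Subgroup.closure ({u, v} : Set R) := Subgroup.subset_closure (by simp)
    have hv_mem : v ∈ Subgroup.closure ({u, v} : Set R) := Subgroup.subset_closure (by simp)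
    have hx : x = e.symm (e x) := (e.symm_apply_apply x).symm
    rw [hx]
    rcases q8_gen u₀ v₀ hu₀ hv₀ hvu hvu' (e x) with h | h | h | h | h | h | h | h <;> rw [h]
    · rw [map_one]; exact one_mem _
    · exact hu_mem
    · rw [map_mul]; exact mul_mem hu_mem hu_mem
    · rw [map_mul, map_mul]; exact mul_mem (mul_mem hu_mem hu_mem) hu_mem
    · exact hv_mem
    · rw [map_mul]; exact mul_mem hv_mem hu_mem
    · rw [map_mul, map_mul]; exact mul_mem hv_mem (mul_mem hu_mem hu_mem)
    · rw [map_mul, map_mul, map_mul]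
      exact mul_mem hv_mem (mul_mem (mul_mem hu_mem hu_mem) hu_mem)
  have hvuv : v * (u * v) = u := by
    have h1 : v * u = u⁻¹ * v := by
      have : v * u = (v * u * v⁻¹) * v := by group
      rw [this, hconj]
    calc v * (u * v) = (v * u) * v := by group
      _ = u⁻¹ * v * v := by rw [h1]
      _ = u⁻¹ * (v * v) := by group
      _ = u⁻¹ * u ^ 2 := by rw [hvv]
      _ = u := by group
  have hγ3 : γ ^ 3 = 1 := by
    have e3 : ∀ x, (γ ^ 3) x = γ (γ (γ x)) := by
      intro x
      rw [pow_succ, pow_two]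
      simp only [MulAut.mul_apply]
    have h : (γ ^ 3).toMonoidHom = MonoidHom.id R := by
      apply MonoidHom.eq_of_eqOn_dense hgen
      intro x hx
      rcases hx with hx | hx
      · rw [hx]
        show (γ ^ 3) u = u
        rw [e3, hγu', hγv', map_mul, hγu', hγv', hvuv]
      · rw [Set.mem_singleton_iff] at hx
        rw [hx]
        show (γ ^ 3) v = v
        rw [e3, hγv', map_mul, hγu', hγv', hvuv, hγu']
    ext x
    exact DFunLike.congr_fun h x
  exact ⟨γ, u, v, hγβ, hu4, hvv, hconj, hγu', hγv', hu2, hgen, hγ3⟩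

/-- The subgroup generated by `u, v, t` satisfying the `SL(2,3)` relations is `SL(2,3)`. -/
theorem closure_mulEquiv_SL23 {G : Type*} [Group G] (u v t : G) (hu : u ^ (2 * 2) = 1)
    (hv : v * v = u ^ 2) (hc : v * u * v⁻¹ = u⁻¹) (ht : t ^ 3 = 1) (htu : t * u * t⁻¹ = v)
    (htv : t * v * t⁻¹ = u * v) (hu2 : u ^ 2 ≠ 1) (ht1 : t ≠ 1) :
    Nonempty (↥(Subgroup.closure ({u, v, t} : Set G)) ≃*
      Matrix.SpecialLinearGroup (Fin 2) (ZMod 3)) := by
  set S : Set G := {u, v, t} with hS
  set H : Subgroup G := Subgroup.closure S with hH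
  have huS : u ∈ H := Subgroup.subset_closure (by simp [hS])
  have hvS : v ∈ H := Subgroup.subset_closure (by simp [hS])
  have htS : t ∈ H := Subgroup.subset_closure (by simp [hS])
  set uH : H := ⟨u, huS⟩ with huH
  set vH : H := ⟨v, hvS⟩ with hvH
  set tH : H := ⟨t, htS⟩ with htH
  apply nonempty_mulEquiv_SL23 (u := uH) (v := vH) (t := tH)
  · exact Subtype.ext (by simpa [huH] using hu)
  · exact Subtype.ext (by simpa [huH, hvH] using hv)
  · exact Subtype.ext (by simpa [huH, hvH] using hc)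
  · exact Subtype.ext (by simpa [htH] using ht)
  · exact Subtype.ext (by simpa [huH, hvH, htH] using htu)
  · exact Subtype.ext (by simpa [huH, hvH, htH] using htv)
  · intro h
    apply hu2
    have := congrArg Subtype.val h
    simpa [huH] using this
  · intro h
    apply ht1
    have := congrArg Subtype.val h
    simpa [htH] using this
  · have h1 := Subgroup.closure_closure_coe_preimage (k := S)
    have h2 : ({uH, vH, tH} : Set H) = ((↑) : H → G) ⁻¹' S := by
      ext y
      simp [hS, huH, hvH, htH, Subtype.ext_iff]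
    rw [h2]; exact h1

end Cfsg.Agent.Lib.Helper53
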