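/-
helper53: elementary matrix facts about `SL(2, F)`: upper unitriangular elements, their
centralizers, and the standard form of a unipotent element.
-/
import Mathlib

set_option autoImplicit false

namespace Cfsg.Agent.Lib.Helper53

open Matrix

variable {F : Type*} [Field F]

/-- The upper unitriangular matrix `[[1, e], [0, 1]]` in `SL(2, F)`. -/
def unitri (e : F) : Matrix.SpecialLinearGroup (Fin 2) F :=
  ⟨!![1, e; 0, 1], by simp [Matrix.det_fin_two]⟩

theorem unitri_val (e : F) : (unitri e).1 = !![1, e; 0, 1] := rfl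

/-- Entries and determinant of an element of `SL(2, F)`. -/
theorem sl2_eta (g : Matrix.SpecialLinearGroup (Fin 2) F) :
    g.1 = !![g.1 0 0, g.1 0 1; g.1 1 0, g.1 1 1] := Matrix.eta_fin_two g.1

theorem sl2_det (g : Matrix.SpecialLinearGroup (Fin 2) F) :
    g.1 0 0 * g.1 1 1 - g.1 0 1 * g.1 1 0 = 1 := by
  have := g.2
  rwa [Matrix.det_fin_two] at this

theorem sl2_ext {g h : Matrix.SpecialLinearGroup (Fin 2) F} (h00 : g.1 0 0 = h.1 0 0)
    (h01 : g.1 0 1 = h.1 0 1) (h10 : g.1 1 0 = h.1 1 0) (h11 : g.1 1 1 = h.1 1 1) : g = h := by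
  apply Subtype.ext
  rw [sl2_eta g, sl2_eta h, h00, h01, h10, h11]

theorem sl2_mul_val (g h : Matrix.SpecialLinearGroup (Fin 2) F) :
    (g * h).1 = !![g.1 0 0 * h.1 0 0 + g.1 0 1 * h.1 1 0, g.1 0 0 * h.1 0 1 + g.1 0 1 * h.1 1 1;
      g.1 1 0 * h.1 0 0 + g.1 1 1 * h.1 1 0, g.1 1 0 * h.1 0 1 + g.1 1 1 * h.1 1 1] := by
  show g.1 * h.1 = _
  conv_lhs => rw [sl2_eta g, sl2_eta h]
  rw [Matrix.mul_fin_two]

theorem unitri_mul (e e' : F) : unitri e * unitri e' = unitri (e + e') := by
  apply sl2_ext <;> simp [unitri_val]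
  ring

theorem unitri_zero : unitri (0 : F) = 1 := by
  apply sl2_ext <;> simp [unitri_val]

theorem unitri_pow (e : F) (n : ℕ) : unitri e ^ n = unitri (n * e) := by
  induction n with
  | zero => simp [unitri_zero]
  | succ n ih =>
    rw [pow_succ, ih, unitri_mul]
    congr 1
    push_cast
    ring

theorem unitri_inv (e : F) : (unitri e)⁻¹ = unitri (-e) := by
  apply inv_eq_of_mul_eq_one_right
  rw [unitri_mul, add_neg_cancel, unitri_zero]

theorem unitri_eq_one_iff (e : F) : unitri e = 1 ↔ e = 0 := by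
  constructor
  · intro h
    have := congrArg (fun g : Matrix.SpecialLinearGroup (Fin 2) F => g.1 0 1) h
    simpa [unitri_val] using this
  · rintro rfl; exact unitri_zero

/-- Elements commuting with a nontrivial upper unitriangular element. -/
theorem commute_unitri {c : F} (hc : c ≠ 0) (g : Matrix.SpecialLinearGroup (Fin 2) F)
    (h : g * unitri c = unitri c * g) : g.1 1 0 = 0 ∧ g.1 0 0 = g.1 1 1 := by
  have h1 := congrArg (fun m : Matrix.SpecialLinearGroup (Fin 2) F => m.1 0 0) h
  have h2 := congrArg (fun m : Matrix.SpecialLinearGroup (Fin 2) F => m.1 0 1) h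
  simp only [sl2_mul_val, unitri_val] at h1 h2
  simp at h1 h2
  have hz : g.1 1 0 = 0 := by
    rcases h1 with h1 | h1
    · exact absurd h1 hc
    · exact h1
  refine ⟨hz, ?_⟩
  have : c * (g.1 0 0 - g.1 1 1) = 0 := by linear_combination h2
  rcases mul_eq_zero.mp this with h3 | h3
  · exact absurd h3 hc
  · exact sub_eq_zero.mp h3

/-- If `T(c) g T(c)⁻¹` commutes with `g` (characteristic not 2), then `g` is upper triangular. -/
theorem lower_zero_of_conj_commute (h2 : (2 : F) ≠ 0) {c : F} (hc : c ≠ 0)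
    (g : Matrix.SpecialLinearGroup (Fin 2) F)
    (h : (unitri c * g * (unitri c)⁻¹) * g = g * (unitri c * g * (unitri c)⁻¹)) :
    g.1 1 0 = 0 := by
  rw [unitri_inv] at h
  have h1 := congrArg (fun m : Matrix.SpecialLinearGroup (Fin 2) F => m.1 1 0) h
  simp only [sl2_mul_val, unitri_val] at h1
  simp at h1
  have h3 : 2 * c * (g.1 1 0) ^ 2 = 0 := by linear_combination -h1
  have h4 : (g.1 1 0) ^ 2 = 0 := by
    rcases mul_eq_zero.mp h3 with h5 | h5
    · exact absurd h5 (mul_ne_zero h2 hc)
    · exact h5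
  exact pow_eq_zero_iff (two_ne_zero) |>.mp h4

/-- Upper triangular elements normalize the upper unitriangular subgroup. -/
theorem mul_unitri_of_lower_zero (g : Matrix.SpecialLinearGroup (Fin 2) F) (hz : g.1 1 0 = 0)
    (c : F) : g * unitri c = unitri (g.1 0 0 ^ 2 * c) * g := by
  have hdet := sl2_det g
  rw [hz, mul_zero, sub_zero] at hdet
  apply sl2_ext
  · simp only [sl2_mul_val, unitri_val]
    simp [hz]
  · simp only [sl2_mul_val, unitri_val]
    simp
    linear_combination (-(g.1 0 0 * c)) * hdet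
  · simp only [sl2_mul_val, unitri_val]
    simp
  · simp only [sl2_mul_val, unitri_val]
    simp [hz]

/-- Entries of a nontrivial element of `SL(2, F)` with trivial square (characteristic not 2). -/
theorem sq_eq_one_entries (h2 : (2 : F) ≠ 0) (g : Matrix.SpecialLinearGroup (Fin 2) F)
    (hg : g * g = 1) (hg1 : g ≠ 1) :
    g.1 0 0 = -1 ∧ g.1 0 1 = 0 ∧ g.1 1 0 = 0 ∧ g.1 1 1 = -1 := by
  have hdet := sl2_det g
  have e00 := congrArg (fun m : Matrix.SpecialLinearGroup (Fin 2) F => m.1 0 0) hg
  have e01 := congrArg (fun m : Matrix.SpecialLinearGroup (Fin 2) F => m.1 0 1) hg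
  have e10 := congrArg (fun m : Matrix.SpecialLinearGroup (Fin 2) F => m.1 1 0) hg
  have e11 := congrArg (fun m : Matrix.SpecialLinearGroup (Fin 2) F => m.1 1 1) hg
  simp only [sl2_mul_val] at e00 e01 e10 e11
  simp at e00 e01 e10 e11
  set x := g.1 0 0
  set y := g.1 0 1
  set z := g.1 1 0
  set w := g.1 1 1
  have hxt : x * (x + w) = 2 := by linear_combination e00 + hdet
  have hwt : w * (x + w) = 2 := by linear_combination e11 + hdet
  have ht : x + w ≠ 0 := by
    intro h
    rw [h, mul_zero] at hxt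
    exact h2 hxt.symm
  have hy : y = 0 := by
    have : y * (x + w) = 0 := by linear_combination e01
    rcases mul_eq_zero.mp this with h | h
    · exact h
    · exact absurd h ht
  have hz : z = 0 := by
    have : z * (x + w) = 0 := by linear_combination e10
    rcases mul_eq_zero.mp this with h | h
    · exact h
    · exact absurd h ht
  have hxw : x = w := by
    have : (x - w) * (x + w) = 0 := by linear_combination hxt - hwt
    rcases mul_eq_zero.mp this with h | h
    · exact sub_eq_zero.mp h
    · exact absurd h ht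
  have hx2 : (x - 1) * (x + 1) = 0 := by
    rw [hy, hz, ← hxw] at hdet
    linear_combination hdet
  rcases mul_eq_zero.mp hx2 with h | h
  · exfalso
    apply hg1
    have hx1 : x = 1 := sub_eq_zero.mp h
    apply sl2_ext
    · show x = _; rw [hx1]; simp
    · show y = _; rw [hy]; simp
    · show z = _; rw [hz]; simp
    · show w = _; rw [← hxw, hx1]; simp
  · have hx1 : x = -1 := eq_neg_of_add_eq_zero_left h
    exact ⟨hx1, hy, hz, by rw [← hxw, hx1]⟩

/-- `SL(2, F)` has at most one involution when the characteristic is not 2. -/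
theorem sq_eq_one_unique (h2 : (2 : F) ≠ 0) (g g' : Matrix.SpecialLinearGroup (Fin 2) F)
    (hg : g * g = 1) (hg1 : g ≠ 1) (hg' : g' * g' = 1) (hg'1 : g' ≠ 1) : g = g' := by
  obtain ⟨a1, a2, a3, a4⟩ := sq_eq_one_entries h2 g hg hg1
  obtain ⟨b1, b2, b3, b4⟩ := sq_eq_one_entries h2 g' hg' hg'1
  apply sl2_ext
  · rw [a1, b1]
  · rw [a2, b2]
  · rw [a3, b3]
  · rw [a4, b4]

/-- A `p'`-element commuting with a nontrivial upper unitriangular element has trivial square. -/
theorem sq_eq_one_of_commute_unitri (p : ℕ) [CharP F p] {c : F} (hc : c ≠ 0)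
    (g : Matrix.SpecialLinearGroup (Fin 2) F) (h : g * unitri c = unitri c * g)
    (hcop : (orderOf g).Coprime p) : g * g = 1 := by
  obtain ⟨hz, hxw⟩ := commute_unitri hc g h
  have hdet := sl2_det g
  rw [hz, mul_zero, sub_zero, ← hxw] at hdet
  have hgg : g * g = unitri (2 * g.1 0 0 * g.1 0 1) := by
    apply sl2_ext
    · simp only [sl2_mul_val, unitri_val]
      simp [hz]
      linear_combination hdet
    · simp only [sl2_mul_val, unitri_val]
      simp
      rw [← hxw]; ring
    · simp only [sl2_mul_val, unitri_val]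
      simp [hz]
    · simp only [sl2_mul_val, unitri_val]
      simp [hz]
      rw [← hxw]; linear_combination hdet
  have hpow : g ^ (2 * p) = 1 := by
    rw [pow_mul, pow_two, hgg, unitri_pow, CharP.cast_eq_zero, zero_mul, unitri_zero]
  have hd : orderOf g ∣ 2 * p := orderOf_dvd_of_pow_eq_one hpow
  have hd2 : orderOf g ∣ 2 := Nat.Coprime.dvd_of_dvd_mul_right hcop hd
  rw [← pow_two]
  exact orderOf_dvd_iff_pow_eq_one.mp hd2

/-- **Standard form** of a nontrivial `p`-element of `SL(2, F)` in characteristic `p`. -/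
theorem exists_conj_eq_unitri (p : ℕ) [Fact p.Prime] [CharP F p]
    (a : Matrix.SpecialLinearGroup (Fin 2) F) (k : ℕ) (hak : a ^ (p ^ k) = 1) (ha1 : a ≠ 1) :
    ∃ P : Matrix.SpecialLinearGroup (Fin 2) F, ∃ c : F, c ≠ 0 ∧ P * a * P⁻¹ = unitri c := by
  -- the trace is 2
  have hnil : IsNilpotent (a.1 - 1) := by
    refine ⟨p ^ k, ?_⟩
    rw [sub_pow_char_pow_of_commute p k (Commute.one_right a.1), one_pow, sub_eq_zero]
    have := congrArg Subtype.val hak
    simpa using this
  have htr : (a.1 - 1).trace = 0 := (Matrix.isNilpotent_trace_of_isNilpotent hnil).eq_zero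
  have hxw : a.1 0 0 + a.1 1 1 = 2 := by
    rw [Matrix.trace_sub, Matrix.trace_fin_two, Matrix.trace_one] at htr
    simp at htr
    linear_combination htr
  have hdet := sl2_det a
  by_cases hz0 : a.1 1 0 = 0
  · -- already upper unitriangular
    have hx1 : a.1 0 0 = 1 := by
      have : (a.1 0 0 - 1) ^ 2 = 0 := by
        rw [hz0, mul_zero, sub_zero] at hdet
        linear_combination (-1 : F) * hdet + a.1 0 0 * hxw
      have := pow_eq_zero_iff (two_ne_zero) |>.mp this
      exact sub_eq_zero.mp this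
    have hw1 : a.1 1 1 = 1 := by linear_combination hxw - hx1
    have hau : a = unitri (a.1 0 1) := by
      apply sl2_ext
      · rw [hx1]; simp [unitri_val]
      · simp [unitri_val]
      · rw [hz0]; simp [unitri_val]
      · rw [hw1]; simp [unitri_val]
    refine ⟨1, a.1 0 1, ?_, by rw [one_mul, inv_one, mul_one]; exact hau⟩
    intro hy0
    apply ha1
    rw [hau, hy0, unitri_zero]
  · -- conjugate
    have hsz : (1 - a.1 0 0) / a.1 1 0 * a.1 1 0 = 1 - a.1 0 0 := by field_simp
    let P : Matrix.SpecialLinearGroup (Fin 2) F :=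
      ⟨!![0, -1; 1, (1 - a.1 0 0) / a.1 1 0], by simp [Matrix.det_fin_two]⟩
    have hPval : P.1 = !![0, -1; 1, (1 - a.1 0 0) / a.1 1 0] := rfl
    refine ⟨P, -a.1 1 0, neg_ne_zero.mpr hz0, ?_⟩
    rw [mul_inv_eq_iff_eq_mul]
    have hyz : a.1 0 1 * a.1 1 0 = -(a.1 0 0 - 1) ^ 2 := by
      linear_combination (-1 : F) * hdet + a.1 0 0 * hxw
    apply sl2_ext
    · simp only [sl2_mul_val, unitri_val, hPval]
      simp
    · simp only [sl2_mul_val, unitri_val, hPval]
      simp
      field_simp
      linear_combination (-1 : F) * hxw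
    · simp only [sl2_mul_val, unitri_val, hPval]
      simp
      field_simp
      ring
    · simp only [sl2_mul_val, unitri_val, hPval]
      simp
      field_simp
      linear_combination hyz + (1 - a.1 0 0) * hxw

end Cfsg.Agent.Lib.Helper53
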