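/-
helper53: an element of odd order acting nontrivially on a quaternion subgroup `Q8` gives a
section isomorphic to `SL(2,3)`.
-/
import Mathlib
import Cfsg.Agent.Lib.Helper53.Q8Aut
import Cfsg.Agent.Lib.Helper53.SL23Recog

set_option autoImplicit false

namespace Cfsg.Agent.Lib.Helper53

open QuaternionGroup

/-- From elements `u, v, x` satisfying the `SL(2,3)`-relations up to `x ^ 3`, with `x` of odd
order, we get a section `⟨u, v, x⟩ / ⟨x ^ 3⟩ ≃ SL(2,3)`. -/
theorem exists_SL23_section_of_rel {G : Type*} [Group G] (u v x : G) (hu : u ^ (2 * 2) = 1)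
    (hv : v * v = u ^ 2) (hc : v * u * v⁻¹ = u⁻¹) (hxu : x * u * x⁻¹ = v)
    (hxv : x * v * x⁻¹ = u * v) (hu2 : u ^ 2 ≠ 1) (hx : (orderOf x).Coprime 2) :
    ∃ (H K : Subgroup G) (_ : (K.subgroupOf H).Normal),
      Nonempty ((H ⧸ K.subgroupOf H) ≃* Matrix.SpecialLinearGroup (Fin 2) (ZMod 3)) := by
  have hvuv : v * (u * v) = u := by
    have h1 : v * u = u⁻¹ * v := by
      have : v * u = (v * u * v⁻¹) * v := by group
      rw [this, hc]
    calc v * (u * v) = (v * u) * v := by group
      _ = u⁻¹ * v * v := by rw [h1]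
      _ = u⁻¹ * (v * v) := by group
      _ = u⁻¹ * u ^ 2 := by rw [hv]
      _ = u := by group
  have hconj3 : ∀ y, x ^ 3 * y * (x ^ 3)⁻¹ = x * (x * (x * y * x⁻¹) * x⁻¹) * x⁻¹ := by
    intro y
    simp only [pow_succ, pow_zero, one_mul, mul_inv_rev, mul_assoc]
  have hmulc : x * (u * v) * x⁻¹ = (x * u * x⁻¹) * (x * v * x⁻¹) := by group
  have hcu : x ^ 3 * u * (x ^ 3)⁻¹ = u := by
    rw [hconj3, hxu, hxv, hmulc, hxu, hxv, hvuv]
  have hcv : x ^ 3 * v * (x ^ 3)⁻¹ = v := by
    rw [hconj3, hxv, hmulc, hxu, hxv, hvuv, hxu]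
  set z := x ^ 3 with hz
  have hzu : Commute u z := by
    show u * z = z * u
    calc u * z = (z * u * z⁻¹) * z := by rw [hcu]
      _ = z * u := by group
  have hzv : Commute v z := by
    show v * z = z * v
    calc v * z = (z * v * z⁻¹) * z := by rw [hcv]
      _ = z * v := by group
  have hzx : Commute x z := (Commute.refl x).pow_right 3
  set S : Set G := {u, v, x} with hS
  set H : Subgroup G := Subgroup.closure S with hH
  set K : Subgroup G := Subgroup.zpowers z with hK
  have hHcomm : ∀ h ∈ H, Commute h z := by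
    have hle : H ≤ Subgroup.centralizer {z} := by
      rw [hH, Subgroup.closure_le]
      intro y hy
      rw [SetLike.mem_coe, Subgroup.mem_centralizer_iff]
      intro w hw
      rw [Set.mem_singleton_iff] at hw
      subst hw
      rcases hy with rfl | rfl | rfl
      · exact hzu.eq.symm
      · exact hzv.eq.symm
      · exact hzx.eq.symm
    intro h hh
    have := Subgroup.mem_centralizer_iff.mp (hle hh) z (Set.mem_singleton z)
    exact this.symm
  have hKcomm : ∀ h ∈ H, ∀ k ∈ K, Commute h k := by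
    intro h hh k hk
    obtain ⟨n, rfl⟩ := Subgroup.mem_zpowers_iff.mp hk
    exact (hHcomm h hh).zpow_right n
  have hKn : (K.subgroupOf H).Normal := by
    constructor
    intro k hk h
    rw [Subgroup.mem_subgroupOf] at hk ⊢
    have : ((h * k * h⁻¹ : H) : G) = (k : G) := by
      rw [Subgroup.coe_mul, Subgroup.coe_mul, Subgroup.coe_inv]
      have hcomm := hKcomm h h.2 k hk
      calc (h : G) * k * (h : G)⁻¹ = k * h * (h : G)⁻¹ := by rw [hcomm.eq]
        _ = k := by group
    rw [this]; exact hk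
  refine ⟨H, K, hKn, ?_⟩
  have huS : u ∈ H := Subgroup.subset_closure (by simp [hS])
  have hvS : v ∈ H := Subgroup.subset_closure (by simp [hS])
  have hxS : x ∈ H := Subgroup.subset_closure (by simp [hS])
  set uH : H := ⟨u, huS⟩ with huH
  set vH : H := ⟨v, hvS⟩ with hvH
  set xH : H := ⟨x, hxS⟩ with hxH
  set π : H →* H ⧸ K.subgroupOf H := QuotientGroup.mk' (K.subgroupOf H) with hπ
  have hker : ∀ y : H, π y = 1 ↔ (y : G) ∈ K := by
    intro y
    rw [hπ, QuotientGroup.mk'_apply, QuotientGroup.eq_one_iff, Subgroup.mem_subgroupOf]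
  -- order facts
  have hcopr : ∀ k ∈ K, (orderOf k).Coprime 2 := by
    intro k hk
    have hkx : k ∈ Subgroup.zpowers x := by
      obtain ⟨n, rfl⟩ := Subgroup.mem_zpowers_iff.mp hk
      exact Subgroup.zpow_mem _ (Subgroup.pow_mem _ (Subgroup.mem_zpowers x) 3) n
    exact Nat.Coprime.coprime_dvd_left (orderOf_dvd_of_mem_zpowers hkx) hx
  have hvu : v ≠ u := by
    intro h
    rw [h] at hc
    have : u * u * u⁻¹ = u := by group
    rw [this] at hc
    apply hu2
    rw [pow_two]
    calc u * u = u * u⁻¹ := by rw [← hc]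
      _ = 1 := mul_inv_cancel u
  apply nonempty_mulEquiv_SL23 (u := π uH) (v := π vH) (t := π xH)
  · rw [← map_pow]
    have : uH ^ (2 * 2) = 1 := Subtype.ext (by simpa [huH] using hu)
    rw [this, map_one]
  · rw [← map_mul, ← map_pow]
    have : vH * vH = uH ^ 2 := Subtype.ext (by simpa [huH, hvH] using hv)
    rw [this]
  · rw [← map_inv, ← map_mul, ← map_mul, ← map_inv]
    have : vH * uH * vH⁻¹ = uH⁻¹ := Subtype.ext (by simpa [huH, hvH] using hc)
    rw [this]
  · rw [← map_pow, hker]
    show x ^ 3 ∈ K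
    exact Subgroup.mem_zpowers z
  · rw [← map_inv, ← map_mul, ← map_mul]
    have : xH * uH * xH⁻¹ = vH := Subtype.ext (by simpa [huH, hvH, hxH] using hxu)
    rw [this]
  · rw [← map_inv, ← map_mul, ← map_mul, ← map_mul]
    have : xH * vH * xH⁻¹ = uH * vH := Subtype.ext (by simpa [huH, hvH, hxH] using hxv)
    rw [this]
  · rw [← map_pow]
    intro h
    rw [hker] at h
    have h' : u ^ 2 ∈ K := h
    have hcop := hcopr _ h'
    have hord : orderOf (u ^ 2) = 2 := by
      apply orderOf_eq_prime
      · rw [← pow_mul]; exact hu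
      · exact hu2
    rw [hord] at hcop
    exact absurd hcop (by decide)
  · intro h
    rw [hker] at h
    have h' : x ∈ K := h
    have hcomm : Commute u x := hKcomm u huS x h'
    apply hvu
    rw [← hxu]
    calc x * u * x⁻¹ = u * x * x⁻¹ := by rw [hcomm.eq]
      _ = u := by group
  · have hgenH : Subgroup.closure ({uH, vH, xH} : Set H) = ⊤ := by
      have h1 := Subgroup.closure_closure_coe_preimage (k := S)
      have h2 : ({uH, vH, xH} : Set H) = ((↑) : H → G) ⁻¹' S := by
        ext y
        simp [hS, huH, hvH, hxH, Subtype.ext_iff]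
      rw [h2]; exact h1
    have h1 : (Subgroup.closure ({uH, vH, xH} : Set H)).map π = ⊤ := by
      rw [hgenH]
      exact Subgroup.map_top_of_surjective π (QuotientGroup.mk'_surjective _)
    rw [MonoidHom.map_closure] at h1
    rw [← h1]
    congr 1
    simp [Set.image_insert_eq]

end Cfsg.Agent.Lib.Helper53
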