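import Mathlib

/-!
The rank-one Steinberg presentation of `SL₂` over a finite field (helper53).
Abstract setting: a group `Γ` with maps `X Y : K → Γ` satisfying additivity and the relations
`w(t) X(u) w(t)⁻¹ = Y(-t⁻²u)` (and symmetrically).  We derive Steinberg's relations, show that
`h(t) = w(t) w(-1)` is multiplicative when `K` is finite (Steinberg's Theorem 9 in rank one),
and the normal form `Γ = B ∪ B w X`.
-/

set_option autoImplicit false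

namespace Cfsg.Agent.Lib.Helper53.Steinberg

variable {K : Type*} [Field K] {Γ : Type*} [Group Γ]

/-- `w(t) = X(t) Y(-t⁻¹) X(t)`. -/
def W (X Y : K → Γ) (t : K) : Γ := X t * Y (-t⁻¹) * X t

/-- `h(t) = w(t) w(-1)`. -/
def Hh (X Y : K → Γ) (t : K) : Γ := W X Y t * W X Y (-1)

/-- The Steinberg relations in rank one. -/
structure Data (X Y : K → Γ) : Prop where
  addX : ∀ t u, X t * X u = X (t + u)
  addY : ∀ t u, Y t * Y u = Y (t + u)
  relX : ∀ t u, t ≠ 0 → MulAut.conj (W X Y t) (X u) = Y (-(t⁻¹ ^ 2 * u))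
  relY : ∀ t u, t ≠ 0 → MulAut.conj (W Y X t) (Y u) = X (-(t⁻¹ ^ 2 * u))

variable {X Y : K → Γ}

theorem Data.symm (d : Data X Y) : Data Y X :=
  ⟨d.addY, d.addX, d.relY, d.relX⟩

theorem Data.X_zero (d : Data X Y) : X 0 = 1 := by
  have h := d.addX 0 0
  rw [add_zero] at h
  exact mul_left_cancel (a := X 0) (by rw [h, mul_one])

theorem Data.X_inv (d : Data X Y) (t : K) : (X t)⁻¹ = X (-t) := by
  apply inv_eq_of_mul_eq_one_right
  rw [d.addX, add_neg_cancel, d.X_zero]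

theorem Data.Y_zero (d : Data X Y) : Y 0 = 1 := d.symm.X_zero

theorem Data.Y_inv (d : Data X Y) (t : K) : (Y t)⁻¹ = Y (-t) := d.symm.X_inv t

/-- `w(t)⁻¹ = w(-t)`. -/
theorem Data.W_inv (d : Data X Y) (t : K) : (W X Y t)⁻¹ = W X Y (-t) := by
  unfold W
  rw [mul_inv_rev, mul_inv_rev, d.X_inv, d.Y_inv, ← mul_assoc, neg_neg, inv_neg, neg_neg]

theorem Data.W_mul_W_neg (d : Data X Y) (t : K) : W X Y t * W X Y (-t) = 1 := by
  rw [← d.W_inv, mul_inv_cancel]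

theorem Data.W_neg_mul_W (d : Data X Y) (t : K) : W X Y (-t) * W X Y t = 1 := by
  rw [← d.W_inv, inv_mul_cancel]

/-- `w(t) Y(u) w(t)⁻¹ = X(-t²u)`. -/
theorem Data.conjY (d : Data X Y) {t : K} (ht : t ≠ 0) (u : K) :
    MulAut.conj (W X Y t) (Y u) = X (-(t ^ 2 * u)) := by
  have h1 := d.relX (-t) (-(t ^ 2 * u)) (neg_ne_zero.mpr ht)
  have h2 : -((-t)⁻¹ ^ 2 * -(t ^ 2 * u)) = u := by
    field_simp
  rw [h2, ← d.W_inv] at h1
  rw [← h1, ← MulAut.mul_apply, ← map_mul, mul_inv_cancel, map_one]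
  rfl

/-- `w'(s) = Y(s) X(-s⁻¹) Y(s)` is `W Y X s`; conjugating `w(u)` by `w(t)` gives `w'(-t⁻²u)`. -/
theorem Data.conjW' (d : Data X Y) {t u : K} (ht : t ≠ 0) (hu : u ≠ 0) :
    MulAut.conj (W X Y t) (W X Y u) = W Y X (-(t⁻¹ ^ 2 * u)) := by
  have h3 : -(t ^ 2 * -u⁻¹) = -(-(t⁻¹ ^ 2 * u))⁻¹ := by
    field_simp
  have hW : W X Y u = X u * Y (-u⁻¹) * X u := rfl
  rw [hW, map_mul, map_mul, d.relX t u ht, d.conjY ht, h3]
  rfl

/-- `w'(s) = w(-s⁻¹)`. -/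
theorem Data.W'_eq (d : Data X Y) {s : K} (hs : s ≠ 0) : W Y X s = W X Y (-s⁻¹) := by
  have ht : (-s⁻¹ : K) ≠ 0 := neg_ne_zero.mpr (inv_ne_zero hs)
  have h1 := d.conjW' ht ht
  have h2 : -((-s⁻¹)⁻¹ ^ 2 * -s⁻¹) = s := by
    field_simp
  rw [h2] at h1
  rw [← h1, MulAut.conj_apply, mul_inv_cancel_right]

/-- `w(t) w(u) w(t)⁻¹ = w(t²u⁻¹)`. -/
theorem Data.conjW (d : Data X Y) {t u : K} (ht : t ≠ 0) (hu : u ≠ 0) :
    MulAut.conj (W X Y t) (W X Y u) = W X Y (t ^ 2 * u⁻¹) := by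
  rw [d.conjW' ht hu, d.W'_eq]
  · congr 1
    field_simp
  · exact neg_ne_zero.mpr (mul_ne_zero (pow_ne_zero 2 (inv_ne_zero ht)) hu)

/-- `Y(s) = X(s⁻¹) w(-s⁻¹) X(s⁻¹)`. -/
theorem Data.Y_eq (d : Data X Y) {s : K} (hs : s ≠ 0) :
    Y s = X s⁻¹ * W X Y (-s⁻¹) * X s⁻¹ := by
  unfold W
  have h1 : -(-s⁻¹)⁻¹ = s := by field_simp
  rw [h1]
  have h2 : X s⁻¹ * X (-s⁻¹) = 1 := by rw [d.addX, add_neg_cancel, d.X_zero]
  have h3 : X (-s⁻¹) * X s⁻¹ = 1 := by rw [d.addX, neg_add_cancel, d.X_zero]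
  calc Y s = (X s⁻¹ * X (-s⁻¹)) * Y s * (X (-s⁻¹) * X s⁻¹) := by rw [h2, h3, one_mul, mul_one]
    _ = X s⁻¹ * (X (-s⁻¹) * Y s * X (-s⁻¹)) * X s⁻¹ := by group

/-- `X(t) = Y(t⁻¹) w(t) Y(t⁻¹)`. -/
theorem Data.X_eq (d : Data X Y) {t : K} (ht : t ≠ 0) :
    X t = Y t⁻¹ * W X Y t * Y t⁻¹ := by
  have h1 := d.symm.Y_eq ht
  rw [h1, d.W'_eq (neg_ne_zero.mpr (inv_ne_zero ht))]
  congr 2
  congr 1
  field_simp

/-- `h(t) X(u) h(t)⁻¹ = X(t²u)`. -/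
theorem Data.Hh_conjX (d : Data X Y) {t : K} (ht : t ≠ 0) (u : K) :
    MulAut.conj (Hh X Y t) (X u) = X (t ^ 2 * u) := by
  unfold Hh
  rw [map_mul, MulAut.mul_apply, d.relX (-1) u (by norm_num), d.conjY ht]
  congr 1
  field_simp

/-- `h(t) Y(u) h(t)⁻¹ = Y(t⁻²u)`. -/
theorem Data.Hh_conjY (d : Data X Y) {t : K} (ht : t ≠ 0) (u : K) :
    MulAut.conj (Hh X Y t) (Y u) = Y (t⁻¹ ^ 2 * u) := by
  unfold Hh
  rw [map_mul, MulAut.mul_apply, d.conjY (by norm_num), d.relX t _ ht]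
  congr 1
  field_simp

/-- `h(t) w(u) h(t)⁻¹ = w(t²u)`. -/
theorem Data.Hh_conjW (d : Data X Y) {t u : K} (ht : t ≠ 0) (hu : u ≠ 0) :
    MulAut.conj (Hh X Y t) (W X Y u) = W X Y (t ^ 2 * u) := by
  have hW : W X Y u = X u * Y (-u⁻¹) * X u := rfl
  rw [hW, map_mul, map_mul, d.Hh_conjX ht, d.Hh_conjY ht]
  unfold W
  congr 2
  congr 1
  field_simp

theorem Data.Hh_one (d : Data X Y) : Hh X Y 1 = 1 := by
  unfold Hh
  exact d.W_mul_W_neg 1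

theorem Data.W_eq_Hh_mul (d : Data X Y) (t : K) : W X Y t = Hh X Y t * W X Y 1 := by
  unfold Hh
  rw [mul_assoc, d.W_neg_mul_W, mul_one]

theorem Data.Hh_inv (d : Data X Y) (t : K) : (Hh X Y t)⁻¹ = W X Y 1 * W X Y (-t) := by
  unfold Hh
  rw [mul_inv_rev, d.W_inv, d.W_inv, neg_neg]

/-- `h(t) h(u) h(t)⁻¹ = h(t²u) h(t²)⁻¹`. -/
theorem Data.Hh_conjHh (d : Data X Y) {t u : K} (ht : t ≠ 0) (hu : u ≠ 0) :
    MulAut.conj (Hh X Y t) (Hh X Y u) = Hh X Y (t ^ 2 * u) * (Hh X Y (t ^ 2))⁻¹ := by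
  have hH : Hh X Y u = W X Y u * W X Y (-1) := rfl
  rw [hH, map_mul, d.Hh_conjW ht hu, d.Hh_conjW ht (by norm_num), d.Hh_inv]
  unfold Hh
  have h1 : t ^ 2 * -1 = -t ^ 2 := by ring
  rw [h1, mul_assoc, ← mul_assoc (W X Y (-1)), d.W_neg_mul_W, one_mul]

/-- `w(1) h(u) w(1)⁻¹ = h(u⁻¹)`. -/
theorem Data.W_conjHh (d : Data X Y) {u : K} (hu : u ≠ 0) :
    MulAut.conj (W X Y 1) (Hh X Y u) = Hh X Y u⁻¹ := by
  have hH : Hh X Y u = W X Y u * W X Y (-1) := rfl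
  rw [hH, map_mul, d.conjW one_ne_zero hu, d.conjW one_ne_zero (by norm_num)]
  unfold Hh
  congr 2
  · ring
  · norm_num

theorem Data.Hh_mul_X (d : Data X Y) {t : K} (ht : t ≠ 0) (u : K) :
    Hh X Y t * X u = X (t ^ 2 * u) * Hh X Y t := by
  rw [← d.Hh_conjX ht, MulAut.conj_apply, inv_mul_cancel_right]

theorem Data.Hh_mul_Y (d : Data X Y) {t : K} (ht : t ≠ 0) (u : K) :
    Hh X Y t * Y u = Y (t⁻¹ ^ 2 * u) * Hh X Y t := by
  rw [← d.Hh_conjY ht, MulAut.conj_apply, inv_mul_cancel_right]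

theorem Data.X_mul_Hh (d : Data X Y) {t : K} (ht : t ≠ 0) (u : K) :
    X u * Hh X Y t = Hh X Y t * X (t⁻¹ ^ 2 * u) := by
  rw [d.Hh_mul_X ht]
  congr 2
  field_simp

/-- The "symbol" `h(t) h(u) h(tu)⁻¹` is central. -/
theorem Data.symbol_central (d : Data X Y)
    (hgen : Subgroup.closure (Set.range X ∪ Set.range Y) = ⊤) {t u : K} (ht : t ≠ 0)
    (hu : u ≠ 0) : Hh X Y t * Hh X Y u * (Hh X Y (t * u))⁻¹ ∈ Subgroup.center Γ := by
  have htu : t * u ≠ 0 := mul_ne_zero ht hu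
  have key : ∀ g : Γ, g ∈ Subgroup.centralizer
      {Hh X Y t * Hh X Y u * (Hh X Y (t * u))⁻¹} := by
    intro g
    have hg : g ∈ Subgroup.closure (Set.range X ∪ Set.range Y) := hgen ▸ Subgroup.mem_top g
    refine (Subgroup.closure_le _).mpr ?_ hg
    rintro _ (⟨v, rfl⟩ | ⟨v, rfl⟩)
    · rw [SetLike.mem_coe, Subgroup.mem_centralizer_iff]
      intro z hz
      rw [Set.mem_singleton_iff] at hz
      subst hz
      have h1 : X v * Hh X Y (t * u) = Hh X Y (t * u) * X ((t * u)⁻¹ ^ 2 * v) :=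
        d.X_mul_Hh htu v
      have h2 : Hh X Y t * Hh X Y u * X ((t * u)⁻¹ ^ 2 * v) = X v * (Hh X Y t * Hh X Y u) := by
        rw [mul_assoc, d.Hh_mul_X hu, ← mul_assoc, d.Hh_mul_X ht, mul_assoc]
        congr 2
        field_simp
      calc Hh X Y t * Hh X Y u * (Hh X Y (t * u))⁻¹ * X v
          = Hh X Y t * Hh X Y u * (Hh X Y (t * u))⁻¹ * (X v * Hh X Y (t * u)) *
              (Hh X Y (t * u))⁻¹ := by group
        _ = Hh X Y t * Hh X Y u * X ((t * u)⁻¹ ^ 2 * v) * (Hh X Y (t * u))⁻¹ := by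
            rw [h1]; group
        _ = X v * (Hh X Y t * Hh X Y u * (Hh X Y (t * u))⁻¹) := by rw [h2]; group
    · rw [SetLike.mem_coe, Subgroup.mem_centralizer_iff]
      intro z hz
      rw [Set.mem_singleton_iff] at hz
      subst hz
      have h1 : Hh X Y (t * u) * Y ((t * u) ^ 2 * v) = Y v * Hh X Y (t * u) := by
        rw [d.Hh_mul_Y htu]
        congr 2
        field_simp
      have h2 : Hh X Y t * Hh X Y u * Y ((t * u) ^ 2 * v) = Y v * (Hh X Y t * Hh X Y u) := by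
        rw [mul_assoc, d.Hh_mul_Y hu, ← mul_assoc, d.Hh_mul_Y ht, mul_assoc]
        congr 2
        field_simp
      calc Hh X Y t * Hh X Y u * (Hh X Y (t * u))⁻¹ * Y v
          = Hh X Y t * Hh X Y u * (Hh X Y (t * u))⁻¹ * (Y v * Hh X Y (t * u)) *
              (Hh X Y (t * u))⁻¹ := by group
        _ = Hh X Y t * Hh X Y u * Y ((t * u) ^ 2 * v) * (Hh X Y (t * u))⁻¹ := by
            rw [← h1]; group
        _ = Y v * (Hh X Y t * Hh X Y u * (Hh X Y (t * u))⁻¹) := by rw [h2]; group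
  rw [Subgroup.mem_center_iff]
  intro g
  have := Subgroup.mem_centralizer_iff.mp (key g) _ (Set.mem_singleton _)
  exact this.symm

/-- Key consequence of additivity: `t + u = 1` gives `w(t) w(u) = w(t/u) w(1)`. -/
theorem Data.W_mul_W_of_add (d : Data X Y) {t u : K} (ht : t ≠ 0) (hu : u ≠ 0)
    (htu : t + u = 1) : W X Y t * W X Y u = W X Y (t / u) * W X Y 1 := by
  have ha : t / u ≠ 0 := div_ne_zero ht hu
  have E1 : X t * X u = X 1 := by rw [d.addX, htu]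
  have E2 := d.X_eq ht
  have E3 := d.X_eq hu
  have E4 := d.X_eq (one_ne_zero (α := K))
  have hsum : t⁻¹ + u⁻¹ = (t * u)⁻¹ := by
    have : t⁻¹ + u⁻¹ = (t + u) * (t * u)⁻¹ := by field_simp; ring
    rw [this, htu, one_mul]
  have h1t : -t⁻¹ + 1 = -(t / u)⁻¹ := by
    have hu' : u = 1 - t := by rw [← htu]; ring
    have h1 : (1 - t) ≠ 0 := hu' ▸ hu
    rw [hu']
    field_simp
    ring
  have h1u : 1 + -u⁻¹ = -(t / u) := by
    have ht' : t = 1 - u := by rw [← htu]; ring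
    rw [ht']
    field_simp
    ring
  have A : W X Y t * Y (t⁻¹ + u⁻¹) * W X Y u = Y (-t⁻¹ + 1) * W X Y 1 * Y (1 + -u⁻¹) := by
    have h0 : Y t⁻¹ * W X Y t * Y t⁻¹ * (Y u⁻¹ * W X Y u * Y u⁻¹) =
        Y 1⁻¹ * W X Y 1 * Y 1⁻¹ := by rw [← E2, ← E3, ← E4, E1]
    rw [← d.addY t⁻¹ u⁻¹, ← d.addY, ← d.addY, ← d.Y_inv, ← d.Y_inv]
    calc W X Y t * (Y t⁻¹ * Y u⁻¹) * W X Y u
        = (Y t⁻¹)⁻¹ * (Y t⁻¹ * W X Y t * Y t⁻¹ * (Y u⁻¹ * W X Y u * Y u⁻¹)) * (Y u⁻¹)⁻¹ := by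
          group
      _ = (Y t⁻¹)⁻¹ * (Y 1⁻¹ * W X Y 1 * Y 1⁻¹) * (Y u⁻¹)⁻¹ := by rw [h0]
      _ = (Y t⁻¹)⁻¹ * Y 1 * W X Y 1 * (Y 1 * (Y u⁻¹)⁻¹) := by rw [inv_one]; group
  have B : W X Y t * Y (t⁻¹ + u⁻¹) = X (-(t / u)) * W X Y t := by
    have h2 := d.conjY ht (t⁻¹ + u⁻¹)
    rw [MulAut.conj_apply] at h2
    have hv : -(t ^ 2 * (t⁻¹ + u⁻¹)) = -(t / u) := by
      rw [hsum]; field_simp
    rw [hv] at h2
    rw [← h2, inv_mul_cancel_right]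
  have C1 : Y (-(t / u)⁻¹) = X (-(t / u)) * W X Y (t / u) * X (-(t / u)) := by
    have h3 := d.Y_eq (s := -(t / u)⁻¹) (neg_ne_zero.mpr (inv_ne_zero ha))
    have e1 : (-(t / u)⁻¹)⁻¹ = -(t / u) := by rw [inv_neg, inv_inv]
    rw [e1, neg_neg] at h3
    exact h3
  have C2 : X (-(t / u)) * W X Y 1 = W X Y 1 * Y (t / u) := by
    have h4 := d.relX (-1) (-(t / u)) (by norm_num)
    rw [MulAut.conj_apply, ← d.W_inv, inv_inv] at h4
    have e2 : -((-1 : K)⁻¹ ^ 2 * -(t / u)) = t / u := by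
      have : ((-1 : K)⁻¹) = -1 := by norm_num
      rw [this]; ring
    rw [e2] at h4
    rw [← h4]; group
  have h5 : Y (t / u) * Y (-(t / u)) = 1 := by rw [d.addY, add_neg_cancel, d.Y_zero]
  have key : X (-(t / u)) * (W X Y t * W X Y u) = X (-(t / u)) * (W X Y (t / u) * W X Y 1) := by
    calc X (-(t / u)) * (W X Y t * W X Y u)
        = (X (-(t / u)) * W X Y t) * W X Y u := by rw [mul_assoc]
      _ = W X Y t * Y (t⁻¹ + u⁻¹) * W X Y u := by rw [B]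
      _ = Y (-(t / u)⁻¹) * W X Y 1 * Y (-(t / u)) := by rw [A, h1t, h1u]
      _ = X (-(t / u)) * W X Y (t / u) * (X (-(t / u)) * W X Y 1) * Y (-(t / u)) := by
          rw [C1]; group
      _ = X (-(t / u)) * W X Y (t / u) * W X Y 1 * (Y (t / u) * Y (-(t / u))) := by
          rw [C2]; group
      _ = X (-(t / u)) * (W X Y (t / u) * W X Y 1) := by rw [h5]; group
  exact mul_left_cancel key

/-- `t + u = 1` gives `h(t) h(u⁻¹) = h(t u⁻¹)`. -/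
theorem Data.Hh_mul_of_add (d : Data X Y) {t u : K} (ht : t ≠ 0) (hu : u ≠ 0)
    (htu : t + u = 1) : Hh X Y t * Hh X Y u⁻¹ = Hh X Y (t / u) := by
  have h1 := d.W_mul_W_of_add ht hu htu
  rw [d.W_eq_Hh_mul t, d.W_eq_Hh_mul u, d.W_eq_Hh_mul (t / u)] at h1
  have h2 := d.W_conjHh hu
  rw [MulAut.conj_apply] at h2
  have h3 : Hh X Y t * Hh X Y u⁻¹ * (W X Y 1 * W X Y 1) =
      Hh X Y (t / u) * (W X Y 1 * W X Y 1) := by
    rw [← h2]
    calc Hh X Y t * (W X Y 1 * Hh X Y u * (W X Y 1)⁻¹) * (W X Y 1 * W X Y 1)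
        = Hh X Y t * W X Y 1 * (Hh X Y u * W X Y 1) := by group
      _ = Hh X Y (t / u) * W X Y 1 * W X Y 1 := h1
      _ = Hh X Y (t / u) * (W X Y 1 * W X Y 1) := by group
  exact mul_right_cancel h3

section finite

variable [Finite K]

theorem exists_generator (K : Type*) [Field K] [Finite K] :
    ∃ g : K, g ≠ 0 ∧ ∀ t : K, t ≠ 0 → ∃ n : ℕ, t = g ^ n := by
  obtain ⟨g, hg⟩ := IsCyclic.exists_monoid_generator (α := Kˣ)
  refine ⟨(g : K), g.ne_zero, fun t ht => ?_⟩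
  obtain ⟨n, hn⟩ := (Submonoid.mem_powers_iff _ _).mp (hg (Units.mk0 t ht))
  refine ⟨n, ?_⟩
  have := congrArg Units.val hn
  rw [Units.val_pow_eq_pow_val, Units.val_mk0] at this
  exact this.symm

omit [Finite K] in
theorem Data.Hh_pow_gen (d : Data X Y)
    (hgen : Subgroup.closure (Set.range X ∪ Set.range Y) = ⊤) {g : K} (hg : g ≠ 0) (n : ℕ) :
    ∃ c ∈ Subgroup.center Γ, Hh X Y (g ^ n) = c * (Hh X Y g) ^ n := by
  induction n with
  | zero => exact ⟨1, one_mem _, by rw [pow_zero, pow_zero, d.Hh_one, one_mul]⟩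
  | succ n ih =>
    obtain ⟨c, hc, h⟩ := ih
    have hs := d.symbol_central hgen (pow_ne_zero n hg) hg
    refine ⟨(Hh X Y (g ^ n) * Hh X Y g * (Hh X Y (g ^ n * g))⁻¹)⁻¹ * c,
      mul_mem (inv_mem hs) hc, ?_⟩
    rw [pow_succ g n, pow_succ (Hh X Y g) n, h]
    group

theorem Data.Hh_comm (d : Data X Y)
    (hgen : Subgroup.closure (Set.range X ∪ Set.range Y) = ⊤) {t u : K} (ht : t ≠ 0)
    (hu : u ≠ 0) : Hh X Y t * Hh X Y u = Hh X Y u * Hh X Y t := by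
  obtain ⟨g, hg, hgen'⟩ := exists_generator K
  obtain ⟨n, rfl⟩ := hgen' t ht
  obtain ⟨m, rfl⟩ := hgen' u hu
  obtain ⟨c, hc, h1⟩ := d.Hh_pow_gen hgen hg n
  obtain ⟨c', hc', h2⟩ := d.Hh_pow_gen hgen hg m
  rw [h1, h2]
  have e1 := Subgroup.mem_center_iff.mp hc
  have e2 := Subgroup.mem_center_iff.mp hc'
  calc c * Hh X Y g ^ n * (c' * Hh X Y g ^ m)
      = c * (Hh X Y g ^ n * c') * Hh X Y g ^ m := by group
    _ = c * (c' * Hh X Y g ^ n) * Hh X Y g ^ m := by rw [e2]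
    _ = (c * c') * (Hh X Y g ^ n * Hh X Y g ^ m) := by group
    _ = (c' * c) * (Hh X Y g ^ m * Hh X Y g ^ n) := by rw [e2 c, pow_mul_comm]
    _ = c' * (c * Hh X Y g ^ m) * Hh X Y g ^ n := by group
    _ = c' * (Hh X Y g ^ m * c) * Hh X Y g ^ n := by rw [e1]
    _ = c' * Hh X Y g ^ m * (c * Hh X Y g ^ n) := by group

/-- `h` is multiplicative when one argument is a square. -/
theorem Data.Hh_sq_mul (d : Data X Y)
    (hgen : Subgroup.closure (Set.range X ∪ Set.range Y) = ⊤) {t u : K} (ht : t ≠ 0)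
    (hu : u ≠ 0) : Hh X Y (t ^ 2 * u) = Hh X Y (t ^ 2) * Hh X Y u := by
  have h1 := d.Hh_conjHh ht hu
  rw [MulAut.conj_apply, d.Hh_comm hgen ht hu, mul_inv_cancel_right] at h1
  have h2 : Hh X Y u * Hh X Y (t ^ 2) = Hh X Y (t ^ 2 * u) := eq_mul_inv_iff_mul_eq.mp h1
  rw [← h2, d.Hh_comm hgen hu (pow_ne_zero 2 ht)]

/-- Pigeonhole: if `g` is not a square, some `t = g s²` has `1 - t = g r²`. -/
theorem exists_nonsquare_pair {g : K} (hg : g ≠ 0) (hns : ∀ r : K, g ≠ r ^ 2) :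
    ∃ s r : K, s ≠ 0 ∧ r ≠ 0 ∧ g * s ^ 2 + g * r ^ 2 = 1 := by
  classical
  have : Fintype K := Fintype.ofFinite K
  let E : Finset K := (Finset.univ.filter (fun s : K => s ≠ 0)).image (fun s => s ^ 2)
  let N : Finset K := E.image (fun a => g * a)
  have hEmem : ∀ a, a ∈ E ↔ ∃ s : K, s ≠ 0 ∧ s ^ 2 = a := by
    intro a; simp [E]
  have hNmem : ∀ a, a ∈ N ↔ ∃ s : K, s ≠ 0 ∧ g * s ^ 2 = a := by
    intro a
    simp only [N, Finset.mem_image, hEmem]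
    constructor
    · rintro ⟨b, ⟨s, hs, rfl⟩, rfl⟩; exact ⟨s, hs, rfl⟩
    · rintro ⟨s, hs, rfl⟩; exact ⟨s ^ 2, ⟨s, hs, rfl⟩, rfl⟩
  have hcard : N.card = E.card :=
    Finset.card_image_of_injective _ (mul_right_injective₀ hg)
  have hdisj : ∀ a, a ∈ N → a ∉ E := by
    intro a ha ha'
    obtain ⟨s, hs, rfl⟩ := (hNmem a).mp ha
    obtain ⟨r, hr, hr2⟩ := (hEmem _).mp ha'
    apply hns (r / s)
    field_simp
    exact hr2.symm
  by_contra hcon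
  push Not at hcon
  -- the map t ↦ 1 - t sends N into E \ {1}
  have h1E : (1 : K) ∈ E := (hEmem 1).mpr ⟨1, one_ne_zero, one_pow 2⟩
  have himg : N.image (fun t => 1 - t) ⊆ E.erase 1 := by
    intro b hb
    obtain ⟨t, htN, rfl⟩ := Finset.mem_image.mp hb
    obtain ⟨s, hs, rfl⟩ := (hNmem t).mp htN
    have ht0 : g * s ^ 2 ≠ 0 := mul_ne_zero hg (pow_ne_zero 2 hs)
    rw [Finset.mem_erase]
    refine ⟨fun h => ht0 (by linear_combination -h), ?_⟩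
    -- 1 - t ≠ 0 and is a nonzero element, so it is in E or N
    have hne : 1 - g * s ^ 2 ≠ 0 := by
      intro h
      have h1 : g * s ^ 2 = 1 := by linear_combination -h
      exact hdisj _ htN (h1 ▸ h1E)
    obtain ⟨g0, hg0, hgen0⟩ := exists_generator K
    -- every nonzero element is a square or g times a square
    have hdich : ∀ a : K, a ≠ 0 → a ∈ E ∨ a ∈ N := by
      intro a ha
      obtain ⟨n, rfl⟩ := hgen0 a ha
      obtain ⟨m, rfl⟩ := hgen0 g hg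
      rcases Nat.even_or_odd' n with ⟨k, hk | hk⟩
      · left
        exact (hEmem _).mpr ⟨g0 ^ k, pow_ne_zero k hg0, by rw [hk, ← pow_mul, mul_comm]⟩
      · rcases Nat.even_or_odd' m with ⟨j, hj | hj⟩
        · exfalso
          exact hns (g0 ^ j) (by rw [hj, ← pow_mul, mul_comm])
        · right
          refine (hNmem _).mpr ⟨g0 ^ k * (g0 ^ j)⁻¹, ?_, ?_⟩
          · exact mul_ne_zero (pow_ne_zero k hg0) (inv_ne_zero (pow_ne_zero j hg0))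
          · have hj0 : g0 ^ j ≠ 0 := pow_ne_zero j hg0
            rw [hk, hj]
            field_simp
            ring
    rcases hdich _ hne with h | h
    · exact h
    · exfalso
      obtain ⟨r, hr, hr2⟩ := (hNmem _).mp h
      exact hcon s r hs hr (by rw [hr2]; ring)
  have hinj : (N.image (fun t => 1 - t)).card = N.card :=
    Finset.card_image_of_injective _ (fun a b h => by simpa using h)
  have hle := Finset.card_le_card himg
  rw [hinj, Finset.card_erase_of_mem h1E, hcard] at hle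
  have hpos : 0 < E.card := Finset.card_pos.mpr ⟨1, h1E⟩
  omega

/-- Steinberg's Theorem 9 in rank one: over a finite field, `h` is multiplicative. -/
theorem Data.Hh_mul (d : Data X Y)
    (hgen : Subgroup.closure (Set.range X ∪ Set.range Y) = ⊤) {a b : K} (ha : a ≠ 0)
    (hb : b ≠ 0) : Hh X Y (a * b) = Hh X Y a * Hh X Y b := by
  obtain ⟨g, hg, hgen'⟩ := exists_generator K
  -- `h(g) h(g) = h(g²)`
  have hM : Hh X Y (g * g) = Hh X Y g * Hh X Y g := by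
    by_cases hsq : ∃ r : K, g = r ^ 2
    · obtain ⟨r, hr⟩ := hsq
      have hr0 : r ≠ 0 := by
        intro h; rw [h] at hr; exact hg (by rw [hr]; ring)
      have := d.Hh_sq_mul hgen hr0 hg
      rw [← hr] at this
      exact this
    · push Not at hsq
      obtain ⟨s, r, hs, hr, hsr⟩ := exists_nonsquare_pair hg hsq
      have ht : g * s ^ 2 ≠ 0 := mul_ne_zero hg (pow_ne_zero 2 hs)
      have hu : g * r ^ 2 ≠ 0 := mul_ne_zero hg (pow_ne_zero 2 hr)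
      have h1 := d.Hh_mul_of_add ht hu hsr
      -- rewrite everything through squares
      have e1 : g * s ^ 2 = s ^ 2 * g := mul_comm _ _
      have e2 : (g * r ^ 2)⁻¹ = (g⁻¹ * r⁻¹) ^ 2 * g := by field_simp
      have e3 : g * s ^ 2 / (g * r ^ 2) = (s * g⁻¹ * r⁻¹) ^ 2 * (g * g) := by field_simp
      have hp : g⁻¹ * r⁻¹ ≠ 0 := mul_ne_zero (inv_ne_zero hg) (inv_ne_zero hr)
      have hp' : s * g⁻¹ * r⁻¹ ≠ 0 :=
        mul_ne_zero (mul_ne_zero hs (inv_ne_zero hg)) (inv_ne_zero hr)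
      rw [e3, e2, e1, d.Hh_sq_mul hgen hs hg, d.Hh_sq_mul hgen hp hg,
        d.Hh_sq_mul hgen hp' (mul_ne_zero hg hg)] at h1
      have e4 : (s * g⁻¹ * r⁻¹) ^ 2 = s ^ 2 * (g⁻¹ * r⁻¹) ^ 2 := by ring
      rw [e4, d.Hh_sq_mul hgen hs (pow_ne_zero 2 hp)] at h1
      -- h1 : h(s²) h(g) (h(p²) h(g)) = h(s²) h(p²) h(g g)
      have c1 := d.Hh_comm hgen hg (pow_ne_zero 2 hp)
      have h2 : Hh X Y (s ^ 2) * Hh X Y ((g⁻¹ * r⁻¹) ^ 2) * (Hh X Y g * Hh X Y g) =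
          Hh X Y (s ^ 2) * Hh X Y ((g⁻¹ * r⁻¹) ^ 2) * Hh X Y (g * g) := by
        rw [← h1]
        calc Hh X Y (s ^ 2) * Hh X Y ((g⁻¹ * r⁻¹) ^ 2) * (Hh X Y g * Hh X Y g)
            = Hh X Y (s ^ 2) * (Hh X Y ((g⁻¹ * r⁻¹) ^ 2) * Hh X Y g) * Hh X Y g := by group
          _ = Hh X Y (s ^ 2) * (Hh X Y g * Hh X Y ((g⁻¹ * r⁻¹) ^ 2)) * Hh X Y g := by rw [c1]
          _ = Hh X Y (s ^ 2) * Hh X Y g * (Hh X Y ((g⁻¹ * r⁻¹) ^ 2) * Hh X Y g) := by group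
      exact (mul_left_cancel h2).symm
  -- every nonzero element is `s²` or `s² g`
  have hdich : ∀ a : K, a ≠ 0 → ∃ s : K, s ≠ 0 ∧ (a = s ^ 2 ∨ a = s ^ 2 * g) := by
    intro a ha
    obtain ⟨n, rfl⟩ := hgen' a ha
    rcases Nat.even_or_odd' n with ⟨k, hk | hk⟩
    · exact ⟨g ^ k, pow_ne_zero k hg, Or.inl (by rw [hk, ← pow_mul, mul_comm])⟩
    · exact ⟨g ^ k, pow_ne_zero k hg, Or.inr (by rw [hk, pow_succ, ← pow_mul, mul_comm k 2])⟩
  obtain ⟨s, hs, hs'⟩ := hdich a ha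
  obtain ⟨r, hr, hr'⟩ := hdich b hb
  rcases hs' with rfl | rfl
  · exact d.Hh_sq_mul hgen hs hb
  · rcases hr' with rfl | rfl
    · have e1 : s ^ 2 * g * r ^ 2 = r ^ 2 * (s ^ 2 * g) := by ring
      rw [e1, d.Hh_sq_mul hgen hr (mul_ne_zero (pow_ne_zero 2 hs) hg),
        d.Hh_comm hgen (pow_ne_zero 2 hr) (mul_ne_zero (pow_ne_zero 2 hs) hg)]
    · have e1 : s ^ 2 * g * (r ^ 2 * g) = s ^ 2 * (r ^ 2 * (g * g)) := by ring
      rw [e1, d.Hh_sq_mul hgen hs (mul_ne_zero (pow_ne_zero 2 hr) (mul_ne_zero hg hg)),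
        d.Hh_sq_mul hgen hr (mul_ne_zero hg hg), hM, d.Hh_sq_mul hgen hs hg,
        d.Hh_sq_mul hgen hr hg]
      have c1 := d.Hh_comm hgen hg (pow_ne_zero 2 hr)
      calc Hh X Y (s ^ 2) * (Hh X Y (r ^ 2) * (Hh X Y g * Hh X Y g))
          = Hh X Y (s ^ 2) * (Hh X Y (r ^ 2) * Hh X Y g) * Hh X Y g := by group
        _ = Hh X Y (s ^ 2) * (Hh X Y g * Hh X Y (r ^ 2)) * Hh X Y g := by rw [c1]
        _ = Hh X Y (s ^ 2) * Hh X Y g * (Hh X Y (r ^ 2) * Hh X Y g) := by group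

/-- The "Borel" set `{X(a) h(t)}`. -/
def Bset (X Y : K → Γ) : Set Γ := {g | ∃ a t : K, t ≠ 0 ∧ g = X a * Hh X Y t}

/-- `B ∪ B w X`. -/
def Nset (X Y : K → Γ) : Set Γ :=
  {g | g ∈ Bset X Y ∨ ∃ b ∈ Bset X Y, ∃ c : K, g = b * W X Y 1 * X c}

omit [Finite K] in
theorem Data.X_mem_Bset (d : Data X Y) (a : K) : X a ∈ Bset X Y :=
  ⟨a, 1, one_ne_zero, by rw [d.Hh_one, mul_one]⟩

omit [Finite K] in
theorem Data.Hh_mem_Bset (d : Data X Y) {t : K} (ht : t ≠ 0) : Hh X Y t ∈ Bset X Y :=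
  ⟨0, t, ht, by rw [d.X_zero, one_mul]⟩

omit [Finite K] in
theorem Data.one_mem_Bset (d : Data X Y) : (1 : Γ) ∈ Bset X Y :=
  ⟨0, 1, one_ne_zero, by rw [d.X_zero, d.Hh_one, one_mul]⟩

theorem Data.Bset_mul (d : Data X Y)
    (hgen : Subgroup.closure (Set.range X ∪ Set.range Y) = ⊤) {g g' : Γ}
    (hg : g ∈ Bset X Y) (hg' : g' ∈ Bset X Y) : g * g' ∈ Bset X Y := by
  obtain ⟨a, t, ht, rfl⟩ := hg
  obtain ⟨a', t', ht', rfl⟩ := hg'
  refine ⟨a + t ^ 2 * a', t * t', mul_ne_zero ht ht', ?_⟩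
  rw [d.Hh_mul hgen ht ht', ← d.addX]
  calc X a * Hh X Y t * (X a' * Hh X Y t')
      = X a * (Hh X Y t * X a') * Hh X Y t' := by group
    _ = X a * (X (t ^ 2 * a') * Hh X Y t) * Hh X Y t' := by rw [d.Hh_mul_X ht]
    _ = X a * X (t ^ 2 * a') * (Hh X Y t * Hh X Y t') := by group

omit [Finite K] in
/-- `w(1) b ∈ B w(1) X` for `b ∈ B`. -/
theorem Data.W1_mul_Bset (d : Data X Y) {b : Γ} (hb : b ∈ Bset X Y) :
    ∃ b' ∈ Bset X Y, ∃ c : K, W X Y 1 * b = b' * W X Y 1 * X c := by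
  obtain ⟨a, t, ht, rfl⟩ := hb
  refine ⟨Hh X Y t⁻¹, d.Hh_mem_Bset (inv_ne_zero ht), t⁻¹ ^ 2 * a, ?_⟩
  have h1 := d.W_conjHh ht
  rw [MulAut.conj_apply] at h1
  rw [d.X_mul_Hh ht, ← h1]
  group

theorem Data.W1_sq (d : Data X Y)
    (hgen : Subgroup.closure (Set.range X ∪ Set.range Y) = ⊤) :
    W X Y 1 * W X Y 1 = Hh X Y (-1) := by
  have h1 := d.Hh_inv (-1)
  rw [neg_neg] at h1
  have h2 := d.Hh_mul hgen (a := -1) (b := -1) (by norm_num) (by norm_num)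
  have h3 : (-1 : K) * -1 = 1 := by ring
  rw [h3, d.Hh_one] at h2
  rw [← h1]
  exact inv_eq_of_mul_eq_one_right h2.symm

omit [Finite K] in
theorem Data.Nset_mul_X (d : Data X Y) {g : Γ} (hg : g ∈ Nset X Y) (c : K) :
    g * X c ∈ Nset X Y := by
  rcases hg with ⟨a, t, ht, rfl⟩ | ⟨b, hb, c', rfl⟩
  · left
    refine ⟨a + t ^ 2 * c, t, ht, ?_⟩
    rw [← d.addX, mul_assoc, d.Hh_mul_X ht, mul_assoc]
  · right
    refine ⟨b, hb, c' + c, ?_⟩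
    rw [← d.addX]
    group

theorem Data.Bset_mul_Nset (d : Data X Y)
    (hgen : Subgroup.closure (Set.range X ∪ Set.range Y) = ⊤) {b g : Γ}
    (hb : b ∈ Bset X Y) (hg : g ∈ Nset X Y) : b * g ∈ Nset X Y := by
  rcases hg with hg | ⟨b', hb', c, rfl⟩
  · exact Or.inl (d.Bset_mul hgen hb hg)
  · right
    refine ⟨b * b', d.Bset_mul hgen hb hb', c, ?_⟩
    group

/-- `w(1) X(a) w(1) ∈ B ∪ B w X`. -/
theorem Data.W1_X_W1 (d : Data X Y)
    (hgen : Subgroup.closure (Set.range X ∪ Set.range Y) = ⊤) (a : K) :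
    W X Y 1 * X a * W X Y 1 ∈ Nset X Y := by
  have hm1 : (-1 : K) ≠ 0 := by norm_num
  by_cases ha : a = 0
  · subst ha
    rw [d.X_zero, mul_one, d.W1_sq hgen]
    exact Or.inl (d.Hh_mem_Bset hm1)
  · right
    have hna : -a ≠ 0 := neg_ne_zero.mpr ha
    have h1 := d.relX 1 a one_ne_zero
    rw [MulAut.conj_apply] at h1
    have h2 : -((1 : K)⁻¹ ^ 2 * a) = -a := by simp
    rw [h2, d.Y_eq hna, d.W_eq_Hh_mul (-(-a)⁻¹)] at h1
    have hs : -(-a)⁻¹ ≠ 0 := neg_ne_zero.mpr (inv_ne_zero hna)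
    have h3 := d.W_conjHh hm1
    rw [MulAut.conj_apply] at h3
    have h4 := d.X_mul_Hh hm1 (-a)⁻¹
    refine ⟨X (-a)⁻¹ * Hh X Y (-(-a)⁻¹) * Hh X Y (-1)⁻¹,
      d.Bset_mul hgen (d.Bset_mul hgen (d.X_mem_Bset _) (d.Hh_mem_Bset hs))
        (d.Hh_mem_Bset (inv_ne_zero hm1)), (-1 : K)⁻¹ ^ 2 * (-a)⁻¹, ?_⟩
    calc W X Y 1 * X a * W X Y 1
        = (W X Y 1 * X a * (W X Y 1)⁻¹) * (W X Y 1 * W X Y 1) := by group
      _ = X (-a)⁻¹ * (Hh X Y (-(-a)⁻¹) * W X Y 1) * X (-a)⁻¹ * Hh X Y (-1) := by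
          rw [h1, d.W1_sq hgen]
      _ = X (-a)⁻¹ * Hh X Y (-(-a)⁻¹) * W X Y 1 * (X (-a)⁻¹ * Hh X Y (-1)) := by group
      _ = X (-a)⁻¹ * Hh X Y (-(-a)⁻¹) * (W X Y 1 * Hh X Y (-1) * (W X Y 1)⁻¹) * W X Y 1 *
            X ((-1 : K)⁻¹ ^ 2 * (-a)⁻¹) := by rw [h4]; group
      _ = X (-a)⁻¹ * Hh X Y (-(-a)⁻¹) * Hh X Y (-1)⁻¹ * W X Y 1 *
            X ((-1 : K)⁻¹ ^ 2 * (-a)⁻¹) := by rw [h3]

theorem Data.W1_mul_Nset (d : Data X Y)
    (hgen : Subgroup.closure (Set.range X ∪ Set.range Y) = ⊤) {g : Γ}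
    (hg : g ∈ Nset X Y) : W X Y 1 * g ∈ Nset X Y := by
  rcases hg with hg | ⟨b, hb, c, rfl⟩
  · obtain ⟨b', hb', c, h⟩ := d.W1_mul_Bset hg
    exact Or.inr ⟨b', hb', c, h⟩
  · obtain ⟨b', hb', a, h⟩ := d.W1_mul_Bset hb
    have h1 : W X Y 1 * (b * W X Y 1 * X c) = b' * (W X Y 1 * X a * W X Y 1) * X c := by
      calc W X Y 1 * (b * W X Y 1 * X c) = (W X Y 1 * b) * W X Y 1 * X c := by group
        _ = b' * W X Y 1 * X a * W X Y 1 * X c := by rw [h]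
        _ = b' * (W X Y 1 * X a * W X Y 1) * X c := by group
    rw [h1]
    exact d.Nset_mul_X (d.Bset_mul_Nset hgen hb' (d.W1_X_W1 hgen a)) c

theorem Data.Y_mul_Nset (d : Data X Y)
    (hgen : Subgroup.closure (Set.range X ∪ Set.range Y) = ⊤) {g : Γ}
    (hg : g ∈ Nset X Y) (v : K) : Y v * g ∈ Nset X Y := by
  by_cases hv : v = 0
  · subst hv
    rw [d.Y_zero, one_mul]
    exact hg
  · have hs : -v⁻¹ ≠ 0 := neg_ne_zero.mpr (inv_ne_zero hv)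
    rw [d.Y_eq hv, d.W_eq_Hh_mul (-v⁻¹)]
    have h1 : X v⁻¹ * (Hh X Y (-v⁻¹) * W X Y 1) * X v⁻¹ * g =
        (X v⁻¹ * Hh X Y (-v⁻¹)) * (W X Y 1 * (X v⁻¹ * g)) := by group
    rw [h1]
    exact d.Bset_mul_Nset hgen (d.Bset_mul hgen (d.X_mem_Bset _) (d.Hh_mem_Bset hs))
      (d.W1_mul_Nset hgen (d.Bset_mul_Nset hgen (d.X_mem_Bset _) hg))

/-- The normal form: every element lies in `B ∪ B w X`. -/
theorem Data.mem_Nset (d : Data X Y)
    (hgen : Subgroup.closure (Set.range X ∪ Set.range Y) = ⊤) (g : Γ) : g ∈ Nset X Y := by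
  have hg : g ∈ Subgroup.closure (Set.range X ∪ Set.range Y) := hgen ▸ Subgroup.mem_top g
  induction hg using Subgroup.closure_induction_left with
  | one => exact Or.inl d.one_mem_Bset
  | mul_left x hx y _ ih =>
    rcases hx with ⟨v, rfl⟩ | ⟨v, rfl⟩
    · exact d.Bset_mul_Nset hgen (d.X_mem_Bset v) ih
    · exact d.Y_mul_Nset hgen ih v
  | inv_mul_cancel x hx y _ ih =>
    rcases hx with ⟨v, rfl⟩ | ⟨v, rfl⟩
    · rw [d.X_inv]
      exact d.Bset_mul_Nset hgen (d.X_mem_Bset (-v)) ih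
    · rw [d.Y_inv]
      exact d.Y_mul_Nset hgen ih (-v)

end finite

end Cfsg.Agent.Lib.Helper53.Steinberg
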