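import Mathlib
import Cfsg.Agent.Lib.Helper53.SteinbergSL2

/-!
The rank-one Steinberg group over a finite field maps isomorphically onto `SL₂(K)` (helper53):
the elementary matrices satisfy the Steinberg relations, generate `SL₂(K)`, and a homomorphism
from an abstract Steinberg group with the expected values on generators is injective.
-/

set_option autoImplicit false

namespace Cfsg.Agent.Lib.Helper53.Steinberg

open Matrix

variable {K : Type*} [Field K]

/-- `x(t)` -/
def xM (t : K) : Matrix.SpecialLinearGroup (Fin 2) K :=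
  ⟨!![1, t; 0, 1], by simp [Matrix.det_fin_two]⟩

def yM (t : K) : Matrix.SpecialLinearGroup (Fin 2) K :=
  ⟨!![1, 0; t, 1], by simp [Matrix.det_fin_two]⟩

theorem xM_val (t : K) : (xM t).1 = !![1, t; 0, 1] := rfl
theorem yM_val (t : K) : (yM t).1 = !![1, 0; t, 1] := rfl

theorem sl2ext {g h : Matrix.SpecialLinearGroup (Fin 2) K} (h00 : g.1 0 0 = h.1 0 0)
    (h01 : g.1 0 1 = h.1 0 1) (h10 : g.1 1 0 = h.1 1 0) (h11 : g.1 1 1 = h.1 1 1) : g = h := by
  apply Subtype.ext
  ext i j
  fin_cases i <;> fin_cases j <;> assumption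

theorem wM_val {t : K} (ht : t ≠ 0) : (W xM yM t).1 = !![0, t; -t⁻¹, 0] := by
  unfold W
  simp only [Matrix.SpecialLinearGroup.coe_mul, xM_val, yM_val, Matrix.mul_fin_two]
  ext i j
  fin_cases i <;> fin_cases j <;> simp [ht]

theorem wM'_val {t : K} (ht : t ≠ 0) : (W yM xM t).1 = !![0, -t⁻¹; t, 0] := by
  unfold W
  simp only [Matrix.SpecialLinearGroup.coe_mul, xM_val, yM_val, Matrix.mul_fin_two]
  ext i j
  fin_cases i <;> fin_cases j <;> simp [ht]

theorem dataM : Data (xM : K → _) yM := by
  refine ⟨?_, ?_, ?_, ?_⟩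
  · intro t u
    apply sl2ext <;> simp [xM_val, add_comm]
  · intro t u
    apply sl2ext <;> simp [yM_val]
  · intro t u ht
    rw [MulAut.conj_apply, mul_inv_eq_iff_eq_mul]
    apply sl2ext <;> simp [wM_val ht, xM_val, yM_val]; field_simp
  · intro t u ht
    rw [MulAut.conj_apply, mul_inv_eq_iff_eq_mul]
    apply sl2ext <;> simp [wM'_val ht, xM_val, yM_val]; field_simp

section hom

variable {Γ : Type*} [Group Γ] {X Y : K → Γ}

theorem map_W (π : Γ →* Matrix.SpecialLinearGroup (Fin 2) K)
    (hX : ∀ t, π (X t) = xM t) (hY : ∀ t, π (Y t) = yM t) (t : K) :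
    π (W X Y t) = W xM yM t := by
  unfold W
  rw [map_mul, map_mul, hX, hY]

theorem map_Hh_val (π : Γ →* Matrix.SpecialLinearGroup (Fin 2) K)
    (hX : ∀ t, π (X t) = xM t) (hY : ∀ t, π (Y t) = yM t) {t : K} (ht : t ≠ 0) :
    (π (Hh X Y t)).1 = !![t, 0; 0, t⁻¹] := by
  unfold Hh
  rw [map_mul, map_W π hX hY, map_W π hX hY, Matrix.SpecialLinearGroup.coe_mul, wM_val ht,
    wM_val (by norm_num : (-1 : K) ≠ 0), Matrix.mul_fin_two]
  ext i j
  fin_cases i <;> fin_cases j <;> simp

/-- A homomorphism from a Steinberg group of rank one over a finite field to `SL₂` with the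
expected values on the generators is injective. -/
theorem Data.injective_of_hom [Finite K] (d : Data X Y)
    (hgen : Subgroup.closure (Set.range X ∪ Set.range Y) = ⊤)
    (π : Γ →* Matrix.SpecialLinearGroup (Fin 2) K)
    (hX : ∀ t, π (X t) = xM t) (hY : ∀ t, π (Y t) = yM t) : Function.Injective π := by
  rw [injective_iff_map_eq_one]
  intro g hg
  have hBval : ∀ a t : K, t ≠ 0 → (π (X a * Hh X Y t)).1 = !![t, a * t⁻¹; 0, t⁻¹] := by
    intro a t ht
    rw [map_mul, Matrix.SpecialLinearGroup.coe_mul, map_Hh_val π hX hY ht, hX, xM_val,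
      Matrix.mul_fin_two]
    ext i j
    fin_cases i <;> fin_cases j <;> simp
  rcases d.mem_Nset hgen g with ⟨a, t, ht, rfl⟩ | ⟨b, ⟨a, t, ht, rfl⟩, c, rfl⟩
  · have h1 := hBval a t ht
    rw [hg] at h1
    have e00 := congrFun (congrFun h1 0) 0
    have e01 := congrFun (congrFun h1 0) 1
    simp at e00 e01
    have ht1 : t = 1 := e00.symm
    subst ht1
    have ha : a = 0 := by
      rcases e01 with h | h
      · exact h
      · exact absurd h one_ne_zero
    rw [ha, d.X_zero, d.Hh_one, one_mul]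
  · exfalso
    have h1 : (π (X a * Hh X Y t * W X Y 1 * X c)).1 1 0 = -t⁻¹ := by
      rw [map_mul, map_mul, Matrix.SpecialLinearGroup.coe_mul, Matrix.SpecialLinearGroup.coe_mul,
        hBval a t ht, map_W π hX hY, wM_val one_ne_zero, hX, xM_val, Matrix.mul_fin_two,
        Matrix.mul_fin_two]
      simp
    rw [hg] at h1
    simp at h1
    exact ht h1

/-- `SL₂(K)` is generated by elementary matrices. -/
theorem mem_closure_xM_yM (M : Matrix.SpecialLinearGroup (Fin 2) K) :
    M ∈ Subgroup.closure (Set.range (xM : K → _) ∪ Set.range (yM : K → _)) := by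
  have hx : ∀ t : K, xM t ∈ Subgroup.closure (Set.range (xM : K → _) ∪ Set.range (yM : K → _)) :=
    fun t => Subgroup.subset_closure (Or.inl ⟨t, rfl⟩)
  have hy : ∀ t : K, yM t ∈ Subgroup.closure (Set.range (xM : K → _) ∪ Set.range (yM : K → _)) :=
    fun t => Subgroup.subset_closure (Or.inr ⟨t, rfl⟩)
  have key : ∀ M : Matrix.SpecialLinearGroup (Fin 2) K, M.1 1 0 ≠ 0 →
      M ∈ Subgroup.closure (Set.range (xM : K → _) ∪ Set.range (yM : K → _)) := by
    intro M hc
    have hdet : M.1 0 0 * M.1 1 1 - M.1 0 1 * M.1 1 0 = 1 := by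
      have := M.2
      rwa [Matrix.det_fin_two] at this
    have : M = xM ((M.1 0 0 - 1) / M.1 1 0) * yM (M.1 1 0) * xM ((M.1 1 1 - 1) / M.1 1 0) := by
      apply sl2ext
      · simp [xM_val, yM_val]
        field_simp
        ring
      · simp [xM_val, yM_val]
        field_simp
        linear_combination (-1 : K) * hdet
      · simp [xM_val, yM_val]
      · simp [xM_val, yM_val]
        field_simp
        ring
    rw [this]
    exact mul_mem (mul_mem (hx _) (hy _)) (hx _)
  by_cases hc : M.1 1 0 = 0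
  · have hdet : M.1 0 0 * M.1 1 1 - M.1 0 1 * M.1 1 0 = 1 := by
      have := M.2
      rwa [Matrix.det_fin_two] at this
    have ha : M.1 0 0 ≠ 0 := by
      intro h
      rw [h, hc] at hdet
      simp at hdet
    have h1 : (yM 1 * M).1 1 0 ≠ 0 := by
      rw [Matrix.SpecialLinearGroup.coe_mul, yM_val, Matrix.eta_fin_two M.1, Matrix.mul_fin_two]
      simp [hc, ha]
    have h2 := key _ h1
    have h3 : M = (yM 1)⁻¹ * (yM 1 * M) := by group
    rw [h3]
    exact mul_mem (inv_mem (hy 1)) h2
  · exact key M hc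

end hom

end Cfsg.Agent.Lib.Helper53.Steinberg
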