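import Cfsg.Agent.Lib.Helper36.Tri.OctLin

/-!
# TRI8 `[OCT-ID1]`: octonion identities (brute force in coordinates)
-/

set_option autoImplicit false
set_option maxHeartbeats 1600000

namespace Cfsg.Agent.Lib.Helper53.TriOct

open Cfsg.Agent.Lib.Helper36.Tri

variable {F : Type*} [Field F]

theorem oone_omul (x : OV F) : omul oone x = x := by
  funext i; rcases i with i | i <;> fin_cases i <;> simp [omul, oone]

theorem omul_oone (x : OV F) : omul x oone = x := by
  funext i; rcases i with i | i <;> fin_cases i <;> simp [omul, oone]

theorem onorm_oone : onorm (oone : OV F) = 1 := by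
  rw [onorm_eq]; simp [oone]

theorem oconj_oone : oconj (oone : OV F) = oone := by
  funext i; rcases i with i | i <;> fin_cases i <;> simp [oconj, oone]

theorem onorm_omul (x y : OV F) : onorm (omul x y) = onorm x * onorm y := by
  rw [onorm_eq, onorm_eq, onorm_eq]; simp [omul]; ring

theorem omul_oconj (x : OV F) : omul x (oconj x) = onorm x • oone := by
  funext i; rcases i with i | i <;> fin_cases i <;> simp [omul, oconj, oone, onorm_eq] <;> ring

theorem oconj_omul (x : OV F) : omul (oconj x) x = onorm x • oone := by
  funext i; rcases i with i | i <;> fin_cases i <;> simp [omul, oconj, oone, onorm_eq] <;> ring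

theorem oconj_omul_rev (x y : OV F) : oconj (omul x y) = omul (oconj y) (oconj x) := by
  funext i; rcases i with i | i <;> fin_cases i <;> simp [omul, oconj] <;> ring

theorem moufang_mid (a x y : OV F) : omul (omul a x) (omul y a) = omul (omul a (omul x y)) a := by
  funext i; rcases i with i | i <;> fin_cases i <;> simp [omul] <;> ring

theorem moufang_left (a x y : OV F) : omul a (omul x (omul a y)) = omul (omul (omul a x) a) y := by
  funext i; rcases i with i | i <;> fin_cases i <;> simp [omul] <;> ring

theorem moufang_right (a x y : OV F) : omul (omul (omul x a) y) a = omul x (omul a (omul y a)) := by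
  funext i; rcases i with i | i <;> fin_cases i <;> simp [omul] <;> ring

theorem flexible (a x : OV F) : omul (omul a x) a = omul a (omul x a) := by
  funext i; rcases i with i | i <;> fin_cases i <;> simp [omul] <;> ring

theorem oconj_omul_cancel (x y : OV F) : omul (oconj x) (omul x y) = onorm x • y := by
  funext i; rcases i with i | i <;> fin_cases i <;> simp [omul, oconj, onorm_eq] <;> ring

theorem omul_oconj_cancel (x y : OV F) : omul x (omul (oconj x) y) = onorm x • y := by
  funext i; rcases i with i | i <;> fin_cases i <;> simp [omul, oconj, onorm_eq] <;> ring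

theorem omul_cancel_oconj (x y : OV F) : omul (omul y x) (oconj x) = onorm x • y := by
  funext i; rcases i with i | i <;> fin_cases i <;> simp [omul, oconj, onorm_eq] <;> ring

theorem omul_cancel_oconj' (x y : OV F) : omul (omul y (oconj x)) x = onorm x • y := by
  funext i; rcases i with i | i <;> fin_cases i <;> simp [omul, oconj, onorm_eq] <;> ring

theorem lin_alt_left (u v x : OV F) :
    omul (oconj u) (omul v x) + omul (oconj v) (omul u x) = obil u v • x := by
  funext i; rcases i with i | i <;> fin_cases i <;> simp [omul, oconj, obil_eq] <;> ring

theorem lin_alt_right (u v x : OV F) :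
    omul (omul x v) (oconj u) + omul (omul x u) (oconj v) = obil u v • x := by
  funext i; rcases i with i | i <;> fin_cases i <;> simp [omul, oconj, obil_eq] <;> ring

theorem omul_oconj_omul (u x : OV F) :
    omul (omul u (oconj x)) u = obil u x • u - onorm u • x := by
  funext i; rcases i with i | i <;> fin_cases i <;> simp [omul, oconj, obil_eq, onorm_eq] <;> ring

end Cfsg.Agent.Lib.Helper53.TriOct
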