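import Cfsg.Agent.Lib.Helper36.Tri.OctLin

/-!
# TRI8 `[OCT-ID2]`: the polar form of the octonion norm, nondegeneracy, nucleus
-/

set_option autoImplicit false
set_option maxHeartbeats 1600000

namespace Cfsg.Agent.Lib.Helper53.TriOct

open Cfsg.Agent.Lib.Helper36.Tri

variable {F : Type*} [Field F]

theorem obil_comm (x y : OV F) : obil x y = obil y x := by
  rw [obil_eq, obil_eq]; ring

theorem obil_add_left (x x' y : OV F) : obil (x + x') y = obil x y + obil x' y := by
  rw [obil_eq, obil_eq, obil_eq]; simp only [Pi.add_apply]; ring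

theorem obil_smul_left (c : F) (x y : OV F) : obil (c • x) y = c * obil x y := by
  rw [obil_eq, obil_eq]; simp only [Pi.smul_apply, smul_eq_mul]; ring

theorem obil_self (x : OV F) : obil x x = 2 * onorm x := by
  rw [obil_eq, onorm_eq]; ring

theorem obil_oconj (x y : OV F) : obil (oconj x) (oconj y) = obil x y := by
  rw [obil_eq, obil_eq]; simp [oconj]; ring

theorem obil_eq_polar (x y : OV F) :
    obil x y = QuadraticMap.polar (Cfsg.quadFormPlus 4 F) x y := rfl

theorem obil_omul_left (x y z : OV F) : obil (omul x y) z = obil y (omul (oconj x) z) := by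
  rw [obil_eq, obil_eq]; simp [omul, oconj]; ring

theorem obil_omul_right (x y z : OV F) : obil (omul x y) z = obil x (omul z (oconj y)) := by
  rw [obil_eq, obil_eq]; simp [omul, oconj]; ring

theorem obil_omul_omul (x y z : OV F) : obil (omul x z) (omul y z) = obil x y * onorm z := by
  rw [obil_eq, obil_eq, onorm_eq]; simp [omul]; ring

theorem obil_omul_omul' (x y z : OV F) : obil (omul z x) (omul z y) = onorm z * obil x y := by
  rw [obil_eq, obil_eq, onorm_eq]; simp [omul]; ring

theorem obil_nondeg (x : OV F) (h : ∀ y, obil x y = 0) : x = 0 := by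
  funext i
  rcases i with i | i
  · have := h (Pi.single (Sum.inr i) 1)
    rw [obil_eq] at this
    fin_cases i <;> simpa using this
  · have := h (Pi.single (Sum.inl i) 1)
    rw [obil_eq] at this
    fin_cases i <;> simpa using this

theorem nucleus (b : OV F) (h : ∀ x y : OV F, omul (omul x b) y = omul x (omul b y)) :
    ∃ l : F, b = l • oone := by
  have h1 := h (Pi.single (Sum.inl 1) 1) (Pi.single (Sum.inr 1) 1)
  have h2 := h (Pi.single (Sum.inl 2) 1) (Pi.single (Sum.inr 2) 1)
  have h3 := h (Pi.single (Sum.inl 1) 1) (Pi.single (Sum.inl 2) 1)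
  have e12 := congrFun h1 (Sum.inl 2)
  have e13 := congrFun h1 (Sum.inl 3)
  have f12 := congrFun h1 (Sum.inr 2)
  have f13 := congrFun h1 (Sum.inr 3)
  have e21 := congrFun h2 (Sum.inl 1)
  have f21 := congrFun h2 (Sum.inr 1)
  have g := congrFun h3 (Sum.inr 3)
  simp [omul] at e12 e13 f12 f13 e21 f21 g
  refine ⟨b (Sum.inl 0), ?_⟩
  funext i
  rcases i with i | i <;> fin_cases i <;>
    simp [oone, e12, e13, ← f12, ← f13, e21, ← f21, g]

end Cfsg.Agent.Lib.Helper53.TriOct
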