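/-
helper53: FH MODULE HECKE-E (for helper19's S1142 Feit–Higman project): the Hecke matrices of a
set of representatives of `N / (B ⊓ N)` sum to the all-ones matrix (Bruhat decomposition).
-/
import Cfsg.Agent.Lib.Helper19.FHHeckeDefs

set_option autoImplicit false
set_option linter.unusedSectionVars false

namespace Cfsg.Agent.Lib.Helper53.FH

open Matrix Cfsg Cfsg.Agent.Lib.Helper6 Cfsg.Agent.Lib.Helper19.FH

variable {G : Type*} [Group G] (P : Cfsg.BNPair G) [Fintype (G ⧸ P.B)] [DecidableEq (G ⧸ P.B)]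

theorem heckeMat_sum (R : Finset G) (hR : ∀ w ∈ R, w ∈ P.N) (hex : ∀ n ∈ P.N, ∃ w ∈ R, Rel P w n)
    (hinj : ∀ w ∈ R, ∀ w' ∈ R, Rel P w w' → w = w') :
    ∑ w ∈ R, heckeMat P w = Matrix.of (fun _ _ => (1 : ℝ)) := by
  classical
  ext x y
  rw [Matrix.sum_apply, Matrix.of_apply]
  obtain ⟨n, hn, hng⟩ := bruhat_exists P (x.out⁻¹ * y.out)
  obtain ⟨w, hw, hwn⟩ := hex n hn
  have hwg : InDC P w (x.out⁻¹ * y.out) := inDC_trans P (rel_inDC P hwn) hng
  rw [Finset.sum_eq_single w]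
  · unfold heckeMat
    rw [if_pos hwg]
  · intro w' hw' hne
    unfold heckeMat
    rw [if_neg]
    intro hw'g
    apply hne
    have h1 : InDC P w w' := inDC_trans P hwg (inDC_symm P hw'g)
    exact (hinj w hw w' hw' (bruhat_unique P (hR w hw) (hR w' hw') h1)).symm
  · intro h
    exact absurd hw h

end Cfsg.Agent.Lib.Helper53.FH
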