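import Mathlib

/-!
Central extensions: elementary calculus of lifts (helper53).  `π : E →* A` has central kernel; two
lifts of one element differ by a central element, so conjugation by a lift and commutators of lifts
only depend on the images.
-/

set_option autoImplicit false

namespace Cfsg.Agent.Lib.Helper53.AltMult

variable {E A : Type*} [Group E] [Group A] (π : E →* A)

/-- all lifts of `a` commute with all lifts of `b` -/
def LiftsCommute (a b : A) : Prop := ∀ u v : E, π u = a → π v = b → Commute u v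

theorem LiftsCommute.conj (hsurj : Function.Surjective π) {a b : A} (h : LiftsCommute π a b)
    (c : A) : LiftsCommute π (c * a * c⁻¹) (c * b * c⁻¹) := by
  intro u v hu hv
  obtain ⟨s, rfl⟩ := hsurj c
  have h1 : π (s⁻¹ * u * s) = a := by
    rw [map_mul, map_mul, map_inv, hu]; group
  have h2 : π (s⁻¹ * v * s) = b := by
    rw [map_mul, map_mul, map_inv, hv]; group
  have h3 : (s⁻¹ * u * s) * (s⁻¹ * v * s) = (s⁻¹ * v * s) * (s⁻¹ * u * s) := h _ _ h1 h2
  have h4 : u * v = s * ((s⁻¹ * u * s) * (s⁻¹ * v * s)) * s⁻¹ := by group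
  have h5 : v * u = s * ((s⁻¹ * v * s) * (s⁻¹ * u * s)) * s⁻¹ := by group
  show u * v = v * u
  rw [h4, h5, h3]

section central

variable (hc : π.ker ≤ Subgroup.center E)
include hc

theorem commute_of_map_eq_one {z : E} (hz : π z = 1) (g : E) : Commute z g :=
  (Subgroup.mem_center_iff.1 (hc (MonoidHom.mem_ker.2 hz)) g).symm

/-- conjugation by a lift only depends on the image -/
theorem conj_eq_of_map_eq {u v : E} (h : π u = π v) (w : E) : u * w * u⁻¹ = v * w * v⁻¹ := by
  have hζ : π (v⁻¹ * u) = 1 := by rw [map_mul, map_inv, h, inv_mul_cancel]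
  have hcom := commute_of_map_eq_one π hc hζ w
  have h1 : u * w * u⁻¹ = v * ((v⁻¹ * u) * w) * (v⁻¹ * u)⁻¹ * v⁻¹ := by group
  rw [h1, hcom.eq]; group

/-- a commuting pair of lifts makes all pairs of lifts commute -/
theorem liftsCommute_of_commute {u v : E} (h : Commute u v) : LiftsCommute π (π u) (π v) := by
  intro u' v' hu hv
  have h1 : u' * v' * u'⁻¹ = u * v' * u⁻¹ := conj_eq_of_map_eq π hc hu v'
  have hζ : π (v⁻¹ * v') = 1 := by rw [map_mul, map_inv, hv, inv_mul_cancel]
  have hcom := commute_of_map_eq_one π hc hζ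
  have h2 : u * v' * u⁻¹ = v' := by
    have e : v' = v * (v⁻¹ * v') := by group
    rw [e]
    calc u * (v * (v⁻¹ * v')) * u⁻¹ = (u * v) * ((v⁻¹ * v') * u⁻¹) := by group
      _ = (v * u) * (u⁻¹ * (v⁻¹ * v')) := by rw [h.eq, (hcom u⁻¹).eq]
      _ = v * (v⁻¹ * v') := by group
  show u' * v' = v' * u'
  rw [h2] at h1
  calc u' * v' = (u' * v' * u'⁻¹) * u' := by group
    _ = v' * u' := by rw [h1]

/-- the chain step: from an involution `u` and a lift `t` of the next generator, the conjugate
`(u t) u (u t)⁻¹` is an involution lifting the same element as `t` and braids with `u`. -/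
theorem chain_step {u t : E} (hu : u * u = 1)
    (hπ : π ((u * t) * u * (u * t)⁻¹) = π t) :
    ((u * t) * u * (u * t)⁻¹) * ((u * t) * u * (u * t)⁻¹) = 1 ∧
      (u * ((u * t) * u * (u * t)⁻¹)) ^ 3 = 1 := by
  obtain ⟨v, hv⟩ : ∃ v, v = (u * t) * u * (u * t)⁻¹ := ⟨_, rfl⟩
  rw [← hv] at hπ ⊢
  have hvv : v * v = 1 := by
    rw [hv]
    calc (u * t) * u * (u * t)⁻¹ * ((u * t) * u * (u * t)⁻¹)
        = (u * t) * (u * u) * (u * t)⁻¹ := by group
      _ = 1 := by rw [hu]; group
  refine ⟨hvv, ?_⟩
  have h1 : v = (u * v) * u * (u * v)⁻¹ := by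
    have := conj_eq_of_map_eq π hc (u := u * t) (v := u * v) (by rw [map_mul, map_mul, hπ]) u
    rw [← hv] at this
    exact this
  have huinv : u⁻¹ = u := inv_eq_of_mul_eq_one_left hu
  have hvinv : v⁻¹ = v := inv_eq_of_mul_eq_one_left hvv
  -- v = u v u v u
  have h2 : v = u * v * u * v * u := by
    have : (u * v) * u * (u * v)⁻¹ = u * v * u * v⁻¹ * u⁻¹ := by group
    rw [this, huinv, hvinv] at h1
    exact h1
  -- braid
  have h3 : v * u * v = u * v * u := by
    calc v * u * v = (u * v * u * v * u) * u * v := by rw [← h2]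
      _ = u * v * u * v * (u * u) * v := by group
      _ = u * v * u * (v * v) := by rw [hu]; group
      _ = u * v * u := by rw [hvv, mul_one]
  calc (u * v) ^ 3 = (u * v * u) * (v * u * v) := by rw [pow_succ, pow_two]; group
    _ = (u * v * u) * (u * v * u) := by rw [h3]
    _ = u * v * (u * u) * v * u := by group
    _ = u * (v * v) * u := by rw [hu]; group
    _ = 1 := by rw [hvv, mul_one, hu]

end central

end Cfsg.Agent.Lib.Helper53.AltMult
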