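import Mathlib
import Cfsg.Agent.Lib.Helper53.AltCentral

/-!
Central extensions: commutators of lifts (helper53).  `σ : Γ →* G` surjective with central
kernel.  The commutator `cm a b = a b a⁻¹ b⁻¹` of two lifts depends only on the images; a lift
of `g` commutes with `cm β δ` when `g` commutes with `σ β` and `σ δ`; and the "torus trick":
a one-parameter subgroup `A` commuting with `b₀`, both normalized suitably by an element `h`
acting on `A` through a scalar `c ≠ 1`, has lifts commuting with the lifts of `b₀`.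
-/

set_option autoImplicit false

namespace Cfsg.Agent.Lib.Helper53.CLift

open Cfsg.Agent.Lib.Helper53.AltMult

variable {Γ G : Type*} [Group Γ] [Group G]

/-- The commutator, written out. -/
def cm (a b : Γ) : Γ := a * b * a⁻¹ * b⁻¹

theorem cm_eq_one_iff {a b : Γ} : cm a b = 1 ↔ a * b = b * a := by
  unfold cm
  constructor
  · intro h
    have : a * b = (a * b * a⁻¹ * b⁻¹) * (b * a) := by group
    rw [this, h, one_mul]
  · intro h
    calc a * b * a⁻¹ * b⁻¹ = (a * b) * (a⁻¹ * b⁻¹) := by group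
      _ = (b * a) * (a⁻¹ * b⁻¹) := by rw [h]
      _ = 1 := by group

theorem map_cm {H : Type*} [Group H] (f : Γ →* H) (a b : Γ) : f (cm a b) = cm (f a) (f b) := by
  unfold cm
  rw [map_mul, map_mul, map_mul, map_inv, map_inv]

theorem cm_mul_left (x y z : Γ) : cm (x * y) z = x * cm y z * x⁻¹ * cm x z := by
  unfold cm; group

theorem cm_mul_right (x y z : Γ) : cm x (y * z) = cm x y * (y * cm x z * y⁻¹) := by
  unfold cm; group

theorem conj_cm (g a b : Γ) : g * cm a b * g⁻¹ = cm (g * a * g⁻¹) (g * b * g⁻¹) := by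
  unfold cm; group

theorem conj_eq_cm_mul (a b : Γ) : a * b * a⁻¹ = cm a b * b := by
  unfold cm; group

section central

variable (σ : Γ →* G) (hc : σ.ker ≤ Subgroup.center Γ)

include hc

theorem mem_center_of_map_eq_one {z : Γ} (hz : σ z = 1) : z ∈ Subgroup.center Γ :=
  hc (MonoidHom.mem_ker.mpr hz)

theorem comm_of_map_eq_one {z : Γ} (hz : σ z = 1) (g : Γ) : z * g = g * z :=
  (Subgroup.mem_center_iff.mp (mem_center_of_map_eq_one σ hc hz) g).symm

/-- The commutator of lifts depends only on the images. -/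
theorem cm_eq_of_map_eq {a a' b b' : Γ} (ha : σ a = σ a') (hb : σ b = σ b') :
    cm a b = cm a' b' := by
  have h1 : a * b * a⁻¹ = a' * b * a'⁻¹ := conj_eq_of_map_eq σ hc ha b
  have h2 : b * a'⁻¹ * b⁻¹ = b' * a'⁻¹ * b'⁻¹ := conj_eq_of_map_eq σ hc hb a'⁻¹
  unfold cm
  calc a * b * a⁻¹ * b⁻¹ = a' * b * a'⁻¹ * b⁻¹ := by rw [h1]
    _ = a' * (b * a'⁻¹ * b⁻¹) := by group
    _ = a' * (b' * a'⁻¹ * b'⁻¹) := by rw [h2]
    _ = a' * b' * a'⁻¹ * b'⁻¹ := by group

/-- A lift of an element commuting with `σ β` and `σ δ` commutes with `cm β δ`. -/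
theorem comm_cm_of_comm {γ β δ : Γ} (h1 : σ γ * σ β = σ β * σ γ) (h2 : σ γ * σ δ = σ δ * σ γ) :
    γ * cm β δ = cm β δ * γ := by
  have e1 : σ (γ * β * γ⁻¹) = σ β := by
    rw [map_mul, map_mul, map_inv, h1, mul_inv_cancel_right]
  have e2 : σ (γ * δ * γ⁻¹) = σ δ := by
    rw [map_mul, map_mul, map_inv, h2, mul_inv_cancel_right]
  have h3 : γ * cm β δ * γ⁻¹ = cm β δ := by
    rw [conj_cm, cm_eq_of_map_eq σ hc e1 e2]
  calc γ * cm β δ = (γ * cm β δ * γ⁻¹) * γ := by group
    _ = cm β δ * γ := by rw [h3]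

/-- If `g` commutes with `b` and `c`, all lifts of `g` commute with all lifts of `b c b⁻¹ c⁻¹`. -/
theorem liftsCommute_cm (hsurj : Function.Surjective σ) {g b c : G} (h1 : g * b = b * g)
    (h2 : g * c = c * g) : LiftsCommute σ g (cm b c) := by
  obtain ⟨β, rfl⟩ := hsurj b
  obtain ⟨δ, rfl⟩ := hsurj c
  obtain ⟨γ, rfl⟩ := hsurj g
  have h := comm_cm_of_comm σ hc h1 h2
  have := liftsCommute_of_commute σ hc (u := γ) (v := cm β δ) h
  rw [map_cm] at this
  exact this

/-- The torus trick. -/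
theorem liftsCommute_of_torus {K : Type*} [Field K] (hsurj : Function.Surjective σ)
    (A : K → G) (hA : ∀ t u, A (t + u) = A t * A u) (b₀ : G) (hAb : ∀ t, A t * b₀ = b₀ * A t)
    (h : G) (c : K) (hc1 : c ≠ 1) (hhA : ∀ t, h * A t * h⁻¹ = A (c * t))
    (hhb : h * b₀ * h⁻¹ = b₀) (t : K) : LiftsCommute σ (A t) b₀ := by
  choose a ha using fun t => hsurj (A t)
  obtain ⟨b, hb⟩ := hsurj b₀
  obtain ⟨η, hη⟩ := hsurj h
  -- the pairing
  have hker : ∀ t, σ (cm (a t) b) = 1 := by
    intro t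
    rw [map_cm, ha, hb]
    exact cm_eq_one_iff.mpr (hAb t)
  have hcen : ∀ t (g : Γ), cm (a t) b * g = g * cm (a t) b :=
    fun t g => comm_of_map_eq_one σ hc (hker t) g
  have hadd : ∀ t u, cm (a (t + u)) b = cm (a t) b * cm (a u) b := by
    intro t u
    have e : cm (a (t + u)) b = cm (a t * a u) b := by
      apply cm_eq_of_map_eq σ hc _ rfl
      rw [map_mul, ha, ha, ha, hA]
    have e2 : a t * cm (a u) b * (a t)⁻¹ = cm (a u) b := by
      rw [← hcen u (a t), mul_inv_cancel_right]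
    rw [e, cm_mul_left, e2, hcen u]
  have hinv : ∀ t, cm (a (c * t)) b = cm (a t) b := by
    intro t
    have e1 : σ (η * a t * η⁻¹) = σ (a (c * t)) := by
      rw [map_mul, map_mul, map_inv, hη, ha, ha, hhA]
    have e2 : σ (η * b * η⁻¹) = σ b := by
      rw [map_mul, map_mul, map_inv, hη, hb, hhb]
    rw [← cm_eq_of_map_eq σ hc e1 e2, ← conj_cm, ← hcen t η, mul_inv_cancel_right]
  have hzero : cm (a 0) b = 1 := by
    have := hadd 0 0
    rw [add_zero] at this
    exact mul_left_cancel (a := cm (a 0) b) (by rw [← this, mul_one])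
  have hneg : ∀ t, cm (a (-t)) b = (cm (a t) b)⁻¹ := by
    intro t
    have := hadd t (-t)
    rw [add_neg_cancel, hzero] at this
    exact (inv_eq_of_mul_eq_one_right this.symm).symm
  have hkill : ∀ s, cm (a ((c - 1) * s)) b = 1 := by
    intro s
    have e : (c - 1) * s = c * s + -s := by ring
    rw [e, hadd, hinv, hneg, mul_inv_cancel]
  have hc1' : c - 1 ≠ 0 := sub_ne_zero.mpr hc1
  have h1 : cm (a t) b = 1 := by
    have := hkill ((c - 1)⁻¹ * t)
    rwa [← mul_assoc, mul_inv_cancel₀ hc1', one_mul] at this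
  have h2 : a t * b = b * a t := cm_eq_one_iff.mp h1
  have := liftsCommute_of_commute σ hc (u := a t) (v := b) h2
  rw [ha, hb] at this
  exact this

end central

end Cfsg.Agent.Lib.Helper53.CLift
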