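import Mathlib
import Cfsg.Agent.S0041
import Cfsg.Agent.S0016
import Cfsg.Agent.S0519

/-!
Half-transitive linear `p`-groups (Passman): basic tools (helper53).
Stabilizers, orbit-stabilizer, Maschke by hand for `ρ : G →* (V ≃ₗ[ZMod q] V)`,
"not semiregular ⇒ irreducible", central elements act fixed-point-freely,
semiregular ⇒ cyclic or quaternion.
-/

set_option autoImplicit false

namespace Cfsg.Agent.Lib.Helper53.HalfTrans

section basic

variable {q : ℕ} [Fact q.Prime] {V : Type*} [AddCommGroup V] [Module (ZMod q) V]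
  {G : Type*} [Group G] (ρ : G →* (V ≃ₗ[ZMod q] V))

theorem rmul (g h : G) (v : V) : ρ (g * h) v = ρ g (ρ h v) := by rw [map_mul]; rfl

theorem rone (v : V) : ρ 1 v = v := by rw [map_one]; rfl

theorem rinv (g : G) (v : V) : ρ g⁻¹ (ρ g v) = v := by rw [← rmul, inv_mul_cancel, rone]

theorem rinv' (g : G) (v : V) : ρ g (ρ g⁻¹ v) = v := by rw [← rmul, mul_inv_cancel, rone]

theorem rne (g : G) {v : V} (hv : v ≠ 0) : ρ g v ≠ 0 :=
  fun h => hv ((ρ g).map_eq_zero_iff.mp h)

theorem rinj (g : G) {v w : V} (h : ρ g v = ρ g w) : v = w := (ρ g).injective h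

/-- The stabilizer of a vector. -/
def stab (v : V) : Subgroup G where
  carrier := {g | ρ g v = v}
  mul_mem' := by
    intro a b ha hb
    show ρ (a * b) v = v
    have ha' : ρ a v = v := ha
    have hb' : ρ b v = v := hb
    rw [rmul, hb', ha']
  one_mem' := rone ρ v
  inv_mem' := by
    intro a ha
    show ρ a⁻¹ v = v
    have ha' : ρ a v = v := ha
    conv_lhs => rw [← ha']
    exact rinv ρ a v

theorem mem_stab {v : V} {g : G} : g ∈ stab ρ v ↔ ρ g v = v := Iff.rfl

/-- The action of `G` on `V` through `ρ`. -/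
@[reducible] def act : MulAction G V where
  smul g v := ρ g v
  one_smul v := rone ρ v
  mul_smul g h v := rmul ρ g h v

theorem card_orbit_mul_card_stab [Finite G] (v : V) :
    Nat.card {u : V | ∃ g : G, ρ g v = u} * Nat.card (stab ρ v) = Nat.card G := by
  let _ := act ρ
  have h1 := Nat.card_congr (MulAction.orbitProdStabilizerEquivGroup G v)
  rw [Nat.card_prod] at h1
  exact h1

theorem card_stab_eq [Finite G]
    (hhalf : ∀ v w : V, v ≠ 0 → w ≠ 0 →
      Nat.card {u : V | ∃ g : G, ρ g v = u} = Nat.card {u : V | ∃ g : G, ρ g w = u})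
    {v w : V} (hv : v ≠ 0) (hw : w ≠ 0) : Nat.card (stab ρ v) = Nat.card (stab ρ w) := by
  have h1 := card_orbit_mul_card_stab ρ v
  have h2 := card_orbit_mul_card_stab ρ w
  rw [hhalf v w hv hw, ← h2] at h1
  have hpos : 0 < Nat.card {u : V | ∃ g : G, ρ g w = u} := by
    rcases Nat.eq_zero_or_pos (Nat.card {u : V | ∃ g : G, ρ g w = u}) with h | h
    · rw [h, zero_mul] at h2
      exact absurd h2.symm (Nat.card_pos (α := G)).ne'
    · exact h
  exact Nat.eq_of_mul_eq_mul_left hpos h1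

/-- An element fixing every vector is trivial. -/
theorem eq_one_of_fix_all (hρ : Function.Injective ρ) {g : G} (h : ∀ v : V, ρ g v = v) : g = 1 := by
  apply hρ
  rw [map_one]
  ext v
  exact h v

theorem fix_add_iff {U W : Submodule (ZMod q) V} (hUW : Disjoint U W) {g : G} {u w : V}
    (hu : u ∈ U) (hw : w ∈ W) (hgu : ρ g u ∈ U) (hgw : ρ g w ∈ W) :
    ρ g (u + w) = u + w ↔ ρ g u = u ∧ ρ g w = w := by
  constructor
  · intro h
    rw [map_add] at h
    have h1 : ρ g u - u = w - ρ g w := by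
      rw [sub_eq_sub_iff_add_eq_add, h, add_comm]
    have h2 : ρ g u - u ∈ U := U.sub_mem hgu hu
    have h3 : ρ g u - u ∈ W := h1 ▸ W.sub_mem hw hgw
    have h4 := Submodule.disjoint_def.mp hUW _ h2 h3
    have h5 : w - ρ g w = 0 := h1 ▸ h4
    exact ⟨sub_eq_zero.mp h4, (sub_eq_zero.mp h5).symm⟩
  · rintro ⟨h1, h2⟩
    rw [map_add, h1, h2]

/-- Maschke's theorem, by hand. -/
theorem exists_invariant_compl [Finite G] (hcop : (Nat.card G : ZMod q) ≠ 0)
    (U : Submodule (ZMod q) V) (hU : ∀ g : G, ∀ u ∈ U, ρ g u ∈ U) :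
    ∃ W : Submodule (ZMod q) V, IsCompl U W ∧ ∀ g : G, ∀ w ∈ W, ρ g w ∈ W := by
  classical
  have : Fintype G := Fintype.ofFinite G
  obtain ⟨U', hU'⟩ := Submodule.exists_isCompl U
  let π : V →ₗ[ZMod q] V := U.subtype ∘ₗ (U.projectionOnto U' hU')
  have hπU : ∀ v, π v ∈ U := fun v => (U.projectionOnto U' hU' v).2
  have hπid : ∀ u ∈ U, π u = u := by
    intro u hu
    show ((U.projectionOnto U' hU' u : U) : V) = u
    rw [Submodule.projectionOnto_apply_of_mem_left hU' hu]
  let c : ZMod q := (Nat.card G : ZMod q)⁻¹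
  let Q : V →ₗ[ZMod q] V :=
    c • ∑ g : G, ((ρ g : V →ₗ[ZMod q] V) ∘ₗ π ∘ₗ (ρ g⁻¹ : V →ₗ[ZMod q] V))
  have hQ : ∀ v, Q v = c • ∑ g : G, ρ g (π (ρ g⁻¹ v)) := by
    intro v
    simp [Q, LinearMap.sum_apply]
  have hQU : ∀ v, Q v ∈ U := by
    intro v
    rw [hQ]
    exact U.smul_mem _ (U.sum_mem fun g _ => hU g _ (hπU _))
  have hQid : ∀ u ∈ U, Q u = u := by
    intro u hu
    rw [hQ]
    have h1 : ∀ g : G, ρ g (π (ρ g⁻¹ u)) = u := by
      intro g
      rw [hπid _ (hU g⁻¹ u hu), rinv']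
    simp only [h1, Finset.sum_const, Finset.card_univ]
    rw [← Nat.cast_smul_eq_nsmul (ZMod q), smul_smul, ← Nat.card_eq_fintype_card,
      inv_mul_cancel₀ hcop, one_smul]
  have hQeq : ∀ (h : G) (v : V), Q (ρ h v) = ρ h (Q v) := by
    intro h v
    rw [hQ, hQ, map_smul, map_sum]
    congr 1
    refine Fintype.sum_equiv (Equiv.mulLeft h⁻¹) _ _ ?_
    intro g
    simp only [Equiv.coe_mulLeft]
    rw [← rmul, ← rmul, mul_inv_cancel_left, mul_inv_rev, inv_inv]
  refine ⟨LinearMap.ker Q, IsCompl.of_eq ?_ ?_, ?_⟩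
  · rw [Submodule.eq_bot_iff]
    intro x hx
    obtain ⟨hxU, hxK⟩ := Submodule.mem_inf.mp hx
    rw [← hQid x hxU]
    exact LinearMap.mem_ker.mp hxK
  · rw [eq_top_iff]
    intro v _
    refine Submodule.mem_sup.mpr ⟨Q v, hQU v, v - Q v, ?_, by abel⟩
    rw [LinearMap.mem_ker, map_sub, hQid (Q v) (hQU v), sub_self]
  · intro g w hw
    rw [LinearMap.mem_ker] at *
    rw [hQeq, hw, map_zero]

/-- A half-transitive group that is not semiregular acts irreducibly. -/
theorem irreducible_of_not_semiregular [Finite G] (hρ : Function.Injective ρ)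
    (hcop : (Nat.card G : ZMod q) ≠ 0)
    (hst : ∀ v w : V, v ≠ 0 → w ≠ 0 → Nat.card (stab ρ v) = Nat.card (stab ρ w))
    (hns : ∃ v : V, v ≠ 0 ∧ ∃ g : G, g ≠ 1 ∧ ρ g v = v) :
    ∀ W : Submodule (ZMod q) V, (∀ g : G, ∀ w ∈ W, ρ g w ∈ W) → W = ⊥ ∨ W = ⊤ := by
  intro U hU
  by_contra hcon
  push Not at hcon
  obtain ⟨hUb, hUt⟩ := hcon
  obtain ⟨W, hUW, hW⟩ := exists_invariant_compl ρ hcop U hU
  have hWb : W ≠ ⊥ := by
    intro h
    rw [h] at hUW
    exact hUt (by simpa using hUW.sup_eq_top)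
  obtain ⟨u₀, hu₀U, hu₀⟩ := (Submodule.ne_bot_iff U).mp hUb
  obtain ⟨w₀, hw₀W, hw₀⟩ := (Submodule.ne_bot_iff W).mp hWb
  have key : ∀ u ∈ U, ∀ w ∈ W, u ≠ 0 → w ≠ 0 → stab ρ u = stab ρ w := by
    intro u hu w hw hu0 hw0
    have huw : u + w ≠ 0 := by
      intro h
      have h1 : u = -w := eq_neg_of_add_eq_zero_left h
      have huW : u ∈ W := h1 ▸ W.neg_mem hw
      exact hu0 (Submodule.disjoint_def.mp hUW.disjoint u hu huW)
    have hsub1 : stab ρ (u + w) ≤ stab ρ u := fun g hg =>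
      ((fix_add_iff ρ hUW.disjoint hu hw (hU g u hu) (hW g w hw)).mp hg).1
    have hsub2 : stab ρ (u + w) ≤ stab ρ w := fun g hg =>
      ((fix_add_iff ρ hUW.disjoint hu hw (hU g u hu) (hW g w hw)).mp hg).2
    have e1 : stab ρ (u + w) = stab ρ u :=
      Subgroup.eq_of_le_of_card_ge hsub1 (hst u (u + w) hu0 huw).le
    have e2 : stab ρ (u + w) = stab ρ w :=
      Subgroup.eq_of_le_of_card_ge hsub2 (hst w (u + w) hw0 huw).le
    rw [← e1, e2]
  have hS : ∀ g ∈ stab ρ u₀, g = 1 := by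
    intro g hg
    apply eq_one_of_fix_all ρ hρ
    intro v
    obtain ⟨u, hu, w, hw, rfl⟩ :=
      Submodule.mem_sup.mp (hUW.sup_eq_top ▸ Submodule.mem_top : v ∈ U ⊔ W)
    have hgu : ρ g u = u := by
      by_cases hu0 : u = 0
      · rw [hu0, map_zero]
      · have h1 : stab ρ u = stab ρ w₀ := key u hu w₀ hw₀W hu0 hw₀
        have h2 : stab ρ u₀ = stab ρ w₀ := key u₀ hu₀U w₀ hw₀W hu₀ hw₀
        have h3 : g ∈ stab ρ u := by rw [h1, ← h2]; exact hg
        exact h3
    have hgw : ρ g w = w := by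
      by_cases hw0 : w = 0
      · rw [hw0, map_zero]
      · have h1 : stab ρ u₀ = stab ρ w := key u₀ hu₀U w hw hu₀ hw0
        have h3 : g ∈ stab ρ w := by rw [← h1]; exact hg
        exact h3
    rw [map_add, hgu, hgw]
  obtain ⟨v, hv, g, hg1, hgv⟩ := hns
  have hb : stab ρ u₀ = ⊥ := by
    rw [eq_bot_iff]
    intro g hg
    exact Subgroup.mem_bot.mpr (hS g hg)
  have hc2 : Nat.card (stab ρ v) = 1 := by rw [hst v u₀ hv hu₀, hb, Subgroup.card_bot]
  have hb2 : stab ρ v = ⊥ := Subgroup.card_eq_one.mp hc2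
  have h3 : g ∈ (⊥ : Subgroup G) := hb2 ▸ hgv
  exact hg1 (Subgroup.mem_bot.mp h3)

/-- In an irreducible faithful action, non-identity central elements have no non-zero fixed
vector. -/
theorem central_fpf (hρ : Function.Injective ρ)
    (hirr : ∀ W : Submodule (ZMod q) V, (∀ g : G, ∀ w ∈ W, ρ g w ∈ W) → W = ⊥ ∨ W = ⊤)
    {z : G} (hzc : z ∈ Subgroup.center G) (hz1 : z ≠ 1) {v : V} (hv : ρ z v = v) : v = 0 := by
  let F : Submodule (ZMod q) V := LinearMap.ker ((ρ z : V →ₗ[ZMod q] V) - LinearMap.id)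
  have hF : ∀ x, x ∈ F ↔ ρ z x = x := by
    intro x
    simp [F, LinearMap.mem_ker, sub_eq_zero]
  have hinv : ∀ g : G, ∀ w ∈ F, ρ g w ∈ F := by
    intro g w hw
    rw [hF] at *
    rw [← rmul, ← Subgroup.mem_center_iff.mp hzc g, rmul, hw]
  rcases hirr F hinv with h | h
  · have h1 : v ∈ F := (hF v).mpr hv
    rw [h] at h1
    exact (Submodule.mem_bot _).mp h1
  · exfalso
    apply hz1
    apply eq_one_of_fix_all ρ hρ
    intro x
    have h1 : x ∈ F := h ▸ Submodule.mem_top
    exact (hF x).mp h1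

/-- A fixed-point-free involution acts as `-1`. -/
theorem neg_of_fpf_involution {z : G} (hzz : z * z = 1)
    (hfpf : ∀ v : V, ρ z v = v → v = 0) (v : V) : ρ z v = -v := by
  have h1 : ρ z (v + ρ z v) = v + ρ z v := by
    rw [map_add, ← rmul, hzz, rone, add_comm]
  have h2 := hfpf _ h1
  exact (neg_eq_of_add_eq_zero_right h2).symm

end basic

section semireg

variable {q : ℕ} [Fact q.Prime] {V : Type*} [AddCommGroup V] [Module (ZMod q) V] [Nontrivial V]
  {G : Type*} [Group G] [Finite G] (ρ : G →* (V ≃ₗ[ZMod q] V))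

/-- The hom to `Module.End ℤ V`. -/
def toEndZ (q : ℕ) [Fact q.Prime] (V : Type*) [AddCommGroup V] [Module (ZMod q) V] :
    (V ≃ₗ[ZMod q] V) →* Module.End ℤ V where
  toFun f := (f : V →ₗ[ZMod q] V).toAddMonoidHom.toIntLinearMap
  map_one' := by ext; rfl
  map_mul' := by intros; ext; rfl

theorem toEndZ_apply (f : V ≃ₗ[ZMod q] V) (v : V) : toEndZ q V f v = f v := rfl

theorem isCyclic_closure_pair_of_semiregular
    (hsr : ∀ v : V, v ≠ 0 → ∀ g : G, ρ g v = v → g = 1) {a b : G} (hab : a * b = b * a) :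
    IsCyclic (Subgroup.closure ({a, b} : Set G)) := by
  have hcomm : ∀ x ∈ ({a, b} : Set G), ∀ y ∈ ({a, b} : Set G), x * y = y * x := by
    intro x hx y hy
    rcases hx with rfl | hx <;> rcases hy with rfl | hy
    · rfl
    · rw [Set.mem_singleton_iff.mp hy]; exact hab
    · rw [Set.mem_singleton_iff.mp hx]; exact hab.symm
    · rw [Set.mem_singleton_iff.mp hx, Set.mem_singleton_iff.mp hy]
  let _ : CommGroup (Subgroup.closure ({a, b} : Set G)) := Subgroup.closureCommGroupOfComm hcomm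
  exact Cfsg.Agent.S0041.cyclic_of_comm
    (((toEndZ q V).comp ρ).comp (Subgroup.closure ({a, b} : Set G)).subtype) (by
      intro x hx m hm
      by_contra hm0
      exact hx (Subtype.ext (hsr m hm0 x.1 hm)))

theorem eq_of_card_eq_of_le_isCyclic' {B C₁ C₂ : Subgroup G} (hB : IsCyclic B)
    (h1 : C₁ ≤ B) (h2 : C₂ ≤ B) (hc : Nat.card C₁ = Nat.card C₂) : C₁ = C₂ := by
  have e1 : Nat.card (C₁.subgroupOf B) = Nat.card C₁ :=
    Nat.card_congr (Subgroup.subgroupOfEquivOfLe h1).toEquiv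
  have e2 : Nat.card (C₂.subgroupOf B) = Nat.card C₂ :=
    Nat.card_congr (Subgroup.subgroupOfEquivOfLe h2).toEquiv
  have := Cfsg.Agent.S0519.subgroup_eq_of_card_eq (C₁.subgroupOf B) (C₂.subgroupOf B)
    (by rw [e1, e2, hc])
  rw [Subgroup.subgroupOf_inj] at this
  rwa [inf_eq_left.mpr h1, inf_eq_left.mpr h2] at this

theorem unique_order_p_of_semiregular [Nontrivial G] (p : ℕ) [hp : Fact p.Prime]
    (hG : IsPGroup p G) (hsr : ∀ v : V, v ≠ 0 → ∀ g : G, ρ g v = v → g = 1) :
    ∀ H K : Subgroup G, Nat.card H = p → Nat.card K = p → H = K := by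
  have hc : p ∣ Nat.card (Subgroup.center G) := by
    have := hG.center_nontrivial
    rcases (hG.to_subgroup (Subgroup.center G)).card_eq_or_dvd with h | h
    · exact absurd h (Finite.one_lt_card (α := Subgroup.center G)).ne'
    · exact h
  obtain ⟨z', hz'⟩ := exists_prime_orderOf_dvd_card' (G := Subgroup.center G) p hc
  have hzc : (z' : G) ∈ Subgroup.center G := z'.2
  have hzo : orderOf (z' : G) = p := by rw [Subgroup.orderOf_coe]; exact hz'
  have key : ∀ K : Subgroup G, Nat.card K = p → K = Subgroup.zpowers (z' : G) := by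
    intro K hK
    have hKnt : K ≠ ⊥ := by
      intro h
      rw [h, Subgroup.card_bot] at hK
      exact hp.out.one_lt.ne hK
    obtain ⟨k, hkK, hk1⟩ := (Subgroup.ne_bot_iff_exists_ne_one).mp hKnt |>.imp
      (fun a ha => ha) |> fun ⟨a, ha⟩ => (⟨(a : G), a.2, fun h0 => ha (Subtype.ext h0)⟩ :
        ∃ a : G, a ∈ K ∧ a ≠ 1)
    have hko : orderOf k = p := by
      have h1 : orderOf k ∣ p := by
        rw [← hK]
        have := orderOf_dvd_natCard (⟨k, hkK⟩ : K)
        rwa [Subgroup.orderOf_mk] at this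
      rcases (Nat.dvd_prime hp.out).mp h1 with h | h
      · exact absurd (orderOf_eq_one_iff.mp h) hk1
      · exact h
    have hKk : Subgroup.zpowers k = K :=
      Subgroup.eq_of_le_of_card_ge (Subgroup.zpowers_le.mpr hkK)
        (by rw [Nat.card_zpowers, hko, hK])
    have hcyc := isCyclic_closure_pair_of_semiregular ρ hsr (a := k) (b := (z' : G))
      (Subgroup.mem_center_iff.mp hzc k)
    rw [← hKk]
    apply eq_of_card_eq_of_le_isCyclic' hcyc
    · exact Subgroup.zpowers_le.mpr (Subgroup.subset_closure (by simp))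
    · exact Subgroup.zpowers_le.mpr (Subgroup.subset_closure (by simp))
    · rw [Nat.card_zpowers, Nat.card_zpowers, hko, hzo]
  intro H K hH hK
  rw [key H hH, key K hK]

/-- A semiregular linear `p`-group is cyclic or generalized quaternion. -/
theorem cyclic_or_quaternion_of_semiregular (p : ℕ) [hp : Fact p.Prime]
    (hG : IsPGroup p G) (hsr : ∀ v : V, v ≠ 0 → ∀ g : G, ρ g v = v → g = 1) :
    IsCyclic G ∨ ∃ n : ℕ, Nonempty (G ≃* QuaternionGroup n) := by
  rcases subsingleton_or_nontrivial G with h | h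
  · left; infer_instance
  · rcases Cfsg.Agent.S0016.result p hG (unique_order_p_of_semiregular ρ p hG hsr) with h1 | h1
    · left; exact h1
    · right
      obtain ⟨-, n, hn⟩ := h1
      exact ⟨2 ^ n, hn⟩

/-- If `G` has a unique subgroup of order `p` (e.g. cyclic or quaternion) and all point stabilizers
have the same order, then the action is semiregular. -/
theorem semiregular_of_unique_order_p (hρ : Function.Injective ρ) (p : ℕ) [hp : Fact p.Prime]
    (hG : IsPGroup p G)
    (huniq : ∀ H K : Subgroup G, Nat.card H = p → Nat.card K = p → H = K)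
    (hst : ∀ v w : V, v ≠ 0 → w ≠ 0 → Nat.card (stab ρ v) = Nat.card (stab ρ w)) :
    ∀ v : V, v ≠ 0 → ∀ g : G, ρ g v = v → g = 1 := by
  intro v hv g hgv
  by_contra hg1
  -- an element of order p in stab v
  have hnt : stab ρ v ≠ ⊥ := by
    intro h
    have : g ∈ (⊥ : Subgroup G) := h ▸ hgv
    exact hg1 (Subgroup.mem_bot.mp this)
  have hdv : ∀ w : V, w ≠ 0 → p ∣ Nat.card (stab ρ w) := by
    intro w hw
    rw [← hst v w hv hw]
    rcases (hG.to_subgroup (stab ρ v)).card_eq_or_dvd with h | h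
    · exact absurd (Subgroup.card_eq_one.mp h) hnt
    · exact h
  obtain ⟨x, hx⟩ := exists_prime_orderOf_dvd_card' (G := stab ρ v) p (hdv v hv)
  have hxo : orderOf (x : G) = p := by rw [Subgroup.orderOf_coe]; exact hx
  have hx1 : (x : G) ≠ 1 := by
    intro h
    rw [h, orderOf_one] at hxo
    exact hp.out.one_lt.ne hxo
  apply hx1
  apply eq_one_of_fix_all ρ hρ
  intro w
  by_cases hw : w = 0
  · rw [hw, map_zero]
  · obtain ⟨y, hy⟩ := exists_prime_orderOf_dvd_card' (G := stab ρ w) p (hdv w hw)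
    have hyo : orderOf (y : G) = p := by rw [Subgroup.orderOf_coe]; exact hy
    have h1 : Subgroup.zpowers (x : G) = Subgroup.zpowers (y : G) :=
      huniq _ _ (by rw [Nat.card_zpowers, hxo]) (by rw [Nat.card_zpowers, hyo])
    have h2 : (x : G) ∈ Subgroup.zpowers (y : G) := h1 ▸ Subgroup.mem_zpowers _
    have h3 : Subgroup.zpowers (y : G) ≤ stab ρ w := Subgroup.zpowers_le.mpr y.2
    exact h3 h2

end semireg

section coprime

variable {q : ℕ} [hq : Fact q.Prime] {V : Type*} [AddCommGroup V] [Module (ZMod q) V] [Finite V]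
  [Nontrivial V] {G : Type*} [Group G] [Finite G] (ρ : G →* (V ≃ₗ[ZMod q] V))

theorem card_V_eq_pow : ∃ d : ℕ, 0 < d ∧ Nat.card V = q ^ d := by
  have : Module.Finite (ZMod q) V := Module.Finite.of_finite
  refine ⟨Module.finrank (ZMod q) V, Module.finrank_pos, ?_⟩
  rw [Module.natCard_eq_pow_finrank (K := ZMod q), Nat.card_zmod]

/-- A non-trivial half-transitive faithful `p`-group in characteristic `q` has `q ≠ p`. -/
theorem card_cast_ne_zero [Nontrivial G] (hρ : Function.Injective ρ) (p : ℕ) [hp : Fact p.Prime]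
    (hG : IsPGroup p G)
    (hst : ∀ v w : V, v ≠ 0 → w ≠ 0 → Nat.card (stab ρ v) = Nat.card (stab ρ w)) :
    (Nat.card G : ZMod q) ≠ 0 := by
  intro h0
  obtain ⟨k, hk⟩ := hG.exists_card_eq
  have h1 : q ∣ p ^ k := by
    rw [← hk]; exact (ZMod.natCast_eq_zero_iff _ _).mp h0
  have hqp : q = p := (Nat.prime_dvd_prime_iff_eq hq.out hp.out).mp (hq.out.dvd_of_dvd_pow h1)
  obtain ⟨d, hd, hVd⟩ := card_V_eq_pow (q := q) (V := V)
  have hpV : p ∣ Nat.card V := by
    rw [hVd, hqp]; exact dvd_pow_self p hd.ne'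
  let _ := act ρ
  have h0fix : (0 : V) ∈ MulAction.fixedPoints G V := by
    intro g
    show ρ g 0 = 0
    exact map_zero _
  obtain ⟨b, hb, hb0⟩ := hG.exists_fixed_point_of_prime_dvd_card_of_fixed_point V hpV h0fix
  have hbfix : ∀ g : G, ρ g b = b := fun g => hb g
  have hb0' : b ≠ 0 := fun h => hb0 h.symm
  have htop : stab ρ b = ⊤ := by
    rw [eq_top_iff]; intro g _; exact hbfix g
  obtain ⟨g, hg⟩ := exists_ne (1 : G)
  apply hg
  apply eq_one_of_fix_all ρ hρ
  intro w
  by_cases hw : w = 0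
  · rw [hw, map_zero]
  · have h2 : Nat.card (stab ρ w) = Nat.card G := by
      rw [hst w b hw hb0', htop, Subgroup.card_top]
    have h3 : stab ρ w = ⊤ := Subgroup.eq_top_of_card_eq _ h2
    have h4 : g ∈ stab ρ w := h3 ▸ Subgroup.mem_top g
    exact h4

end coprime

section index2

variable {G : Type*} [Group G] [Finite G]

theorem card_le_two_mul_card_inf {H : Subgroup G} (hH : H.index = 2) (S : Subgroup G) :
    Nat.card S ≤ 2 * Nat.card (S ⊓ H : Subgroup G) := by
  have h1 : Nat.card ((S ⊓ H).subgroupOf S) * ((S ⊓ H).subgroupOf S).index = Nat.card S :=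
    Subgroup.card_mul_index _
  have h2 : Nat.card ((S ⊓ H).subgroupOf S) = Nat.card (S ⊓ H : Subgroup G) :=
    Nat.card_congr (Subgroup.subgroupOfEquivOfLe inf_le_left).toEquiv
  have h3 : ((S ⊓ H).subgroupOf S).index ≤ 2 := by
    have h5 : ((S ⊓ H).subgroupOf S).index = H.relIndex S := by
      rw [← Subgroup.relIndex, inf_comm, Subgroup.inf_relIndex_right]
    rw [h5]
    have h4 := Subgroup.relIndex_le_of_le_right (H := H) (le_top : S ≤ ⊤)
      (by rw [Subgroup.relIndex_top_right, hH]; norm_num)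
    rwa [Subgroup.relIndex_top_right, hH] at h4
  rw [h2] at h1
  calc Nat.card S = Nat.card (S ⊓ H : Subgroup G) * ((S ⊓ H).subgroupOf S).index := h1.symm
    _ ≤ Nat.card (S ⊓ H : Subgroup G) * 2 := Nat.mul_le_mul_left _ h3
    _ = 2 * Nat.card (S ⊓ H : Subgroup G) := mul_comm _ _

theorem mem_or_mul_mem_of_card_le {A B : Subgroup G} (hAB : A ≤ B)
    (hc : Nat.card B ≤ 2 * Nat.card A) {k g : G} (hk : k ∈ B) (hkA : k ∉ A) (hg : g ∈ B) :
    g ∈ A ∨ k * g ∈ A := by
  have h1 : Nat.card (A.subgroupOf B) * (A.subgroupOf B).index = Nat.card B :=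
    Subgroup.card_mul_index _
  have h2 : Nat.card (A.subgroupOf B) = Nat.card A :=
    Nat.card_congr (Subgroup.subgroupOfEquivOfLe hAB).toEquiv
  have hpos : 0 < Nat.card A := Nat.card_pos
  have h3 : (A.subgroupOf B).index ≤ 2 := by
    rw [h2] at h1
    by_contra h
    push Not at h
    have : Nat.card A * 3 ≤ Nat.card A * (A.subgroupOf B).index := Nat.mul_le_mul_left _ h
    omega
  have h4 : (A.subgroupOf B).index ≠ 1 := by
    intro h
    rw [Subgroup.index_eq_one] at h
    have h5 : (⟨k, hk⟩ : B) ∈ A.subgroupOf B := h ▸ Subgroup.mem_top _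
    exact hkA (Subgroup.mem_subgroupOf.mp h5)
  have h5 : (A.subgroupOf B).index = 2 := by
    have := (A.subgroupOf B).index_ne_zero_of_finite
    omega
  have h6 := Subgroup.mul_mem_iff_of_index_two h5 (a := (⟨k, hk⟩ : B)) (b := (⟨g, hg⟩ : B))
  by_cases hgA : g ∈ A
  · left; exact hgA
  · right
    have h7 : ((⟨k, hk⟩ : B) * ⟨g, hg⟩) ∈ A.subgroupOf B :=
      h6.mpr ⟨fun h => absurd (Subgroup.mem_subgroupOf.mp h) hkA,
        fun h => absurd (Subgroup.mem_subgroupOf.mp h) hgA⟩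
    exact Subgroup.mem_subgroupOf.mp h7

end index2

end Cfsg.Agent.Lib.Helper53.HalfTrans
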