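import Mathlib

/-!
helper53: a biadditive pairing on a finite field that is invariant under multiplication by
nonzero squares is trivial, except for the fields with 4 and 9 elements (the key arithmetic fact
behind the triviality of the `p`-part of the Schur multiplier of `SL₂(q)`).
-/

set_option autoImplicit false

namespace Cfsg.Agent.Lib.Helper53.SL2Mult

variable {k : Type*} [Field k] [Finite k] {Z : Type*} [Group Z]

/-- every element of a finite field is a sum of two squares -/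
theorem exists_sq_add_sq (t : k) : ∃ a b : k, a ^ 2 + b ^ 2 = t := by
  classical
  have : Fintype k := Fintype.ofFinite k
  by_cases h2 : ringChar k = 2
  · obtain ⟨a, ha⟩ := FiniteField.isSquare_of_char_two (F := k) h2 t
    exact ⟨a, 0, by rw [ha]; ring⟩
  · have hodd : Fintype.card k % 2 = 1 := FiniteField.odd_card_of_char_ne_two h2
    obtain ⟨a, b, hab⟩ := FiniteField.exists_root_sum_quadratic (R := k)
      (f := Polynomial.X ^ 2) (g := Polynomial.X ^ 2 - Polynomial.C t)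
      (Polynomial.degree_X_pow 2) (Polynomial.degree_X_pow_sub_C (by norm_num) t) hodd
    refine ⟨a, b, ?_⟩
    simp at hab
    linear_combination hab

/-- A biadditive pairing on a finite field, invariant under multiplication by nonzero squares,
is trivial as soon as there is a Pythagorean relation `X + Y = W` among nonzero squares with
`W² ≠ X Y`. -/
theorem pairing_trivial (g : k → k → Z)
    (hadd1 : ∀ t t' u, g (t + t') u = g t u * g t' u)
    (hadd2 : ∀ t u u', g t (u + u') = g t u * g t u')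
    (hinv : ∀ s t u : k, s ≠ 0 → g (s ^ 2 * t) (s ^ 2 * u) = g t u)
    (hrel : ∃ x y z : k, x ≠ 0 ∧ y ≠ 0 ∧ z ≠ 0 ∧ x ^ 2 + y ^ 2 = z ^ 2 ∧
      (z ^ 2) ^ 2 ≠ x ^ 2 * y ^ 2) : ∀ t u, g t u = 1 := by
  have hz2 : ∀ t, g t 0 = 1 := by
    intro t
    have := hadd2 t 0 0
    rw [add_zero] at this
    exact (mul_eq_left.mp this.symm)
  have hz1 : ∀ u, g 0 u = 1 := by
    intro u
    have := hadd1 0 0 u
    rw [add_zero] at this
    exact (mul_eq_left.mp this.symm)
  -- `g (s²) u = g 1 (s⁻² u)`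
  have hsq : ∀ s u : k, s ≠ 0 → g (s ^ 2) u = g 1 ((s ^ 2)⁻¹ * u) := by
    intro s u hs
    have := hinv s 1 ((s ^ 2)⁻¹ * u) hs
    rw [mul_one, ← mul_assoc, mul_inv_cancel₀ (pow_ne_zero 2 hs), one_mul] at this
    exact this
  obtain ⟨x, y, z, hx, hy, hz, hxyz, hne⟩ := hrel
  have hx2 : x ^ 2 ≠ 0 := pow_ne_zero 2 hx
  have hy2 : y ^ 2 ≠ 0 := pow_ne_zero 2 hy
  have hz2' : z ^ 2 ≠ 0 := pow_ne_zero 2 hz
  -- the key relation
  have key : ∀ u, g 1 ((z ^ 2)⁻¹ * u) = g 1 (((x ^ 2)⁻¹ + (y ^ 2)⁻¹) * u) := by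
    intro u
    rw [← hsq z u hz, ← hxyz, hadd1, hsq x u hx, hsq y u hy, ← hadd2, add_mul]
  set d : k := (z ^ 2)⁻¹ - ((x ^ 2)⁻¹ + (y ^ 2)⁻¹) with hd
  have hd0 : d ≠ 0 := by
    intro h
    apply hne
    have h1 : (z ^ 2)⁻¹ = (x ^ 2)⁻¹ + (y ^ 2)⁻¹ := by
      rw [hd] at h; exact sub_eq_zero.mp h
    field_simp at h1
    linear_combination (-1 : k) * h1 - (z ^ 2) * hxyz
  have hG : ∀ v, g 1 v = 1 := by
    intro v
    have h1 := key (d⁻¹ * v)
    have h2 : (z ^ 2)⁻¹ * (d⁻¹ * v) = v + ((x ^ 2)⁻¹ + (y ^ 2)⁻¹) * (d⁻¹ * v) := by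
      have : (z ^ 2)⁻¹ = d + ((x ^ 2)⁻¹ + (y ^ 2)⁻¹) := by rw [hd]; ring
      rw [this, add_mul, ← mul_assoc, mul_inv_cancel₀ hd0, one_mul]
    rw [h2, hadd2] at h1
    exact mul_eq_right.mp h1
  intro t u
  obtain ⟨a, b, rfl⟩ := exists_sq_add_sq t
  have hsq1 : ∀ s u : k, g (s ^ 2) u = 1 := by
    intro s u
    by_cases hs : s = 0
    · rw [hs]; simp [hz1]
    · rw [hsq s u hs, hG]
  rw [hadd1, hsq1, hsq1, mul_one]

section rel

open Polynomial


/-- Pythagorean relation in characteristic `2`, more than `4` elements. -/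
theorem exists_rel_even (h2 : ringChar k = 2) (hq : 4 < Nat.card k) :
    ∃ x y z : k, x ≠ 0 ∧ y ≠ 0 ∧ z ≠ 0 ∧ x ^ 2 + y ^ 2 = z ^ 2 ∧
      (z ^ 2) ^ 2 ≠ x ^ 2 * y ^ 2 := by
  classical
  have : Fintype k := Fintype.ofFinite k
  have : CharP k 2 := ringChar.of_eq h2
  obtain ⟨g, hg⟩ := IsCyclic.exists_generator (α := kˣ)
  have hord : orderOf g = Nat.card k - 1 := by
    rw [orderOf_eq_card_of_forall_mem_zpowers hg, Nat.card_eq_fintype_card, Fintype.card_units,
      Nat.card_eq_fintype_card]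
  have hpow : ∀ n : ℕ, 0 < n → n < Nat.card k - 1 → (g : k) ^ n ≠ 1 := by
    intro n hn0 hn h
    have h1 : g ^ n = 1 := by
      apply Units.ext
      rw [Units.val_pow_eq_pow_val, h, Units.val_one]
    have := orderOf_dvd_of_pow_eq_one h1
    rw [hord] at this
    exact absurd (Nat.le_of_dvd hn0 this) (not_le.mpr hn)
  have hg1 : (g : k) ≠ 1 := by
    have := hpow 1 one_pos (by omega)
    rwa [pow_one] at this
  have hg3 : (g : k) ^ 3 ≠ 1 := hpow 3 (by norm_num) (by omega)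
  obtain ⟨x, hx⟩ := FiniteField.isSquare_of_char_two (F := k) h2 (g : k)
  obtain ⟨z, hz⟩ := FiniteField.isSquare_of_char_two (F := k) h2 ((g : k) + 1)
  have hx2 : x ^ 2 = (g : k) := by rw [hx]; ring
  have hz2 : z ^ 2 = (g : k) + 1 := by rw [hz]; ring
  have two0 : (2 : k) = 0 := CharTwo.two_eq_zero
  refine ⟨x, 1, z, ?_, one_ne_zero, ?_, ?_, ?_⟩
  · intro h; rw [h] at hx2; simp at hx2; exact g.ne_zero hx2.symm
  · intro h
    rw [h] at hz2
    simp at hz2
    apply hg1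
    have : (g : k) = -1 := by linear_combination -hz2
    rw [this]
    linear_combination -two0
  · rw [hx2, hz2]; ring
  · rw [hx2, hz2]
    intro h
    apply hg3
    have h3 : (g : k) ^ 2 + g + 1 = 0 := by linear_combination h
    linear_combination ((g : k) - 1) * h3

/-- Pythagorean relation in odd characteristic, more than `13` elements. -/
theorem exists_rel_odd (h2 : ringChar k ≠ 2) (hq : 13 < Nat.card k) :
    ∃ x y z : k, x ≠ 0 ∧ y ≠ 0 ∧ z ≠ 0 ∧ x ^ 2 + y ^ 2 = z ^ 2 ∧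
      (z ^ 2) ^ 2 ≠ x ^ 2 * y ^ 2 := by
  classical
  have : Fintype k := Fintype.ofFinite k
  have two0 : (2 : k) ≠ 0 := Ring.two_ne_zero h2
  let P : k[X] := (X ^ 2 + 1) ^ 4 - 4 * X ^ 2 * (X ^ 2 - 1) ^ 2
  let Q : k[X] := X * (X ^ 2 - 1) * (X ^ 2 + 1) * P
  have hP0 : P ≠ 0 := by
    intro h
    have := congrArg (Polynomial.eval 0) h
    simp [P] at this
  have hQ0 : Q ≠ 0 := by
    have h1 : (X : k[X]) ≠ 0 := X_ne_zero
    have h2' : (X ^ 2 - 1 : k[X]) ≠ 0 := by
      have := X_pow_sub_C_ne_zero (R := k) (n := 2) (by norm_num) 1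
      simpa using this
    have h3 : (X ^ 2 + 1 : k[X]) ≠ 0 := by
      intro h
      have := congrArg (Polynomial.eval 0) h
      simp at this
    exact mul_ne_zero (mul_ne_zero (mul_ne_zero h1 h2') h3) hP0
  have hdeg : Q.natDegree ≤ 13 := by
    simp only [Q, P]
    compute_degree
  obtain ⟨u, hu⟩ : ∃ u : k, Q.eval u ≠ 0 := by
    by_contra hcon
    push Not at hcon
    apply hQ0
    apply Polynomial.eq_zero_of_natDegree_lt_card_of_eval_eq_zero' Q Finset.univ
      (fun r _ => hcon r)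
    rw [Finset.card_univ, ← Nat.card_eq_fintype_card]
    omega
  simp only [Q, P, eval_mul, eval_X, eval_sub, eval_add, eval_pow, eval_one, eval_ofNat] at hu
  have hu1 : u ≠ 0 := fun h => hu (by rw [h]; ring)
  have hu2 : u ^ 2 - 1 ≠ 0 := fun h => hu (by rw [h]; ring)
  have hu3 : u ^ 2 + 1 ≠ 0 := fun h => hu (by rw [h]; ring)
  have hu4 : (u ^ 2 + 1) ^ 4 - 4 * u ^ 2 * (u ^ 2 - 1) ^ 2 ≠ 0 := fun h => hu (by rw [h]; ring)
  refine ⟨2 * u, u ^ 2 - 1, u ^ 2 + 1, mul_ne_zero two0 hu1, hu2, hu3, by ring, ?_⟩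
  intro h
  apply hu4
  linear_combination h


/-- The Pythagorean relation exists in every finite field that is not a prime field and has
neither `4` nor `9` elements. -/
theorem exists_rel (hq4 : Nat.card k ≠ 4) (hq9 : Nat.card k ≠ 9)
    (hnp : ¬ (Nat.card k).Prime) :
    ∃ x y z : k, x ≠ 0 ∧ y ≠ 0 ∧ z ≠ 0 ∧ x ^ 2 + y ^ 2 = z ^ 2 ∧
      (z ^ 2) ^ 2 ≠ x ^ 2 * y ^ 2 := by
  classical
  have : Fintype k := Fintype.ofFinite k
  obtain ⟨e, hp, he⟩ := FiniteField.card k (ringChar k)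
  rw [← Nat.card_eq_fintype_card] at he
  have he2 : 2 ≤ (e : ℕ) := by
    by_contra h
    have h1 : (e : ℕ) = 1 := by have := e.pos; omega
    rw [h1, pow_one] at he
    exact hnp (he ▸ hp)
  by_cases h2 : ringChar k = 2
  · apply exists_rel_even h2
    rw [h2] at he
    have h3 : (e : ℕ) ≠ 2 := by
      intro h; rw [h] at he; exact hq4 (by rw [he]; norm_num)
    have h4 : 3 ≤ (e : ℕ) := by omega
    rw [he]
    calc 4 < 2 ^ 3 := by norm_num
      _ ≤ 2 ^ (e : ℕ) := Nat.pow_le_pow_right (by norm_num) h4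
  · apply exists_rel_odd h2
    have hp3 : 3 ≤ ringChar k := by
      have := hp.two_le
      omega
    by_cases h3 : ringChar k = 3
    · rw [h3] at he
      have h5 : (e : ℕ) ≠ 2 := by
        intro h; rw [h] at he; exact hq9 (by rw [he]; norm_num)
      have h4 : 3 ≤ (e : ℕ) := by omega
      rw [he]
      calc 13 < 3 ^ 3 := by norm_num
        _ ≤ 3 ^ (e : ℕ) := Nat.pow_le_pow_right (by norm_num) h4
    · have hp5 : 5 ≤ ringChar k := by
        have h4 : ringChar k ≠ 4 := by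
          intro h; rw [h] at hp; exact absurd hp (by norm_num)
        omega
      rw [he]
      calc 13 < 5 ^ 2 := by norm_num
        _ ≤ ringChar k ^ 2 := Nat.pow_le_pow_left hp5 2
        _ ≤ ringChar k ^ (e : ℕ) := Nat.pow_le_pow_right (by omega) he2

end rel

end Cfsg.Agent.Lib.Helper53.SL2Mult
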