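import Mathlib
import Cfsg.Prelude.Def_KGroupFacts
import Cfsg.Agent.Lib.Helper5.SL2Sylow
import Cfsg.Agent.Lib.Helper66.Hopf
import Cfsg.Agent.Lib.Helper66.TransferPow
import Cfsg.Agent.Lib.Helper66.SchurBasic
import Cfsg.Agent.Lib.Helper66.UCE
import Cfsg.Agent.Lib.Helper53.HalfTrans
import Cfsg.Agent.Lib.Helper53.SquarePairing
import Cfsg.Agent.S3963
import Cfsg.Agent.S3979

/-!
helper53: the Schur multiplier of `SL₂(q)` is trivial for `q ≠ 4, 9`.
Transfer into the preimage of a Sylow `r`-subgroup (`r` not the characteristic: cyclic or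
generalized quaternion, trivial multiplier) and into the preimage of the upper unitriangular
subgroup (commutator pairing invariant under the torus, trivial by `pairing_trivial`).
-/

set_option autoImplicit false

namespace Cfsg.Agent.Lib.Helper53.SL2Mult

open Cfsg.Agent.Lib.Helper66 Cfsg.Agent.Lib.Helper5
open Matrix Matrix.SpecialLinearGroup
open scoped MatrixGroups commutatorElement

universe u


section general

variable {Γ : Type u} {G : Type u} [Group Γ] [Group G] [Finite G]

/-- Transfer step: if the preimage `W` of `U` has `W' ∩ ker = 1`, kernel elements of a stem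
extension have order dividing the index of `U`. -/
theorem pow_index_eq_one (σ : Γ →* G) (hσ : Cfsg.IsStemExtension σ) (U : Subgroup G)
    (hU : commutator ↥(U.comap σ) ⊓ (σ.subgroupComap U).ker = ⊥) (a : Γ) (ha : a ∈ σ.ker) :
    a ^ U.index = 1 := by
  obtain ⟨h, hc⟩ := pow_index_mem_commutator_comap σ hσ.1 hσ.2.1 hσ.2.2 U a ha
  have hk : (⟨a ^ U.index, h⟩ : ↥(U.comap σ)) ∈ (σ.subgroupComap U).ker := by
    rw [MonoidHom.mem_ker]
    apply Subtype.ext
    show σ (a ^ U.index) = 1
    rw [map_pow, MonoidHom.mem_ker.mp ha, one_pow]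
  have : (⟨a ^ U.index, h⟩ : ↥(U.comap σ)) ∈ (⊥ : Subgroup ↥(U.comap σ)) := by
    rw [← hU]; exact ⟨hc, hk⟩
  exact congrArg Subtype.val (Subgroup.mem_bot.mp this)

theorem subgroupComap_ker_le_center (σ : Γ →* G) (hσ : Cfsg.IsStemExtension σ) (U : Subgroup G) :
    (σ.subgroupComap U).ker ≤ Subgroup.center ↥(U.comap σ) := by
  intro x hx
  rw [Subgroup.mem_center_iff]
  intro y
  have hx' : (x : Γ) ∈ σ.ker := by
    rw [MonoidHom.mem_ker] at hx ⊢
    exact congrArg Subtype.val hx
  have := Subgroup.mem_center_iff.mp (hσ.2.1 hx') (y : Γ)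
  exact Subtype.ext this

/-- For `U` cyclic the preimage meets its commutator subgroup trivially. -/
theorem inf_eq_bot_of_cyclic (σ : Γ →* G) (hσ : Cfsg.IsStemExtension σ) (U : Subgroup G)
    [IsCyclic U] : commutator ↥(U.comap σ) ⊓ (σ.subgroupComap U).ker = ⊥ :=
  commutator_inf_ker_eq_bot_of_trivial_multiplier (Cfsg.Agent.S3979.result (G := U))
    (σ.subgroupComap U) (σ.subgroupComap_surjective_of_surjective U hσ.1)
    (subgroupComap_ker_le_center σ hσ U)

/-- For `U` generalized quaternion the preimage meets its commutator subgroup trivially. -/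
theorem inf_eq_bot_of_quaternion (σ : Γ →* G) (hσ : Cfsg.IsStemExtension σ) (U : Subgroup G)
    (n : ℕ) (e : U ≃* QuaternionGroup n) :
    commutator ↥(U.comap σ) ⊓ (σ.subgroupComap U).ker = ⊥ := by
  have hn : NeZero n := by
    constructor
    rintro rfl
    have : Infinite (QuaternionGroup 0) := by
      have : Infinite (ZMod (2 * 0)) := by simp; infer_instance
      exact Infinite.of_injective (QuaternionGroup.a) (fun a b h => by injection h)
    exact this.not_finite (Finite.of_equiv U e.toEquiv)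
  have h := commutator_inf_ker_eq_bot_of_trivial_multiplier (Cfsg.Agent.S3963.result n)
    (e.toMonoidHom.comp (σ.subgroupComap U))
    (e.surjective.comp (σ.subgroupComap_surjective_of_surjective U hσ.1))
    (by
      intro x hx
      apply subgroupComap_ker_le_center σ hσ U
      rw [MonoidHom.mem_ker] at hx ⊢
      exact e.injective (by rw [map_one]; exact hx))
  rw [← h]
  congr 1
  ext x
  simp only [MonoidHom.mem_ker, MonoidHom.coe_comp, Function.comp_apply, MulEquiv.coe_toMonoidHom]
  exact ⟨fun hx => by rw [hx, map_one], fun hx => e.injective (by rw [map_one]; exact hx)⟩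

end general



variable {F : Type*} [Field F] (p : ℕ) [CharP F p]

/-- An element of `SL₂(F)` fixing a nonzero vector is unipotent, hence of order dividing `p`. -/
theorem pow_char_eq_one_of_fix (g : Matrix.SpecialLinearGroup (Fin 2) F) (v : Fin 2 → F)
    (hv : v ≠ 0) (hgv : g.1 *ᵥ v = v) : g ^ p = 1 := by
  have hdet : g.1 0 0 * g.1 1 1 - g.1 0 1 * g.1 1 0 = 1 := by
    have := g.2
    rwa [Matrix.det_fin_two] at this
  have e0 : g.1 0 0 * v 0 + g.1 0 1 * v 1 = v 0 := by
    have := congrFun hgv 0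
    simpa [Matrix.mulVec, dotProduct, Fin.sum_univ_two] using this
  have e1 : g.1 1 0 * v 0 + g.1 1 1 * v 1 = v 1 := by
    have := congrFun hgv 1
    simpa [Matrix.mulVec, dotProduct, Fin.sum_univ_two] using this
  -- trace is 2
  have htr : g.1 0 0 + g.1 1 1 = 2 := by
    have hv' : v 0 ≠ 0 ∨ v 1 ≠ 0 := by
      by_contra h
      push Not at h
      apply hv
      ext i
      fin_cases i
      · exact h.1
      · exact h.2
    rcases hv' with h | h
    · have : (g.1 0 0 + g.1 1 1 - 2) * v 0 = 0 := by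
        linear_combination -(g.1 1 1 - 1) * e0 + g.1 0 1 * e1 + v 0 * hdet
      rcases mul_eq_zero.mp this with h' | h'
      · linear_combination h'
      · exact absurd h' h
    · have : (g.1 0 0 + g.1 1 1 - 2) * v 1 = 0 := by
        linear_combination -(g.1 0 0 - 1) * e1 + g.1 1 0 * e0 + v 1 * hdet
      rcases mul_eq_zero.mp this with h' | h'
      · linear_combination h'
      · exact absurd h' h
  -- `(g - 1)² = 0`
  set N : Matrix (Fin 2) (Fin 2) F := g.1 - 1 with hN
  have hN2 : N * N = 0 := by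
    have hN' : N = !![g.1 0 0 - 1, g.1 0 1; g.1 1 0, g.1 1 1 - 1] := by
      ext i j
      fin_cases i <;> fin_cases j <;> simp [hN]
    rw [hN', Matrix.mul_fin_two]
    ext i j
    fin_cases i <;> fin_cases j <;> simp only [Matrix.of_apply, Matrix.cons_val', Matrix.cons_val_zero,
      Matrix.cons_val_one, Matrix.zero_apply, Fin.zero_eta, Fin.mk_one, Fin.isValue,
      Matrix.cons_val_fin_one]
    · linear_combination g.1 0 0 * htr - hdet
    · linear_combination g.1 0 1 * htr
    · linear_combination g.1 1 0 * htr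
    · linear_combination g.1 1 1 * htr - hdet
  have hg : g.1 = 1 + N := by rw [hN]; abel
  have hpow : ∀ n : ℕ, g.1 ^ n = 1 + n • N := by
    intro n
    induction n with
    | zero => simp
    | succ n ih =>
      rw [pow_succ, ih, hg, add_mul, mul_add, mul_add, one_mul, mul_one, smul_mul_assoc, hN2,
        smul_zero, add_zero, succ_nsmul, one_mul]
      abel
  apply Subtype.ext
  rw [Matrix.SpecialLinearGroup.coe_pow, hpow p]
  have : (p : F) = 0 := CharP.cast_eq_zero F p
  rw [Matrix.SpecialLinearGroup.coe_one]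
  have h0 : p • N = 0 := by
    ext i j
    simp [Matrix.smul_apply]
  rw [h0, add_zero]

/-- An `r`-subgroup of `SL₂(F)`, `r` different from the characteristic, is cyclic or generalized
quaternion (it acts semiregularly on the nonzero vectors). -/
theorem cyclic_or_quaternion_of_ne_char [Fact p.Prime] (r : ℕ) [Fact r.Prime] (hrp : r ≠ p)
    (R : Subgroup (Matrix.SpecialLinearGroup (Fin 2) F)) [Finite R] (hR : IsPGroup r R) :
    IsCyclic R ∨ ∃ n : ℕ, Nonempty (R ≃* QuaternionGroup n) := by
  let _ : Algebra (ZMod p) F := ZMod.algebra F p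
  let ρ : R →* ((Fin 2 → F) ≃ₗ[ZMod p] (Fin 2 → F)) :=
    { toFun := fun g => (Matrix.SpecialLinearGroup.toLin' (g : Matrix.SpecialLinearGroup (Fin 2) F)).restrictScalars (ZMod p)
      map_one' := by
        ext v i
        simp
      map_mul' := by
        intro a b
        ext v i
        simp [Matrix.SpecialLinearGroup.toLin'_apply] }
  have hρ : ∀ (g : R) (v : Fin 2 → F), ρ g v = (g : Matrix.SpecialLinearGroup (Fin 2) F).1 *ᵥ v := by
    intro g v
    show (Matrix.SpecialLinearGroup.toLin' (g : Matrix.SpecialLinearGroup (Fin 2) F)) v = _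
    rw [Matrix.SpecialLinearGroup.toLin'_apply, Matrix.toLin'_apply]
  apply HalfTrans.cyclic_or_quaternion_of_semiregular ρ r hR
  intro v hv g hgv
  rw [hρ] at hgv
  have h1 := pow_char_eq_one_of_fix p (g : Matrix.SpecialLinearGroup (Fin 2) F) v hv hgv
  have h2 : g ^ p = 1 := by
    apply Subtype.ext
    rw [Subgroup.coe_pow, h1, Subgroup.coe_one]
  obtain ⟨j, hj⟩ := hR g
  have h3 : orderOf g ∣ p := orderOf_dvd_of_pow_eq_one h2
  have h4 : orderOf g ∣ r ^ j := orderOf_dvd_of_pow_eq_one hj
  have hcop : Nat.Coprime p (r ^ j) :=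
    Nat.Coprime.pow_right j ((Nat.coprime_primes Fact.out Fact.out).mpr (Ne.symm hrp))
  have h5 : orderOf g = 1 := Nat.eq_one_of_dvd_coprimes hcop h3 h4
  exact orderOf_eq_one_iff.mp h5



variable {F : Type u} [Field F] {Γ : Type u} [Group Γ]

/-- `x(t)` -/
noncomputable abbrev xT (t : F) : SL(2, F) := transvection (zero_ne_one : (0 : Fin 2) ≠ 1) t

theorem eq_xT_of_mem_unipSL {g : SL(2, F)} (hg : g ∈ unipSL F) : g = xT (g.1 0 1) := by
  obtain ⟨h1, h2, h3⟩ := mem_unipSL.mp hg
  apply sl2_ext <;> simp [h1, h2, h3]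

theorem xT_add (t u : F) : xT (t + u) = xT t * xT u := transvection_add _ t u

theorem xT_comm (t u : F) : xT t * xT u = xT u * xT t := by
  rw [← xT_add, ← xT_add, add_comm]

/-- conjugating `x(t)` by `diag(c, c⁻¹)` gives `x(c² t)` -/
theorem diag_conj_xT {c : F} (hc : c ≠ 0) (t : F) :
    diag2 c hc * xT t * (diag2 c hc)⁻¹ = xT (c ^ 2 * t) := by
  rw [diag2_inv]
  apply sl2_ext <;>
    simp [sl2_mul_apply, diag2_coe', transvection_coe, Matrix.one_apply]
  all_goals field_simp

/-- In a central extension of `SL₂(F)` whose field admits the Pythagorean relation, any two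
elements lying over the upper unitriangular subgroup commute. -/
theorem comm_of_mem_unipSL [Finite F] (σ : Γ →* SL(2, F)) (hsurj : Function.Surjective σ)
    (hcen : σ.ker ≤ Subgroup.center Γ)
    (hrel : ∃ x y z : F, x ≠ 0 ∧ y ≠ 0 ∧ z ≠ 0 ∧ x ^ 2 + y ^ 2 = z ^ 2 ∧
      (z ^ 2) ^ 2 ≠ x ^ 2 * y ^ 2)
    (a b : Γ) (ha : σ a ∈ unipSL F) (hb : σ b ∈ unipSL F) : a * b = b * a := by
  -- a section over the `x(t)`
  choose s hs using fun t : F => hsurj (xT t)
  -- commutators only depend on images
  have hdep : ∀ a a' b b' : Γ, σ a = σ a' → σ b = σ b' → ⁅a', b'⁆ = ⁅a, b⁆ := by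
    intro a a' b b' h1 h2
    apply commutatorElement_eq_of_central
    · apply hcen
      rw [MonoidHom.mem_ker, map_mul, map_inv, h1, inv_mul_cancel]
    · apply hcen
      rw [MonoidHom.mem_ker, map_mul, map_inv, h2, inv_mul_cancel]
  let g : F → F → Γ := fun t u => ⁅s t, s u⁆
  have hgker : ∀ t u, g t u ∈ σ.ker := by
    intro t u
    rw [MonoidHom.mem_ker]
    show σ ⁅s t, s u⁆ = 1
    rw [map_commutatorElement, hs, hs, commutatorElement_eq_one_iff_mul_comm]
    exact xT_comm t u
  have hgc : ∀ t u (y : Γ), y * g t u = g t u * y := fun t u y =>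
    Subgroup.mem_center_iff.mp (hcen (hgker t u)) y
  have hadd1 : ∀ t t' u, g (t + t') u = g t u * g t' u := by
    intro t t' u
    have h1 : g (t + t') u = ⁅s t * s t', s u⁆ :=
      (hdep (s t * s t') (s (t + t')) (s u) (s u)
        (by rw [map_mul, hs, hs, hs, xT_add]) rfl)
    rw [h1]
    have h2 : ⁅s t * s t', s u⁆ = s t * ⁅s t', s u⁆ * (s t)⁻¹ * ⁅s t, s u⁆ := by
      simp only [commutatorElement_def]; group
    rw [h2]
    have := hgc t' u (s t)
    show s t * g t' u * (s t)⁻¹ * g t u = g t u * g t' u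
    rw [this, mul_inv_cancel_right, hgc t u (g t' u)]
  have hadd2 : ∀ t u u', g t (u + u') = g t u * g t u' := by
    intro t u u'
    have h1 : g t (u + u') = ⁅s t, s u * s u'⁆ :=
      (hdep (s t) (s t) (s u * s u') (s (u + u')) rfl
        (by rw [map_mul, hs, hs, hs, xT_add]))
    rw [h1]
    have h2 : ⁅s t, s u * s u'⁆ = ⁅s t, s u⁆ * (s u * ⁅s t, s u'⁆ * (s u)⁻¹) := by
      simp only [commutatorElement_def]; group
    rw [h2]
    have := hgc t u' (s u)
    show g t u * (s u * g t u' * (s u)⁻¹) = g t u * g t u'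
    rw [this, mul_inv_cancel_right]
  have hinv : ∀ c t u : F, c ≠ 0 → g (c ^ 2 * t) (c ^ 2 * u) = g t u := by
    intro c t u hc
    obtain ⟨h, hh⟩ := hsurj (diag2 c hc)
    have h1 : g (c ^ 2 * t) (c ^ 2 * u) = ⁅h * s t * h⁻¹, h * s u * h⁻¹⁆ :=
      (hdep (h * s t * h⁻¹) (s (c ^ 2 * t)) (h * s u * h⁻¹) (s (c ^ 2 * u))
        (by rw [map_mul, map_mul, map_inv, hh, hs, hs, diag_conj_xT])
        (by rw [map_mul, map_mul, map_inv, hh, hs, hs, diag_conj_xT]))
    rw [h1]
    have h2 : ⁅h * s t * h⁻¹, h * s u * h⁻¹⁆ = h * ⁅s t, s u⁆ * h⁻¹ := by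
      simp only [commutatorElement_def]; group
    rw [h2]
    show h * g t u * h⁻¹ = g t u
    rw [hgc t u h, mul_inv_cancel_right]
  have htriv := pairing_trivial g hadd1 hadd2 hinv hrel
  have h3 : ⁅a, b⁆ = 1 := by
    have := hdep (s ((σ a).1 0 1)) a (s ((σ b).1 0 1)) b
      (by rw [hs]; exact (eq_xT_of_mem_unipSL ha).symm)
      (by rw [hs]; exact (eq_xT_of_mem_unipSL hb).symm)
    rw [this]
    exact htriv _ _
  exact commutatorElement_eq_one_iff_mul_comm.mp h3


section main

variable {F : Type u} [Field F] [Fintype F]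

/-- The Schur multiplier of `SL₂(q)` is trivial for `q ≠ 4, 9`. -/
theorem sl2_multiplier_trivial (h4 : Fintype.card F ≠ 4) (h9 : Fintype.card F ≠ 9) :
    Cfsg.HasCyclicSchurMultiplier SL(2, F) 1 := by
  classical
  apply hasCyclicSchurMultiplier_one_of
  intro Γ _ _ σ hσ
  by_contra hne
  have hnt : Nontrivial σ.ker := (Subgroup.nontrivial_iff_ne_bot _).mpr hne
  obtain ⟨r, hr, hdvd⟩ : ∃ r, r.Prime ∧ r ∣ Nat.card σ.ker :=
    Nat.exists_prime_and_dvd (Finite.one_lt_card (α := σ.ker)).ne'
  haveI := Fact.mk hr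
  obtain ⟨z, hz⟩ := exists_prime_orderOf_dvd_card' (G := σ.ker) r hdvd
  have hzo : orderOf (z : Γ) = r := by rw [Subgroup.orderOf_coe]; exact hz
  -- a subgroup of index prime to `r` whose preimage meets its derived group trivially
  have key : ∃ U : Subgroup SL(2, F), ¬ r ∣ U.index ∧
      commutator ↥(U.comap σ) ⊓ (σ.subgroupComap U).ker = ⊥ := by
    obtain ⟨p, hp⟩ := CharP.exists F
    haveI := hp
    haveI : Fact p.Prime := ⟨CharP.char_is_prime F p⟩
    by_cases hrp : r = p
    · subst hrp
      refine ⟨unipSL F, not_dvd_index_unipSL r, ?_⟩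
      by_cases hprime : (Fintype.card F).Prime
      · haveI : Fact (Nat.card (unipSL F)).Prime := ⟨by rw [card_unipSL]; exact hprime⟩
        haveI : IsCyclic (unipSL F) := isCyclic_of_prime_card rfl
        exact inf_eq_bot_of_cyclic σ hσ (unipSL F)
      · have hrel := exists_rel (k := F) (by rw [Nat.card_eq_fintype_card]; exact h4)
          (by rw [Nat.card_eq_fintype_card]; exact h9)
          (by rw [Nat.card_eq_fintype_card]; exact hprime)
        rw [eq_bot_iff]
        refine inf_le_left.trans ?_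
        rw [commutator_def, Subgroup.commutator_le]
        intro a _ b _
        rw [Subgroup.mem_bot, commutatorElement_eq_one_iff_mul_comm]
        apply Subtype.ext
        exact comm_of_mem_unipSL σ hσ.1 hσ.2.1 hrel (a : Γ) (b : Γ) a.2 b.2
    · let R : Sylow r SL(2, F) := default
      refine ⟨(R : Subgroup SL(2, F)), Sylow.not_dvd_index R, ?_⟩
      rcases cyclic_or_quaternion_of_ne_char p r hrp (R : Subgroup SL(2, F)) R.isPGroup' with
        h | ⟨n, ⟨e⟩⟩
      · haveI := h
        exact inf_eq_bot_of_cyclic σ hσ _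
      · exact inf_eq_bot_of_quaternion σ hσ _ n e
  obtain ⟨U, hU1, hU2⟩ := key
  have h1 := pow_index_eq_one σ hσ U hU2 (z : Γ) z.2
  have h2 := orderOf_dvd_of_pow_eq_one h1
  rw [hzo] at h2
  exact hU1 h2

end main

end Cfsg.Agent.Lib.Helper53.SL2Mult
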