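import Mathlib
import Cfsg.Prelude.Def_SporadicB
import Cfsg.Agent.S0051

/-!
Involutions of non-split double covers (helper53).  If the Sylow 2-subgroup `P` of `A` is dihedral
(or a four-group) all of whose involutions are conjugate in `A`, then every involution of a
non-split double cover of `A` is central: otherwise all involutions of `P` lift to involutions, the
extension splits over `P`, and Gaschütz's theorem splits it globally.
-/

set_option autoImplicit false

namespace Cfsg.Agent.Lib.Helper53.DCI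

/-- closure of a dihedral-like pair -/
theorem mem_closure_dihedral {H : Type*} [Group H] (a x : H) (m : ℕ) (hm : 0 < m)
    (ham : a ^ m = 1)
    (hxx : x * x = 1) (hxa : (x * a) * (x * a) = 1) :
    ∀ b ∈ Subgroup.closure ({a, x} : Set H), ∃ i j : ℕ, b = a ^ i * x ^ j := by
  have hxinv : x⁻¹ = x := inv_eq_of_mul_eq_one_right hxx
  -- `x a = a⁻¹ x`
  have h1 : x * a = a⁻¹ * x := by
    have : x * a = a⁻¹ * x⁻¹ * ((x * a) * (x * a)) := by group
    rw [this, hxa, mul_one, hxinv]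
  have hainv : a⁻¹ = a ^ (m - 1) := by
    apply inv_eq_of_mul_eq_one_right
    rw [← pow_succ', Nat.sub_add_cancel hm, ham]
  -- `x a^k = a^((m-1)k) x`
  have h2 : ∀ k : ℕ, x * a ^ k = a ^ ((m - 1) * k) * x := by
    intro k
    induction k with
    | zero => simp
    | succ k ih =>
      rw [pow_succ, ← mul_assoc, ih, mul_assoc, h1, hainv, ← mul_assoc, ← pow_add, mul_add,
        mul_one]
  have h3 : ∀ j k : ℕ, ∃ k' : ℕ, x ^ j * a ^ k = a ^ k' * x ^ j := by
    intro j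
    induction j with
    | zero => intro k; exact ⟨k, by simp⟩
    | succ j ih =>
      intro k
      obtain ⟨k', hk'⟩ := ih k
      refine ⟨(m - 1) * k', ?_⟩
      rw [pow_succ', mul_assoc, hk', ← mul_assoc, h2, mul_assoc]
  have hmul : ∀ b c : H, (∃ i j : ℕ, b = a ^ i * x ^ j) → (∃ i j : ℕ, c = a ^ i * x ^ j) →
      ∃ i j : ℕ, b * c = a ^ i * x ^ j := by
    rintro _ _ ⟨i, j, rfl⟩ ⟨k, l, rfl⟩
    obtain ⟨k', hk'⟩ := h3 j k
    refine ⟨i + k', j + l, ?_⟩
    calc a ^ i * x ^ j * (a ^ k * x ^ l) = a ^ i * (x ^ j * a ^ k) * x ^ l := by group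
      _ = a ^ i * (a ^ k' * x ^ j) * x ^ l := by rw [hk']
      _ = a ^ (i + k') * x ^ (j + l) := by rw [pow_add, pow_add]; group
  intro b hb
  induction hb using Subgroup.closure_induction with
  | mem y hy =>
    rcases hy with rfl | rfl
    · exact ⟨1, 0, by simp⟩
    · exact ⟨0, 1, by simp⟩
  | one => exact ⟨0, 0, by simp⟩
  | mul y z _ _ hy hz => exact hmul y z hy hz
  | inv y _ hy =>
    obtain ⟨i, j, rfl⟩ := hy
    have hx' : ∃ i' j' : ℕ, (x ^ j)⁻¹ = a ^ i' * x ^ j' := ⟨0, j, by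
      rw [← inv_pow, hxinv]; simp⟩
    have ha' : ∃ i' j' : ℕ, (a ^ i)⁻¹ = a ^ i' * x ^ j' := ⟨(m - 1) * i, 0, by
      rw [← inv_pow, hainv, ← pow_mul]; simp⟩
    rw [mul_inv_rev]
    exact hmul _ _ hx' ha'

/-- Every involution of a non-split double cover of `A` is central, if the Sylow 2-subgroup of
`A` is dihedral-like with all its involutions conjugate in `A`. -/
theorem involution_mem_center {H A : Type} [Group H] [Finite H] [Group A] [Finite A]
    (hH : Cfsg.IsNonsplitDoubleCover H A)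
    (P : Subgroup A) (hP2 : IsPGroup 2 P) (hPidx : ¬ 2 ∣ P.index)
    (a ξ u₀ : A) (m r : ℕ) (hr : 0 < r) (hm : m = 2 * r)
    (hPmem : ∀ g, g ∈ P ↔ ∃ i j : ℕ, g = a ^ i * ξ ^ j)
    (har : a ^ r * a ^ r = 1) (hξ2 : ξ * ξ = 1) (hξa : (ξ * a) * (ξ * a) = 1)
    (hdec : ∀ i j : ℕ, a ^ i * ξ ^ j = 1 → m ∣ i ∧ 2 ∣ j)
    (hconj : ∀ v ∈ P, v ≠ 1 → v * v = 1 → ∃ k : A, k * u₀ * k⁻¹ = v)
    (x : H) (hx : orderOf x = 2) : x ∈ Subgroup.center H := by
  classical
  obtain ⟨hZcard, ⟨e⟩, hns⟩ := hH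
  by_contra hxZ
  let π : H →* A := e.toMonoidHom.comp (QuotientGroup.mk' (Subgroup.center H))
  have hπ : ∀ h, π h = e (QuotientGroup.mk h) := fun h => rfl
  have hπsurj : Function.Surjective π := e.surjective.comp (QuotientGroup.mk'_surjective _)
  have hπker : ∀ h, π h = 1 ↔ h ∈ Subgroup.center H := by
    intro h
    rw [hπ, MulEquiv.map_eq_one_iff, QuotientGroup.eq_one_iff]
  have hZsq : ∀ c ∈ Subgroup.center H, c * c = 1 := by
    intro c hc
    have h1 : (⟨c, hc⟩ : Subgroup.center H) ^ Nat.card (Subgroup.center H) = 1 :=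
      pow_card_eq_one'
    rw [hZcard] at h1
    have := congrArg Subtype.val h1
    simpa [pow_two] using this
  have hxx : x * x = 1 := by rw [← pow_two, ← hx]; exact pow_orderOf_eq_one x
  have ht1 : π x ≠ 1 := fun h => hxZ ((hπker x).1 h)
  have htt : π x * π x = 1 := by rw [← map_mul, hxx, map_one]
  -- Sylow: conjugate `π x` into `P`
  let P' : Sylow 2 A := hP2.toSylow hPidx
  have hpg : IsPGroup 2 (Subgroup.zpowers (π x)) := by
    apply IsPGroup.of_card (n := 1)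
    rw [Nat.card_zpowers, pow_one]
    haveI : Fact (Nat.Prime 2) := ⟨Nat.prime_two⟩
    exact orderOf_eq_prime (by rw [pow_two]; exact htt) ht1
  haveI : Fact (Nat.Prime 2) := ⟨Nat.prime_two⟩
  obtain ⟨Q, hQ⟩ := hpg.exists_le_sylow
  obtain ⟨g, hg⟩ := MulAction.exists_smul_eq A P' Q
  have hmemQ : π x ∈ (Q : Subgroup A) := hQ (Subgroup.mem_zpowers _)
  have hmemP : g⁻¹ * π x * g ∈ P := by
    rw [← hg, Sylow.coe_subgroup_smul, Subgroup.mem_pointwise_smul_iff_inv_smul_mem] at hmemQ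
    simpa [MulAut.smul_def, P'] using hmemQ
  obtain ⟨κ₀, hκ₀⟩ := hπsurj g
  set x' : H := κ₀⁻¹ * x * κ₀ with hx'
  set u : A := g⁻¹ * π x * g with hu
  have hπx' : π x' = u := by rw [hx', map_mul, map_mul, map_inv, hκ₀]
  have hu1 : u ≠ 1 := by
    intro h
    apply ht1
    have : π x = g * u * g⁻¹ := by rw [hu]; group
    rw [this, h]; group
  have huu : u * u = 1 := by
    have : u * u = g⁻¹ * (π x * π x) * g := by rw [hu]; group
    rw [this, htt]; group
  have hx'x' : x' * x' = 1 := by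
    have : x' * x' = κ₀⁻¹ * (x * x) * κ₀ := by rw [hx']; group
    rw [this, hxx]; group
  -- all involutions of `P` lift to involutions
  have hL : ∀ h : H, π h ∈ P → π h * π h = 1 → h * h = 1 := by
    intro h hP hh
    by_cases h1 : π h = 1
    · exact hZsq h ((hπker h).1 h1)
    · obtain ⟨k₁, hk₁⟩ := hconj u hmemP hu1 huu
      obtain ⟨k₂, hk₂⟩ := hconj (π h) hP h1 hh
      obtain ⟨κ, hκ⟩ := hπsurj (k₂ * k₁⁻¹)
      set h' : H := κ * x' * κ⁻¹ with hh'
      have e1 : π h' = π h := by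
        rw [hh', map_mul, map_mul, map_inv, hκ, hπx', ← hk₁, ← hk₂]; group
      have hc : h'⁻¹ * h ∈ Subgroup.center H :=
        (hπker _).1 (by rw [map_mul, map_inv, e1, inv_mul_cancel])
      have hh'2 : h' * h' = 1 := by
        have : h' * h' = κ * (x' * x') * κ⁻¹ := by rw [hh']; group
        rw [this, hx'x']; group
      have hcc := hZsq _ hc
      have hcomm := Subgroup.mem_center_iff.1 hc h'
      calc h * h = h' * (h'⁻¹ * h) * (h' * (h'⁻¹ * h)) := by group
        _ = h' * ((h'⁻¹ * h) * h') * (h'⁻¹ * h) := by group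
        _ = h' * (h' * (h'⁻¹ * h)) * (h'⁻¹ * h) := by rw [← hcomm]
        _ = (h' * h') * ((h'⁻¹ * h) * (h'⁻¹ * h)) := by group
        _ = 1 := by rw [hh'2, hcc, one_mul]
  -- lifts of the generators
  have haP : a ∈ P := (hPmem a).2 ⟨1, 0, by simp⟩
  have hξP : ξ ∈ P := (hPmem ξ).2 ⟨0, 1, by simp⟩
  obtain ⟨a', ha'⟩ := hπsurj a
  obtain ⟨ξ', hξ'⟩ := hπsurj ξ
  have hξ'2 : ξ' * ξ' = 1 := hL ξ' (by rw [hξ']; exact hξP) (by rw [hξ']; exact hξ2)
  have hξ'a' : (ξ' * a') * (ξ' * a') = 1 :=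
    hL (ξ' * a') (by rw [map_mul, hξ', ha']; exact P.mul_mem hξP haP)
      (by rw [map_mul, hξ', ha']; exact hξa)
  have ha'm : a' ^ m = 1 := by
    have := hL (a' ^ r) (by rw [map_pow, ha']; exact P.pow_mem haP r)
      (by rw [map_pow, ha']; exact har)
    rw [hm, two_mul, pow_add]; exact this
  have hm0 : 0 < m := by omega
  set B : Subgroup H := Subgroup.closure ({a', ξ'} : Set H) with hB
  have hBmem := mem_closure_dihedral a' ξ' m hm0 ha'm hξ'2 hξ'a'
  have hKU : Subgroup.center H ≤ P.comap π := by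
    intro c hc
    rw [Subgroup.mem_comap, (hπker c).2 hc]
    exact P.one_mem
  have hcop : (Nat.card (Subgroup.center H)).Coprime (P.comap π).index := by
    rw [hZcard, Subgroup.index_comap_of_surjective P hπsurj]
    exact (Nat.Prime.coprime_iff_not_dvd Nat.prime_two).2 hPidx
  have hBU : B ≤ P.comap π := by
    rw [hB, Subgroup.closure_le]
    rintro y (rfl | rfl)
    · show π y ∈ P
      rw [ha']; exact haP
    · show π y ∈ P
      rw [hξ']; exact hξP
  have hBK : B ⊓ Subgroup.center H = ⊥ := by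
    rw [eq_bot_iff]
    rintro b ⟨hbB, hbZ⟩
    obtain ⟨i, j, rfl⟩ := hBmem b hbB
    have h1 : a ^ i * ξ ^ j = 1 := by
      have := (hπker _).2 hbZ
      rwa [map_mul, map_pow, map_pow, ha', hξ'] at this
    obtain ⟨⟨q, rfl⟩, ⟨s, rfl⟩⟩ := hdec i j h1
    rw [Subgroup.mem_bot, pow_mul, ha'm, one_pow, pow_mul, pow_two, hξ'2, one_pow, one_mul]
  have hKB : Subgroup.center H ⊔ B = P.comap π := by
    apply le_antisymm (sup_le hKU hBU)
    intro h hh
    obtain ⟨i, j, hij⟩ := (hPmem (π h)).1 hh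
    have hbB : a' ^ i * ξ' ^ j ∈ B :=
      B.mul_mem (B.pow_mem (Subgroup.subset_closure (by simp)) i)
        (B.pow_mem (Subgroup.subset_closure (by simp)) j)
    have hc : h * (a' ^ i * ξ' ^ j)⁻¹ ∈ Subgroup.center H :=
      (hπker _).1 (by rw [map_mul, map_inv, map_mul, map_pow, map_pow, ha', hξ', ← hij,
        mul_inv_cancel])
    have : h = (h * (a' ^ i * ξ' ^ j)⁻¹) * (a' ^ i * ξ' ^ j) := by group
    rw [this]
    exact Subgroup.mul_mem_sup hc hbB
  obtain ⟨L, hL'⟩ := Cfsg.Agent.S0051.result (Subgroup.center H) (P.comap π) hKU hcop B hBU hBK hKB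
  exact hns L hL'

/-- Version of `involution_mem_center` with hypotheses that can be checked by `decide`. -/
theorem involution_mem_center_of_data {H A : Type} [Group H] [Finite H] [Group A] [Finite A]
    (hH : Cfsg.IsNonsplitDoubleCover H A) (a ξ u₀ : A) (m r s t : ℕ) (hr : 0 < r)
    (hm : m = 2 * r) (hs : 2 * m = 2 ^ s) (hcard : Nat.card A = 2 * m * t) (ht : ¬ 2 ∣ t)
    (hinj : ∀ p q : Fin m × Fin 2,
      a ^ p.1.val * ξ ^ p.2.val = a ^ q.1.val * ξ ^ q.2.val → p = q)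
    (har : a ^ r * a ^ r = 1) (hξ2 : ξ * ξ = 1) (hξa : (ξ * a) * (ξ * a) = 1)
    (hconj : ∀ p : Fin m × Fin 2, a ^ p.1.val * ξ ^ p.2.val ≠ 1 →
      (a ^ p.1.val * ξ ^ p.2.val) * (a ^ p.1.val * ξ ^ p.2.val) = 1 →
      ∃ k : A, k * u₀ * k⁻¹ = a ^ p.1.val * ξ ^ p.2.val)
    (x : H) (hx : orderOf x = 2) : x ∈ Subgroup.center H := by
  classical
  have hm0 : 0 < m := by omega
  haveI : NeZero m := ⟨hm0.ne'⟩
  have ham : a ^ m = 1 := by rw [hm, two_mul, pow_add]; exact har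
  have hξpow : ξ ^ 2 = 1 := by rw [pow_two]; exact hξ2
  -- reduction of exponents
  have hred : ∀ i j : ℕ, a ^ i * ξ ^ j =
      a ^ ((⟨i % m, Nat.mod_lt _ hm0⟩ : Fin m) : ℕ) * ξ ^ ((⟨j % 2, Nat.mod_lt _ (by norm_num)⟩ : Fin 2) : ℕ) := by
    intro i j
    show a ^ i * ξ ^ j = a ^ (i % m) * ξ ^ (j % 2)
    rw [← pow_eq_pow_mod i ham, ← pow_eq_pow_mod j hξpow]
  set P : Subgroup A := Subgroup.closure ({a, ξ} : Set A) with hP
  have hPmem : ∀ g, g ∈ P ↔ ∃ i j : ℕ, g = a ^ i * ξ ^ j := by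
    intro g
    constructor
    · exact mem_closure_dihedral a ξ m hm0 ham hξ2 hξa g
    · rintro ⟨i, j, rfl⟩
      exact P.mul_mem (P.pow_mem (Subgroup.subset_closure (by simp)) i)
        (P.pow_mem (Subgroup.subset_closure (by simp)) j)
  have hdec : ∀ i j : ℕ, a ^ i * ξ ^ j = 1 → m ∣ i ∧ 2 ∣ j := by
    intro i j hij
    rw [hred i j] at hij
    have h0 : a ^ ((⟨0, hm0⟩ : Fin m) : ℕ) * ξ ^ ((⟨0, by norm_num⟩ : Fin 2) : ℕ) = 1 := by simp
    have := hinj (⟨i % m, Nat.mod_lt _ hm0⟩, ⟨j % 2, Nat.mod_lt _ (by norm_num)⟩)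
      (⟨0, hm0⟩, ⟨0, by norm_num⟩) (hij.trans h0.symm)
    have h1 : i % m = 0 := congrArg (fun q : Fin m × Fin 2 => (q.1 : ℕ)) this
    have h2 : j % 2 = 0 := congrArg (fun q : Fin m × Fin 2 => (q.2 : ℕ)) this
    exact ⟨Nat.dvd_of_mod_eq_zero h1, Nat.dvd_of_mod_eq_zero h2⟩
  -- cardinality of `P`
  have hPcard : Nat.card P = 2 * m := by
    let f : Fin m × Fin 2 → P := fun p => ⟨a ^ p.1.val * ξ ^ p.2.val, (hPmem _).2 ⟨_, _, rfl⟩⟩
    have hf : Function.Bijective f := by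
      constructor
      · intro p q hpq
        exact hinj p q (congrArg Subtype.val hpq)
      · rintro ⟨g, hg⟩
        obtain ⟨i, j, rfl⟩ := (hPmem g).1 hg
        exact ⟨(⟨i % m, Nat.mod_lt _ hm0⟩, ⟨j % 2, Nat.mod_lt _ (by norm_num)⟩),
          Subtype.ext (hred i j).symm⟩
    rw [← Nat.card_congr (Equiv.ofBijective f hf), Nat.card_prod, Nat.card_eq_fintype_card,
      Nat.card_eq_fintype_card, Fintype.card_fin, Fintype.card_fin, mul_comm]
  have hP2 : IsPGroup 2 P := IsPGroup.of_card (n := s) (by rw [hPcard, hs])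
  have hPidx : ¬ 2 ∣ P.index := by
    have h := P.card_mul_index
    rw [hPcard, hcard] at h
    have : P.index = t := Nat.eq_of_mul_eq_mul_left (by omega) h
    rw [this]; exact ht
  refine involution_mem_center hH P hP2 hPidx a ξ u₀ m r hr hm hPmem har hξ2 hξa hdec ?_ x hx
  intro v hv hv1 hvv
  obtain ⟨i, j, rfl⟩ := (hPmem v).1 hv
  rw [hred i j] at hv1 hvv ⊢
  exact hconj (⟨i % m, Nat.mod_lt _ hm0⟩, ⟨j % 2, Nat.mod_lt _ (by norm_num)⟩) hv1 hvv

/-- If `A` has odd order, the involutions of a double cover are central. -/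
theorem involution_mem_center_of_odd {H A : Type} [Group H] [Group A] [Finite A]
    (hH : Cfsg.IsNonsplitDoubleCover H A) (hodd : ¬ 2 ∣ Nat.card A)
    (x : H) (hx : orderOf x = 2) : x ∈ Subgroup.center H := by
  obtain ⟨_, ⟨e⟩, _⟩ := hH
  have hxx : x ^ 2 = 1 := by rw [← hx]; exact pow_orderOf_eq_one x
  have h1 : (e (QuotientGroup.mk x)) ^ 2 = 1 := by
    rw [← map_pow, ← QuotientGroup.mk_pow, hxx, QuotientGroup.mk_one, map_one]
  have h2 : (e (QuotientGroup.mk x)) ^ Nat.card A = 1 := pow_card_eq_one'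
  have h3 : orderOf (e (QuotientGroup.mk x)) ∣ Nat.gcd 2 (Nat.card A) :=
    Nat.dvd_gcd (orderOf_dvd_of_pow_eq_one h1) (orderOf_dvd_of_pow_eq_one h2)
  have hcop : Nat.gcd 2 (Nat.card A) = 1 :=
    (Nat.Prime.coprime_iff_not_dvd Nat.prime_two).2 hodd
  rw [hcop, Nat.dvd_one, orderOf_eq_one_iff, MulEquiv.map_eq_one_iff,
    QuotientGroup.eq_one_iff] at h3
  exact h3

/-- two involutions in a central subgroup of order two coincide -/
theorem eq_of_mem_center_of_card {H : Type*} [Group H] (hc : Nat.card (Subgroup.center H) = 2)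
    (x y : H) (hx : x ∈ Subgroup.center H) (hy : y ∈ Subgroup.center H) (hx1 : x ≠ 1)
    (hy1 : y ≠ 1) : x = y := by
  obtain ⟨b, _, hb⟩ := (Nat.card_eq_two_iff' (1 : Subgroup.center H)).1 hc
  have h1 := hb ⟨x, hx⟩ (fun h => hx1 (congrArg Subtype.val h))
  have h2 := hb ⟨y, hy⟩ (fun h => hy1 (congrArg Subtype.val h))
  exact congrArg Subtype.val (h1.trans h2.symm)

end Cfsg.Agent.Lib.Helper53.DCI
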