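import Mathlib
import Cfsg.Prelude.Def_SporadicB
import Cfsg.Agent.Lib.Helper53.DoubleCoverInvol

/-!
Involutions of non-split double covers of `A_n`, `n ≤ 7`, are central (helper53).  The data for the
four degrees `4, 5, 6, 7` is generated from one template and checked by `decide`.
-/

set_option autoImplicit false

namespace Cfsg.Agent.Lib.Helper53.DCI

open Equiv

/-! ### degree 4 (Sylow 2-subgroup a four-group) -/

section deg4

def qa4 : Perm (Fin 4) := swap 0 1 * swap 2 3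
def qx4 : Perm (Fin 4) := swap 0 2 * swap 1 3
def qk14 : Perm (Fin 4) := swap 1 2 * swap 2 3
def qk24 : Perm (Fin 4) := swap 2 3 * swap 1 2

theorem qa4_mem : qa4 ∈ alternatingGroup (Fin 4) := by
  rw [Equiv.Perm.mem_alternatingGroup]; decide
theorem qx4_mem : qx4 ∈ alternatingGroup (Fin 4) := by
  rw [Equiv.Perm.mem_alternatingGroup]; decide
theorem qk14_mem : qk14 ∈ alternatingGroup (Fin 4) := by
  rw [Equiv.Perm.mem_alternatingGroup]; decide
theorem qk24_mem : qk24 ∈ alternatingGroup (Fin 4) := by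
  rw [Equiv.Perm.mem_alternatingGroup]; decide

def ha4 : alternatingGroup (Fin 4) := ⟨qa4, qa4_mem⟩
def hx4 : alternatingGroup (Fin 4) := ⟨qx4, qx4_mem⟩
def kk4 : Fin 3 → alternatingGroup (Fin 4)
  | 0 => 1
  | 1 => ⟨qk14, qk14_mem⟩
  | 2 => ⟨qk24, qk24_mem⟩

set_option maxRecDepth 100000 in
theorem data4_inj : ∀ p q : Fin 2 × Fin 2,
    ha4 ^ p.1.val * hx4 ^ p.2.val = ha4 ^ q.1.val * hx4 ^ q.2.val → p = q := by decide

set_option maxRecDepth 100000 in
theorem data4_rels : ha4 ^ 1 * ha4 ^ 1 = 1 ∧ hx4 * hx4 = 1 ∧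
    (hx4 * ha4) * (hx4 * ha4) = 1 := by decide

set_option maxRecDepth 100000 in
theorem data4_conj : ∀ p : Fin 2 × Fin 2, ha4 ^ p.1.val * hx4 ^ p.2.val ≠ 1 →
    (ha4 ^ p.1.val * hx4 ^ p.2.val) * (ha4 ^ p.1.val * hx4 ^ p.2.val) = 1 →
    ∃ i : Fin 3, kk4 i * ha4 * (kk4 i)⁻¹ = ha4 ^ p.1.val * hx4 ^ p.2.val := by decide

theorem card4 : Nat.card (alternatingGroup (Fin 4)) = 2 * 2 * 3 := by
  have h := two_mul_nat_card_alternatingGroup (α := Fin 4)
  rw [Nat.card_eq_fintype_card (α := Perm (Fin 4)), Fintype.card_perm, Fintype.card_fin] at h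
  have : (4).factorial = 2 * (2 * 2 * 3) := by decide
  omega

theorem involution_central4 {H : Type} [Group H] [Finite H]
    (hH : Cfsg.IsNonsplitDoubleCover H (alternatingGroup (Fin 4))) (x : H)
    (hx : orderOf x = 2) : x ∈ Subgroup.center H :=
  involution_mem_center_of_data hH ha4 hx4 ha4 2 1 2 3 (by norm_num) (by norm_num)
    (by norm_num) card4 (by norm_num) data4_inj data4_rels.1 data4_rels.2.1 data4_rels.2.2
    (fun p h1 h2 => by
      obtain ⟨i, hi⟩ := data4_conj p h1 h2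
      exact ⟨kk4 i, hi⟩) x hx

end deg4

/-! ### degree 5 (Sylow 2-subgroup a four-group) -/

section deg5

def qa5 : Perm (Fin 5) := swap 0 1 * swap 2 3
def qx5 : Perm (Fin 5) := swap 0 2 * swap 1 3
def qk15 : Perm (Fin 5) := swap 1 2 * swap 2 3
def qk25 : Perm (Fin 5) := swap 2 3 * swap 1 2

theorem qa5_mem : qa5 ∈ alternatingGroup (Fin 5) := by
  rw [Equiv.Perm.mem_alternatingGroup]; decide
theorem qx5_mem : qx5 ∈ alternatingGroup (Fin 5) := by
  rw [Equiv.Perm.mem_alternatingGroup]; decide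
theorem qk15_mem : qk15 ∈ alternatingGroup (Fin 5) := by
  rw [Equiv.Perm.mem_alternatingGroup]; decide
theorem qk25_mem : qk25 ∈ alternatingGroup (Fin 5) := by
  rw [Equiv.Perm.mem_alternatingGroup]; decide

def ha5 : alternatingGroup (Fin 5) := ⟨qa5, qa5_mem⟩
def hx5 : alternatingGroup (Fin 5) := ⟨qx5, qx5_mem⟩
def kk5 : Fin 3 → alternatingGroup (Fin 5)
  | 0 => 1
  | 1 => ⟨qk15, qk15_mem⟩
  | 2 => ⟨qk25, qk25_mem⟩

set_option maxRecDepth 100000 in
theorem data5_inj : ∀ p q : Fin 2 × Fin 2,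
    ha5 ^ p.1.val * hx5 ^ p.2.val = ha5 ^ q.1.val * hx5 ^ q.2.val → p = q := by decide

set_option maxRecDepth 100000 in
theorem data5_rels : ha5 ^ 1 * ha5 ^ 1 = 1 ∧ hx5 * hx5 = 1 ∧
    (hx5 * ha5) * (hx5 * ha5) = 1 := by decide

set_option maxRecDepth 100000 in
theorem data5_conj : ∀ p : Fin 2 × Fin 2, ha5 ^ p.1.val * hx5 ^ p.2.val ≠ 1 →
    (ha5 ^ p.1.val * hx5 ^ p.2.val) * (ha5 ^ p.1.val * hx5 ^ p.2.val) = 1 →
    ∃ i : Fin 3, kk5 i * ha5 * (kk5 i)⁻¹ = ha5 ^ p.1.val * hx5 ^ p.2.val := by decide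

theorem card5 : Nat.card (alternatingGroup (Fin 5)) = 2 * 2 * 15 := by
  have h := two_mul_nat_card_alternatingGroup (α := Fin 5)
  rw [Nat.card_eq_fintype_card (α := Perm (Fin 5)), Fintype.card_perm, Fintype.card_fin] at h
  have : (5).factorial = 2 * (2 * 2 * 15) := by decide
  omega

theorem involution_central5 {H : Type} [Group H] [Finite H]
    (hH : Cfsg.IsNonsplitDoubleCover H (alternatingGroup (Fin 5))) (x : H)
    (hx : orderOf x = 2) : x ∈ Subgroup.center H :=
  involution_mem_center_of_data hH ha5 hx5 ha5 2 1 2 15 (by norm_num) (by norm_num)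
    (by norm_num) card5 (by norm_num) data5_inj data5_rels.1 data5_rels.2.1 data5_rels.2.2
    (fun p h1 h2 => by
      obtain ⟨i, hi⟩ := data5_conj p h1 h2
      exact ⟨kk5 i, hi⟩) x hx

end deg5

/-! ### degree 6 (Sylow 2-subgroup dihedral of order eight) -/

section deg6

def qa6 : Perm (Fin 6) := swap 0 1 * swap 1 2 * swap 2 3 * swap 4 5
def qx6 : Perm (Fin 6) := swap 0 2 * swap 4 5
def qk16 : Perm (Fin 6) := swap 1 4 * swap 4 2 * swap 2 3 * swap 3 5
def qk26 : Perm (Fin 6) := swap 1 4 * swap 3 5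
def qk36 : Perm (Fin 6) := swap 0 1 * swap 2 3
def qk46 : Perm (Fin 6) := swap 1 4 * swap 4 3 * swap 3 5 * swap 5 2

theorem qa6_mem : qa6 ∈ alternatingGroup (Fin 6) := by
  rw [Equiv.Perm.mem_alternatingGroup]; decide
theorem qx6_mem : qx6 ∈ alternatingGroup (Fin 6) := by
  rw [Equiv.Perm.mem_alternatingGroup]; decide
theorem qk16_mem : qk16 ∈ alternatingGroup (Fin 6) := by
  rw [Equiv.Perm.mem_alternatingGroup]; decide
theorem qk26_mem : qk26 ∈ alternatingGroup (Fin 6) := by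
  rw [Equiv.Perm.mem_alternatingGroup]; decide
theorem qk36_mem : qk36 ∈ alternatingGroup (Fin 6) := by
  rw [Equiv.Perm.mem_alternatingGroup]; decide
theorem qk46_mem : qk46 ∈ alternatingGroup (Fin 6) := by
  rw [Equiv.Perm.mem_alternatingGroup]; decide

def ha6 : alternatingGroup (Fin 6) := ⟨qa6, qa6_mem⟩
def hx6 : alternatingGroup (Fin 6) := ⟨qx6, qx6_mem⟩
def kk6 : Fin 5 → alternatingGroup (Fin 6)
  | 0 => 1
  | 1 => ⟨qk16, qk16_mem⟩
  | 2 => ⟨qk26, qk26_mem⟩
  | 3 => ⟨qk36, qk36_mem⟩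
  | 4 => ⟨qk46, qk46_mem⟩

set_option maxRecDepth 100000 in
theorem data6_inj : ∀ p q : Fin 4 × Fin 2,
    ha6 ^ p.1.val * hx6 ^ p.2.val = ha6 ^ q.1.val * hx6 ^ q.2.val → p = q := by decide

set_option maxRecDepth 100000 in
theorem data6_rels : ha6 ^ 2 * ha6 ^ 2 = 1 ∧ hx6 * hx6 = 1 ∧
    (hx6 * ha6) * (hx6 * ha6) = 1 := by decide

set_option maxRecDepth 100000 in
theorem data6_conj : ∀ p : Fin 4 × Fin 2, ha6 ^ p.1.val * hx6 ^ p.2.val ≠ 1 →
    (ha6 ^ p.1.val * hx6 ^ p.2.val) * (ha6 ^ p.1.val * hx6 ^ p.2.val) = 1 →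
    ∃ i : Fin 5, kk6 i * hx6 * (kk6 i)⁻¹ = ha6 ^ p.1.val * hx6 ^ p.2.val := by decide

theorem card6 : Nat.card (alternatingGroup (Fin 6)) = 2 * 4 * 45 := by
  have h := two_mul_nat_card_alternatingGroup (α := Fin 6)
  rw [Nat.card_eq_fintype_card (α := Perm (Fin 6)), Fintype.card_perm, Fintype.card_fin] at h
  have : (6).factorial = 2 * (2 * 4 * 45) := by decide
  omega

theorem involution_central6 {H : Type} [Group H] [Finite H]
    (hH : Cfsg.IsNonsplitDoubleCover H (alternatingGroup (Fin 6))) (x : H)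
    (hx : orderOf x = 2) : x ∈ Subgroup.center H :=
  involution_mem_center_of_data hH ha6 hx6 hx6 4 2 3 45 (by norm_num) (by norm_num)
    (by norm_num) card6 (by norm_num) data6_inj data6_rels.1 data6_rels.2.1 data6_rels.2.2
    (fun p h1 h2 => by
      obtain ⟨i, hi⟩ := data6_conj p h1 h2
      exact ⟨kk6 i, hi⟩) x hx

end deg6

/-! ### degree 7 (Sylow 2-subgroup dihedral of order eight) -/

section deg7

def qa7 : Perm (Fin 7) := swap 0 1 * swap 1 2 * swap 2 3 * swap 4 5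
def qx7 : Perm (Fin 7) := swap 0 2 * swap 4 5
def qk17 : Perm (Fin 7) := swap 1 4 * swap 4 2 * swap 2 3 * swap 3 5
def qk27 : Perm (Fin 7) := swap 1 4 * swap 3 5
def qk37 : Perm (Fin 7) := swap 0 1 * swap 2 3
def qk47 : Perm (Fin 7) := swap 1 4 * swap 4 3 * swap 3 5 * swap 5 2

theorem qa7_mem : qa7 ∈ alternatingGroup (Fin 7) := by
  rw [Equiv.Perm.mem_alternatingGroup]; decide
theorem qx7_mem : qx7 ∈ alternatingGroup (Fin 7) := by
  rw [Equiv.Perm.mem_alternatingGroup]; decide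
theorem qk17_mem : qk17 ∈ alternatingGroup (Fin 7) := by
  rw [Equiv.Perm.mem_alternatingGroup]; decide
theorem qk27_mem : qk27 ∈ alternatingGroup (Fin 7) := by
  rw [Equiv.Perm.mem_alternatingGroup]; decide
theorem qk37_mem : qk37 ∈ alternatingGroup (Fin 7) := by
  rw [Equiv.Perm.mem_alternatingGroup]; decide
theorem qk47_mem : qk47 ∈ alternatingGroup (Fin 7) := by
  rw [Equiv.Perm.mem_alternatingGroup]; decide

def ha7 : alternatingGroup (Fin 7) := ⟨qa7, qa7_mem⟩
def hx7 : alternatingGroup (Fin 7) := ⟨qx7, qx7_mem⟩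
def kk7 : Fin 5 → alternatingGroup (Fin 7)
  | 0 => 1
  | 1 => ⟨qk17, qk17_mem⟩
  | 2 => ⟨qk27, qk27_mem⟩
  | 3 => ⟨qk37, qk37_mem⟩
  | 4 => ⟨qk47, qk47_mem⟩

set_option maxRecDepth 100000 in
theorem data7_inj : ∀ p q : Fin 4 × Fin 2,
    ha7 ^ p.1.val * hx7 ^ p.2.val = ha7 ^ q.1.val * hx7 ^ q.2.val → p = q := by decide

set_option maxRecDepth 100000 in
theorem data7_rels : ha7 ^ 2 * ha7 ^ 2 = 1 ∧ hx7 * hx7 = 1 ∧
    (hx7 * ha7) * (hx7 * ha7) = 1 := by decide

set_option maxRecDepth 100000 in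
theorem data7_conj : ∀ p : Fin 4 × Fin 2, ha7 ^ p.1.val * hx7 ^ p.2.val ≠ 1 →
    (ha7 ^ p.1.val * hx7 ^ p.2.val) * (ha7 ^ p.1.val * hx7 ^ p.2.val) = 1 →
    ∃ i : Fin 5, kk7 i * hx7 * (kk7 i)⁻¹ = ha7 ^ p.1.val * hx7 ^ p.2.val := by decide

theorem card7 : Nat.card (alternatingGroup (Fin 7)) = 2 * 4 * 315 := by
  have h := two_mul_nat_card_alternatingGroup (α := Fin 7)
  rw [Nat.card_eq_fintype_card (α := Perm (Fin 7)), Fintype.card_perm, Fintype.card_fin] at h
  have : (7).factorial = 2 * (2 * 4 * 315) := by decide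
  omega

theorem involution_central7 {H : Type} [Group H] [Finite H]
    (hH : Cfsg.IsNonsplitDoubleCover H (alternatingGroup (Fin 7))) (x : H)
    (hx : orderOf x = 2) : x ∈ Subgroup.center H :=
  involution_mem_center_of_data hH ha7 hx7 hx7 4 2 3 315 (by norm_num) (by norm_num)
    (by norm_num) card7 (by norm_num) data7_inj data7_rels.1 data7_rels.2.1 data7_rels.2.2
    (fun p h1 h2 => by
      obtain ⟨i, hi⟩ := data7_conj p h1 h2
      exact ⟨kk7 i, hi⟩) x hx

end deg7

/-! ### small degrees -/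

theorem card_alt_small (n : ℕ) (hn : n ≤ 3) : ¬ 2 ∣ Nat.card (alternatingGroup (Fin n)) := by
  rcases Nat.lt_or_ge n 2 with h | h
  · haveI : Subsingleton (Fin n) := by
      rcases Nat.lt_or_ge n 1 with h0 | h0
      · have : n = 0 := by omega
        subst this; infer_instance
      · have : n = 1 := by omega
        subst this; infer_instance
    haveI : Subsingleton (Perm (Fin n)) := inferInstance
    rw [Nat.card_eq_one_iff_unique.2 ⟨inferInstance, inferInstance⟩]
    norm_num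
  · haveI : Nontrivial (Fin n) := Fin.nontrivial_iff_two_le.2 h
    have h2 := two_mul_nat_card_alternatingGroup (α := Fin n)
    rw [Nat.card_eq_fintype_card (α := Perm (Fin n)), Fintype.card_perm, Fintype.card_fin] at h2
    have hn23 : n = 2 ∨ n = 3 := by omega
    rcases hn23 with rfl | rfl
    · have : Nat.card (alternatingGroup (Fin 2)) = 1 := by
        have : (2 : ℕ).factorial = 2 := by decide
        omega
      rw [this]; norm_num
    · have : Nat.card (alternatingGroup (Fin 3)) = 3 := by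
        have : (3 : ℕ).factorial = 6 := by decide
        omega
      rw [this]; norm_num

/-- For `n ≤ 7` a finite non-split double cover of `A_n` has a unique involution. -/
theorem unique_involution (n : ℕ) (H : Type) [Group H] [Finite H] (hn : n ≤ 7)
    (hH : Cfsg.IsNonsplitDoubleCover H (alternatingGroup (Fin n))) (x y : H)
    (hx : orderOf x = 2) (hy : orderOf y = 2) : x = y := by
  have key : ∀ w : H, orderOf w = 2 → w ∈ Subgroup.center H := by
    intro w hw
    rcases Nat.lt_or_ge n 4 with h | h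
    · exact involution_mem_center_of_odd hH (card_alt_small n (by omega)) w hw
    · obtain rfl | rfl | rfl | rfl : n = 4 ∨ n = 5 ∨ n = 6 ∨ n = 7 := by omega
      · exact involution_central4 hH w hw
      · exact involution_central5 hH w hw
      · exact involution_central6 hH w hw
      · exact involution_central7 hH w hw
  have hx1 : x ≠ 1 := by
    intro h; rw [h, orderOf_one] at hx; omega
  have hy1 : y ≠ 1 := by
    intro h; rw [h, orderOf_one] at hy; omega
  exact eq_of_mem_center_of_card hH.1 x y (key x hx) (key y hy) hx1 hy1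

end Cfsg.Agent.Lib.Helper53.DCI
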