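import Mathlib
import Cfsg.Prelude.Def_KGroupFacts
import Cfsg.Agent.Lib.Helper66.Hopf
import Cfsg.Agent.Lib.Helper66.TransferPow
import Cfsg.Agent.Lib.Helper53.SL2Multiplier

/-!
Generic bounds for kernels of stem extensions through subgroups (helper53).

* `card_commutator_inf_ker_le`: if every stem extension of `U` has kernel of order `≤ n`, then in
  every central extension `τ : W → U` one has `|W' ∩ ker τ| ≤ n`.
* `card_ker_le_card_commutator_inf_ker`: transfer.  For a stem extension `σ : Γ → G` and a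
  subgroup `U` of index prime to `|ker σ|`, the kernel embeds in `W' ∩ ker (W → U)`, `W = σ⁻¹ U`.
-/

set_option autoImplicit false

namespace Cfsg.Agent.Lib.Helper53.SchurBound

open Cfsg.Agent.Lib.Helper66 Cfsg.Agent.Lib.Helper53.SL2Mult

universe u w

theorem card_commutator_inf_ker_le {U : Type u} [Group U] [Finite U] (n : ℕ)
    (hU : ∀ (Γ : Type u) [Group Γ] [Finite Γ] (τ : Γ →* U), Cfsg.IsStemExtension τ →
      Nat.card τ.ker ≤ n)
    {W : Type w} [Group W] [Finite W] (τ : W →* U)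
    (hsurj : Function.Surjective τ) (hcen : τ.ker ≤ Subgroup.center W) :
    Nat.card ↥(commutator W ⊓ τ.ker) ≤ n := by
  letI : CommGroup ↥(hopfM (stdPres U)) :=
    { (inferInstance : Group ↥(hopfM (stdPres U))) with
      mul_comm := fun a b =>
        Subtype.ext (Subgroup.mem_center_iff.1 (hopfM_le_center (stdPres U) a.2) b.1).symm }
  have hB : Cfsg.HasSchurMultiplier U ↥(hopfM (stdPres U)) :=
    (hasSchurMultiplier_iff (stdPres U) stdPres_surjective _).2 ⟨MulEquiv.refl _⟩
  have hcard : Nat.card ↥(hopfM (stdPres U)) ≤ n := by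
    obtain ⟨⟨Γ₂, _, _, τ₂, hτ₂, ⟨eB⟩⟩, _⟩ := hB
    rw [← Nat.card_congr eB.toEquiv]
    exact hU Γ₂ τ₂ hτ₂
  haveI := finite_hopfM (stdPres U)
  obtain ⟨π, hπ⟩ := exists_hom_range_eq_of_hasSchurMultiplier hB τ hsurj hcen
  rw [← hπ]
  exact (Nat.card_le_card_of_surjective π.rangeRestrict π.rangeRestrict_surjective).trans hcard

theorem card_ker_le_card_commutator_inf_ker {Γ : Type u} {G : Type u} [Group Γ] [Group G]
    [Finite Γ] [Finite G] (σ : Γ →* G) (hσ : Cfsg.IsStemExtension σ) (U : Subgroup G)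
    (hcop : (Nat.card σ.ker).Coprime U.index) :
    Nat.card σ.ker ≤ Nat.card ↥(commutator ↥(U.comap σ) ⊓ (σ.subgroupComap U).ker) := by
  have key : ∀ a ∈ σ.ker, ∃ h : a ^ U.index ∈ U.comap σ,
      (⟨a ^ U.index, h⟩ : ↥(U.comap σ)) ∈
        commutator ↥(U.comap σ) ⊓ (σ.subgroupComap U).ker := by
    intro a ha
    obtain ⟨h, hc⟩ := pow_index_mem_commutator_comap σ hσ.1 hσ.2.1 hσ.2.2 U a ha
    refine ⟨h, hc, ?_⟩
    show (⟨a ^ U.index, h⟩ : ↥(U.comap σ)) ∈ (σ.subgroupComap U).ker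
    rw [MonoidHom.mem_ker]
    apply Subtype.ext
    show σ (a ^ U.index) = 1
    rw [map_pow, MonoidHom.mem_ker.mp ha, one_pow]
  let f : σ.ker → ↥(commutator ↥(U.comap σ) ⊓ (σ.subgroupComap U).ker) :=
    fun a => ⟨⟨(a : Γ) ^ U.index, (key a a.2).1⟩, (key a a.2).2⟩
  have hf : Function.Injective f := by
    intro a b hab
    have h1 : (a : Γ) ^ U.index = (b : Γ) ^ U.index :=
      congrArg (fun z => ((z.1 : ↥(U.comap σ)) : Γ)) hab
    have h2 : a ^ U.index = b ^ U.index := Subtype.ext (by simpa using h1)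
    exact (powCoprime hcop).injective h2
  exact Nat.card_le_card_of_injective f hf

end Cfsg.Agent.Lib.Helper53.SchurBound
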