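import Mathlib
import Cfsg.Prelude.Def_KGroupFacts
import Cfsg.Agent.Lib.Helper66.Hopf
import Cfsg.Agent.Lib.Helper66.TransferPow
import Cfsg.Agent.Lib.Helper66.StemDihedral2
import Cfsg.Agent.Lib.Helper66.StemAbelian
import Cfsg.Agent.Lib.Helper53.SL2Multiplier
import Cfsg.Agent.Lib.Helper53.SchurBound

/-!
Generic tools to show that a Schur multiplier is cyclic of order six (helper53).
-/

set_option autoImplicit false

namespace Cfsg.Agent.Lib.Helper53.SchurSix

open Cfsg.Agent.Lib.Helper66 Cfsg.Agent.Lib.Helper53.SL2Mult Cfsg.Agent.Lib.Helper53.SchurBound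

universe u

/-- Transfer, `p`-part version: if `U` has index prime to `p`, the `p`-part of the kernel of a stem
extension embeds in `W' ∩ ker (W → U)`, `W` the preimage of `U`. -/
theorem ppart_le {Γ G : Type u} [Group Γ] [Group G] [Finite Γ] [Finite G] (σ : Γ →* G)
    (hσ : Cfsg.IsStemExtension σ) (U : Subgroup G) (p : ℕ) [Fact p.Prime] (hp : ¬ p ∣ U.index)
    (m : ℕ) (hD : Nat.card ↥(commutator ↥(U.comap σ) ⊓ (σ.subgroupComap U).ker) ≤ m) :
    p ^ (Nat.card σ.ker).factorization p ≤ m := by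
  classical
  have key : ∀ a ∈ σ.ker, ∃ h : a ^ U.index ∈ U.comap σ,
      (⟨a ^ U.index, h⟩ : ↥(U.comap σ)) ∈
        commutator ↥(U.comap σ) ⊓ (σ.subgroupComap U).ker := by
    intro a ha
    obtain ⟨h, hc⟩ := pow_index_mem_commutator_comap σ hσ.1 hσ.2.1 hσ.2.2 U a ha
    refine ⟨h, hc, ?_⟩
    show (⟨a ^ U.index, h⟩ : ↥(U.comap σ)) ∈ (σ.subgroupComap U).ker
    rw [MonoidHom.mem_ker]
    apply Subtype.ext
    show σ (a ^ U.index) = 1
    rw [map_pow, MonoidHom.mem_ker.mp ha, one_pow]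
  obtain ⟨P⟩ : Nonempty (Sylow p σ.ker) := inferInstance
  have hPcard : Nat.card P = p ^ (Nat.card σ.ker).factorization p := P.card_eq_multiplicity
  let f : P → ↥(commutator ↥(U.comap σ) ⊓ (σ.subgroupComap U).ker) :=
    fun a => ⟨⟨((a : σ.ker) : Γ) ^ U.index, (key _ (a : σ.ker).2).1⟩, (key _ (a : σ.ker).2).2⟩
  have hf : Function.Injective f := by
    intro a b hab
    have h1 : ((a : σ.ker) : Γ) ^ U.index = ((b : σ.ker) : Γ) ^ U.index :=
      congrArg (fun z => ((z.1 : ↥(U.comap σ)) : Γ)) hab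
    have hcomm : Commute (a : σ.ker) ((b : σ.ker)⁻¹) := by
      apply Subtype.ext
      have := Subgroup.mem_center_iff.1 (hσ.2.1 (a : σ.ker).2) (((b : σ.ker)⁻¹ : σ.ker) : Γ)
      exact this.symm
    have h2 : ((a * b⁻¹ : P) : σ.ker) ^ U.index = 1 := by
      show ((a : σ.ker) * (b : σ.ker)⁻¹) ^ U.index = 1
      rw [hcomm.mul_pow, inv_pow]
      have : (a : σ.ker) ^ U.index = (b : σ.ker) ^ U.index := Subtype.ext (by simpa using h1)
      rw [this, mul_inv_cancel]
    have h3 : (a * b⁻¹ : P) ^ U.index = 1 := Subtype.ext (by simpa using h2)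
    obtain ⟨k, hk⟩ := P.2 (a * b⁻¹)
    have hcop : Nat.Coprime (p ^ k) U.index :=
      Nat.Coprime.pow_left k ((Nat.Prime.coprime_iff_not_dvd (Fact.out)).2 hp)
    have h4 : orderOf (a * b⁻¹ : P) ∣ Nat.gcd (p ^ k) U.index :=
      Nat.dvd_gcd (orderOf_dvd_of_pow_eq_one hk) (orderOf_dvd_of_pow_eq_one h3)
    rw [hcop.gcd_eq_one, Nat.dvd_one, orderOf_eq_one_iff] at h4
    exact mul_inv_eq_one.1 h4
  calc p ^ (Nat.card σ.ker).factorization p = Nat.card P := hPcard.symm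
    _ ≤ Nat.card ↥(commutator ↥(U.comap σ) ⊓ (σ.subgroupComap U).ker) :=
        Nat.card_le_card_of_injective f hf
    _ ≤ m := hD


/-- If suitable subgroups of index prime to `p` have small multipliers, the kernel of every stem
extension has order dividing six. -/
theorem card_ker_dvd_six {G : Type u} [Group G] [Finite G]
    (h2 : ∃ U : Subgroup G, ¬ 2 ∣ U.index ∧
      ∀ (Γ : Type u) [Group Γ] [Finite Γ] (τ : Γ →* U), Cfsg.IsStemExtension τ →
        Nat.card τ.ker ≤ 2)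
    (h3 : ∃ U : Subgroup G, ¬ 3 ∣ U.index ∧
      ∀ (Γ : Type u) [Group Γ] [Finite Γ] (τ : Γ →* U), Cfsg.IsStemExtension τ →
        Nat.card τ.ker ≤ 3)
    (h5 : ∀ p : ℕ, p.Prime → 5 ≤ p → ∃ U : Subgroup G, IsCyclic U ∧ ¬ p ∣ U.index)
    {Γ : Type u} [Group Γ] [Finite Γ] (σ : Γ →* G) (hσ : Cfsg.IsStemExtension σ) :
    Nat.card σ.ker ∣ 6 := by
  have hne : Nat.card σ.ker ≠ 0 := Nat.card_pos.ne'
  rw [Nat.dvd_iff_prime_pow_dvd_dvd]
  intro p k hp hk
  haveI : Fact p.Prime := ⟨hp⟩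
  have hkv : k ≤ (Nat.card σ.ker).factorization p :=
    (hp.pow_dvd_iff_le_factorization hne).1 hk
  have hpow : p ^ k ≤ p ^ (Nat.card σ.ker).factorization p :=
    Nat.pow_le_pow_right hp.pos hkv
  by_cases hp2 : p = 2
  · subst hp2
    obtain ⟨U, hU, hst⟩ := h2
    have hD := card_commutator_inf_ker_le 2 hst (σ.subgroupComap U)
      (σ.subgroupComap_surjective_of_surjective U hσ.1) (subgroupComap_ker_le_center σ hσ U)
    have := ppart_le σ hσ U 2 hU 2 hD
    have hk1 : k ≤ 1 := by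
      by_contra hcon
      have : 2 ^ 2 ≤ 2 ^ k := Nat.pow_le_pow_right (by norm_num) (by omega)
      omega
    interval_cases k <;> norm_num
  by_cases hp3 : p = 3
  · subst hp3
    obtain ⟨U, hU, hst⟩ := h3
    have hD := card_commutator_inf_ker_le 3 hst (σ.subgroupComap U)
      (σ.subgroupComap_surjective_of_surjective U hσ.1) (subgroupComap_ker_le_center σ hσ U)
    have := ppart_le σ hσ U 3 hU 3 hD
    have hk1 : k ≤ 1 := by
      by_contra hcon
      have : 3 ^ 2 ≤ 3 ^ k := Nat.pow_le_pow_right (by norm_num) (by omega)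
      omega
    interval_cases k <;> norm_num
  · have hp5 : 5 ≤ p := by
      have h2le := hp.two_le
      by_contra hcon
      have hlt : p < 5 := by omega
      interval_cases p
      · exact hp2 rfl
      · exact hp3 rfl
      · exact absurd hp (by norm_num)
    obtain ⟨U, hUc, hU⟩ := h5 p hp hp5
    haveI := hUc
    have hD : Nat.card ↥(commutator ↥(U.comap σ) ⊓ (σ.subgroupComap U).ker) ≤ 1 := by
      rw [inf_eq_bot_of_cyclic σ hσ U]
      simp
    have := ppart_le σ hσ U p hU 1 hD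
    have hk0 : k = 0 := by
      by_contra hcon
      have : p ^ 1 ≤ p ^ k := Nat.pow_le_pow_right hp.pos (by omega)
      rw [pow_one] at this
      omega
    subst hk0
    simp

/-- Assembly: kernels of order dividing six, and covers with kernels of orders two and three, give
a multiplier cyclic of order six. -/
theorem hasCyclicSchurMultiplier_six {G : Type u} [Group G] [Finite G]
    (hub : ∀ (Γ : Type u) [Group Γ] [Finite Γ] (σ : Γ →* G), Cfsg.IsStemExtension σ →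
      Nat.card σ.ker ∣ 6)
    (h2 : ∃ (Γ : Type u) (_ : Group Γ) (_ : Finite Γ) (σ : Γ →* G),
      Cfsg.IsStemExtension σ ∧ Nat.card σ.ker = 2)
    (h3 : ∃ (Γ : Type u) (_ : Group Γ) (_ : Finite Γ) (σ : Γ →* G),
      Cfsg.IsStemExtension σ ∧ Nat.card σ.ker = 3) :
    Cfsg.HasCyclicSchurMultiplier G 6 := by
  letI : CommGroup ↥(hopfM (stdPres G)) :=
    { (inferInstance : Group ↥(hopfM (stdPres G))) with
      mul_comm := fun a b =>
        Subtype.ext (Subgroup.mem_center_iff.1 (hopfM_le_center (stdPres G) a.2) b.1).symm }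
  have hB : Cfsg.HasSchurMultiplier G ↥(hopfM (stdPres G)) :=
    (hasSchurMultiplier_iff (stdPres G) stdPres_surjective _).2 ⟨MulEquiv.refl _⟩
  haveI := finite_hopfM (stdPres G)
  have hdvd6 : Nat.card ↥(hopfM (stdPres G)) ∣ 6 := by
    obtain ⟨⟨Γ₀, _, _, σ₀, hσ₀, ⟨eB⟩⟩, _⟩ := hB
    rw [← Nat.card_congr eB.toEquiv]
    exact hub Γ₀ σ₀ hσ₀
  have h2dvd : 2 ∣ Nat.card ↥(hopfM (stdPres G)) := by
    obtain ⟨Γ₂, _, _, σ₂, hσ₂, hc⟩ := h2
    obtain ⟨π, hπ⟩ := hB.2 Γ₂ σ₂ hσ₂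
    rw [← hc]
    exact Subgroup.card_dvd_of_surjective π hπ
  have h3dvd : 3 ∣ Nat.card ↥(hopfM (stdPres G)) := by
    obtain ⟨Γ₃, _, _, σ₃, hσ₃, hc⟩ := h3
    obtain ⟨π, hπ⟩ := hB.2 Γ₃ σ₃ hσ₃
    rw [← hc]
    exact Subgroup.card_dvd_of_surjective π hπ
  have hcard : Nat.card ↥(hopfM (stdPres G)) = 6 := by
    have h6 : 6 ∣ Nat.card ↥(hopfM (stdPres G)) :=
      Nat.Coprime.mul_dvd_of_dvd_of_dvd (by norm_num : Nat.Coprime 2 3) h2dvd h3dvd
    exact Nat.dvd_antisymm hdvd6 h6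
  haveI : IsZGroup ↥(hopfM (stdPres G)) := IsZGroup.of_squarefree (by
    rw [hcard]
    have : (6 : ℕ) = 2 * 3 := by norm_num
    rw [this, Nat.squarefree_mul_iff]
    exact ⟨by norm_num, Nat.prime_two.squarefree, Nat.prime_three.squarefree⟩)
  haveI : IsCyclic ↥(hopfM (stdPres G)) := inferInstance
  haveI : IsCyclic (Multiplicative (ZMod 6)) := inferInstance
  have e : Multiplicative (ZMod 6) ≃* ↥(hopfM (stdPres G)) :=
    mulEquivOfCyclicCardEq (by rw [hcard]; simp)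
  exact (hasSchurMultiplier_iff (stdPres G) stdPres_surjective _).2 ⟨e⟩

section range

variable {G : Type*} [Group G] {ι : Type*}

/-- a subgroup given as the range of a map closed under the operations -/
def rangeSubgroup (hs : ι → G) (hone : ∃ r, hs r = 1) (hmul : ∀ p q, ∃ r, hs p * hs q = hs r)
    (hinv : ∀ p, ∃ r, hs p * hs r = 1) : Subgroup G where
  carrier := Set.range hs
  mul_mem' := by
    rintro _ _ ⟨p, rfl⟩ ⟨q, rfl⟩
    obtain ⟨r, hr⟩ := hmul p q
    exact ⟨r, hr.symm⟩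
  one_mem' := hone
  inv_mem' := by
    rintro _ ⟨p, rfl⟩
    obtain ⟨r, hr⟩ := hinv p
    exact ⟨r, (inv_eq_of_mul_eq_one_right hr).symm⟩

theorem mem_rangeSubgroup (hs : ι → G) (hone : ∃ r, hs r = 1)
    (hmul : ∀ p q, ∃ r, hs p * hs q = hs r) (hinv : ∀ p, ∃ r, hs p * hs r = 1) {g : G} :
    g ∈ rangeSubgroup hs hone hmul hinv ↔ ∃ p, hs p = g := Iff.rfl

theorem card_rangeSubgroup [Fintype ι] (hs : ι → G) (hone : ∃ r, hs r = 1)
    (hmul : ∀ p q, ∃ r, hs p * hs q = hs r) (hinv : ∀ p, ∃ r, hs p * hs r = 1)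
    (hinj : Function.Injective hs) :
    Nat.card (rangeSubgroup hs hone hmul hinv) = Fintype.card ι := by
  have h : Nat.card (Set.range hs) = Nat.card ι := Nat.card_range_of_injective hinj
  rw [← Nat.card_eq_fintype_card, ← h]
  rfl

end range

/-- The kernel of a stem extension of a dihedral group of order eight has at most two elements. -/
theorem d8_stem_bound {G : Type*} [Group G] (U : Subgroup G) (a x : G) (ha : a ∈ U) (hx : x ∈ U)
    (hU : ∀ g ∈ U, ∃ i j : ℕ, g = a ^ i * x ^ j) (hx2 : x * x = 1) (hxa : x * a * x = a⁻¹)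
    (ha4 : a ^ 4 = 1) (ha2 : a ^ 2 ≠ 1) {Γ : Type*} [Group Γ] [Finite Γ] (τ : Γ →* U)
    (hτ : Cfsg.IsStemExtension τ) : Nat.card τ.ker ≤ 2 := by
  set a' : U := ⟨a, ha⟩ with ha'
  set x' : U := ⟨x, hx⟩ with hx'
  have hgen : Subgroup.closure ({a', x'} : Set U) = ⊤ := by
    rw [eq_top_iff]
    rintro ⟨g, hg⟩ _
    obtain ⟨i, j, rfl⟩ := hU g hg
    have : (⟨a ^ i * x ^ j, hg⟩ : U) = a' ^ i * x' ^ j := by
      apply Subtype.ext
      simp [ha', hx']
    rw [this]
    apply Subgroup.mul_mem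
    · exact Subgroup.pow_mem _ (Subgroup.subset_closure (by simp)) _
    · exact Subgroup.pow_mem _ (Subgroup.subset_closure (by simp)) _
  have hxinv : x'⁻¹ = x' := by
    apply inv_eq_of_mul_eq_one_right
    apply Subtype.ext
    exact hx2
  have hrel : x' * a' * x'⁻¹ = a'⁻¹ := by
    rw [hxinv]
    apply Subtype.ext
    exact hxa
  have ha4' : a' ^ 4 = 1 := by
    apply Subtype.ext
    simpa using ha4
  have hn : a' ^ 4 ∈ Subgroup.zpowers x' := by
    rw [ha4']; exact Subgroup.one_mem _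
  have horda : orderOf a = 4 := by
    have := orderOf_eq_prime_pow (x := a) (p := 2) (n := 1) (by simpa using ha2)
      (by simpa using ha4)
    simpa using this
  have hord : orderOf a' = 4 := by
    rw [← horda]
    exact (Subgroup.orderOf_mk a ha)
  obtain ⟨c, hc4, hw⟩ := stem_dihedralLike τ hτ a' x' hgen hrel 4 hn
  have hle : τ.ker ≤ Subgroup.zpowers (c ^ 2) := by
    intro w hwk
    obtain ⟨k, hk, _, hak⟩ := hw w hwk
    have hdvd : (4 : ℤ) ∣ 2 * k := by
      have := (orderOf_dvd_iff_zpow_eq_one (x := a') (i := 2 * k)).2 hak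
      rwa [hord] at this
    obtain ⟨m, hm⟩ : (2 : ℤ) ∣ k := by omega
    refine ⟨m, ?_⟩
    show (c ^ 2) ^ m = w
    rw [hk, hm, zpow_mul, zpow_ofNat]
  have hc2 : (c ^ 2) ^ 2 = 1 := by rw [← pow_mul]; exact hc4
  calc Nat.card τ.ker ≤ Nat.card (Subgroup.zpowers (c ^ 2)) := Subgroup.card_le_of_le hle
    _ = orderOf (c ^ 2) := Nat.card_zpowers _
    _ ≤ 2 := Nat.le_of_dvd (by norm_num) (orderOf_dvd_of_pow_eq_one hc2)

/-- The kernel of a stem extension of `Z₃ × Z₃` has at most three elements. -/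
theorem z3z3_stem_bound {G : Type*} [Group G] (U : Subgroup G) (c d : G) (hc : c ∈ U) (hd : d ∈ U)
    (hU : ∀ g ∈ U, ∃ i j : ℕ, g = c ^ i * d ^ j) (hcd : c * d = d * c) (hd3 : d ^ 3 = 1)
    {Γ : Type*} [Group Γ] [Finite Γ] (τ : Γ →* U) (hτ : Cfsg.IsStemExtension τ) :
    Nat.card τ.ker ≤ 3 := by
  set c' : U := ⟨c, hc⟩ with hc'
  set d' : U := ⟨d, hd⟩ with hd'
  have hgen : Subgroup.closure ({c', d'} : Set U) = ⊤ := by
    rw [eq_top_iff]
    rintro ⟨g, hg⟩ _
    obtain ⟨i, j, rfl⟩ := hU g hg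
    have : (⟨c ^ i * d ^ j, hg⟩ : U) = c' ^ i * d' ^ j := by
      apply Subtype.ext
      simp [hc', hd']
    rw [this]
    apply Subgroup.mul_mem
    · exact Subgroup.pow_mem _ (Subgroup.subset_closure (by simp)) _
    · exact Subgroup.pow_mem _ (Subgroup.subset_closure (by simp)) _
  have hcomm : ∀ x y : U, x * y = y * x := by
    rintro ⟨g, hg⟩ ⟨h, hh⟩
    obtain ⟨i, j, rfl⟩ := hU g hg
    obtain ⟨k, l, rfl⟩ := hU h hh
    apply Subtype.ext
    show c ^ i * d ^ j * (c ^ k * d ^ l) = c ^ k * d ^ l * (c ^ i * d ^ j)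
    have h0 : Commute c d := hcd
    have h1 : Commute (d ^ j) (c ^ k) := (h0.pow_pow k j).symm
    have h2 : Commute (d ^ l) (c ^ i) := (h0.pow_pow i l).symm
    calc c ^ i * d ^ j * (c ^ k * d ^ l) = c ^ i * (d ^ j * c ^ k) * d ^ l := by group
      _ = c ^ i * (c ^ k * d ^ j) * d ^ l := by rw [h1.eq]
      _ = (c ^ i * c ^ k) * (d ^ j * d ^ l) := by group
      _ = (c ^ k * c ^ i) * (d ^ l * d ^ j) := by
          rw [← pow_add, ← pow_add, ← pow_add, ← pow_add, add_comm i k, add_comm j l]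
      _ = c ^ k * (c ^ i * d ^ l) * d ^ j := by group
      _ = c ^ k * (d ^ l * c ^ i) * d ^ j := by rw [h2.eq]
      _ = c ^ k * d ^ l * (c ^ i * d ^ j) := by group
  have hd3' : d' ^ 3 = 1 := by
    apply Subtype.ext
    simpa using hd3
  obtain ⟨e, he3, hle⟩ := stem_abelian_two_gen τ hτ hcomm c' d' hgen 3 hd3'
  calc Nat.card τ.ker ≤ Nat.card (Subgroup.zpowers e) := Subgroup.card_le_of_le hle
    _ = orderOf e := Nat.card_zpowers _
    _ ≤ 3 := Nat.le_of_dvd (by norm_num) (orderOf_dvd_of_pow_eq_one he3)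

end Cfsg.Agent.Lib.Helper53.SchurSix
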