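import Mathlib
import Cfsg.Prelude.Def_KGroupFacts
import Cfsg.Agent.Lib.Helper66.TransferPow
import Cfsg.Agent.Lib.Helper66.StemAbelian
import Cfsg.Agent.Lib.Helper53.SL2Multiplier
import Cfsg.Agent.Lib.Helper53.SchurBound

/-!
Universe-polymorphic transfer bound for the kernels of stem extensions, and the criterion
"Sylow 2-subgroup with multiplier of order at most two, odd Sylow subgroups cyclic" (helper53).
-/

set_option autoImplicit false

namespace Cfsg.Agent.Lib.Helper53.SchurSmall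

open Cfsg.Agent.Lib.Helper66 Cfsg.Agent.Lib.Helper53.SchurBound

universe u v

/-- Transfer, `p`-part version, for extensions in any universe. -/
theorem ppart_le' {Γ : Type u} {G : Type v} [Group Γ] [Group G] [Finite Γ] [Finite G]
    (σ : Γ →* G) (hσ : Cfsg.IsStemExtension σ) (U : Subgroup G) (p : ℕ) [Fact p.Prime]
    (hp : ¬ p ∣ U.index) (m : ℕ)
    (hD : Nat.card ↥(commutator ↥(U.comap σ) ⊓ (σ.subgroupComap U).ker) ≤ m) :
    p ^ (Nat.card σ.ker).factorization p ≤ m := by
  classical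
  have key : ∀ a ∈ σ.ker, ∃ h : a ^ U.index ∈ U.comap σ,
      (⟨a ^ U.index, h⟩ : ↥(U.comap σ)) ∈
        commutator ↥(U.comap σ) ⊓ (σ.subgroupComap U).ker := by
    intro a ha
    obtain ⟨h, hc⟩ := pow_index_mem_commutator_comap σ hσ.1 hσ.2.1 hσ.2.2 U a ha
    refine ⟨h, hc, ?_⟩
    show (⟨a ^ U.index, h⟩ : ↥(U.comap σ)) ∈ (σ.subgroupComap U).ker
    rw [MonoidHom.mem_ker]
    apply Subtype.ext
    show σ (a ^ U.index) = 1
    rw [map_pow, MonoidHom.mem_ker.mp ha, one_pow]
  obtain ⟨P⟩ : Nonempty (Sylow p σ.ker) := inferInstance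
  have hPcard : Nat.card P = p ^ (Nat.card σ.ker).factorization p := P.card_eq_multiplicity
  let f : P → ↥(commutator ↥(U.comap σ) ⊓ (σ.subgroupComap U).ker) :=
    fun a => ⟨⟨((a : σ.ker) : Γ) ^ U.index, (key _ (a : σ.ker).2).1⟩, (key _ (a : σ.ker).2).2⟩
  have hf : Function.Injective f := by
    intro a b hab
    have h1 : ((a : σ.ker) : Γ) ^ U.index = ((b : σ.ker) : Γ) ^ U.index :=
      congrArg (fun z => ((z.1 : ↥(U.comap σ)) : Γ)) hab
    have hcomm : Commute (a : σ.ker) ((b : σ.ker)⁻¹) := by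
      apply Subtype.ext
      have := Subgroup.mem_center_iff.1 (hσ.2.1 (a : σ.ker).2) (((b : σ.ker)⁻¹ : σ.ker) : Γ)
      exact this.symm
    have h2 : ((a * b⁻¹ : P) : σ.ker) ^ U.index = 1 := by
      show ((a : σ.ker) * (b : σ.ker)⁻¹) ^ U.index = 1
      rw [hcomm.mul_pow, inv_pow]
      have : (a : σ.ker) ^ U.index = (b : σ.ker) ^ U.index := Subtype.ext (by simpa using h1)
      rw [this, mul_inv_cancel]
    have h3 : (a * b⁻¹ : P) ^ U.index = 1 := Subtype.ext (by simpa using h2)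
    obtain ⟨k, hk⟩ := P.2 (a * b⁻¹)
    have hcop : Nat.Coprime (p ^ k) U.index :=
      Nat.Coprime.pow_left k ((Nat.Prime.coprime_iff_not_dvd (Fact.out)).2 hp)
    have h4 : orderOf (a * b⁻¹ : P) ∣ Nat.gcd (p ^ k) U.index :=
      Nat.dvd_gcd (orderOf_dvd_of_pow_eq_one hk) (orderOf_dvd_of_pow_eq_one h3)
    rw [hcop.gcd_eq_one, Nat.dvd_one, orderOf_eq_one_iff] at h4
    exact mul_inv_eq_one.1 h4
  calc p ^ (Nat.card σ.ker).factorization p = Nat.card P := hPcard.symm
    _ ≤ Nat.card ↥(commutator ↥(U.comap σ) ⊓ (σ.subgroupComap U).ker) :=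
        Nat.card_le_card_of_injective f hf
    _ ≤ m := hD

theorem subgroupComap_ker_le_center' {Γ : Type u} {G : Type v} [Group Γ] [Group G] (σ : Γ →* G)
    (hσ : Cfsg.IsStemExtension σ) (U : Subgroup G) :
    (σ.subgroupComap U).ker ≤ Subgroup.center ↥(U.comap σ) := by
  intro x hx
  rw [Subgroup.mem_center_iff]
  intro y
  have hx' : (x : Γ) ∈ σ.ker := by
    rw [MonoidHom.mem_ker] at hx ⊢
    exact congrArg Subtype.val hx
  have := Subgroup.mem_center_iff.mp (hσ.2.1 hx') (y : Γ)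
  exact Subtype.ext this

/-- For `U` cyclic the preimage is abelian. -/
theorem card_inf_le_one_of_cyclic {Γ : Type u} {G : Type v} [Group Γ] [Group G] (σ : Γ →* G)
    (hσ : Cfsg.IsStemExtension σ) (U : Subgroup G) [IsCyclic U] :
    Nat.card ↥(commutator ↥(U.comap σ) ⊓ (σ.subgroupComap U).ker) ≤ 1 := by
  have hcomm' : ∀ a b : ↥(U.comap σ), a * b = b * a := by
    have := MonoidHom.isMulCommutative_of_isCyclic_of_ker_le_center (σ.subgroupComap U)
      (subgroupComap_ker_le_center' σ hσ U)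
    intro a b; exact mul_comm' a b
  have : commutator ↥(U.comap σ) = ⊥ := by
    rw [commutator_def, Subgroup.commutator_eq_bot_iff_le_centralizer]
    intro a _
    rw [Subgroup.mem_centralizer_iff]
    intro b _
    exact hcomm' b a
  rw [this, bot_inf_eq]
  simp

/-- The kernel of a stem extension of an abelian group `⟨c, d⟩` with `d ^ k = 1` has at most `k`
elements. -/
theorem abelian_stem_bound {G : Type*} [Group G] (U : Subgroup G) (c d : G) (hc : c ∈ U)
    (hd : d ∈ U) (hU : ∀ g ∈ U, ∃ i j : ℕ, g = c ^ i * d ^ j) (hcd : c * d = d * c) (k : ℕ)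
    (hk : 0 < k) (hdk : d ^ k = 1)
    {Γ : Type*} [Group Γ] [Finite Γ] (τ : Γ →* U) (hτ : Cfsg.IsStemExtension τ) :
    Nat.card τ.ker ≤ k := by
  set c' : U := ⟨c, hc⟩ with hc'
  set d' : U := ⟨d, hd⟩ with hd'
  have hgen : Subgroup.closure ({c', d'} : Set U) = ⊤ := by
    rw [eq_top_iff]
    rintro ⟨g, hg⟩ _
    obtain ⟨i, j, rfl⟩ := hU g hg
    have : (⟨c ^ i * d ^ j, hg⟩ : U) = c' ^ i * d' ^ j := by
      apply Subtype.ext
      simp [hc', hd']
    rw [this]
    apply Subgroup.mul_mem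
    · exact Subgroup.pow_mem _ (Subgroup.subset_closure (by simp)) _
    · exact Subgroup.pow_mem _ (Subgroup.subset_closure (by simp)) _
  have hcomm : ∀ x y : U, x * y = y * x := by
    rintro ⟨g, hg⟩ ⟨h, hh⟩
    obtain ⟨i, j, rfl⟩ := hU g hg
    obtain ⟨k, l, rfl⟩ := hU h hh
    apply Subtype.ext
    show c ^ i * d ^ j * (c ^ k * d ^ l) = c ^ k * d ^ l * (c ^ i * d ^ j)
    have h0 : Commute c d := hcd
    have h1 : Commute (d ^ j) (c ^ k) := (h0.pow_pow k j).symm
    have h2 : Commute (d ^ l) (c ^ i) := (h0.pow_pow i l).symm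
    calc c ^ i * d ^ j * (c ^ k * d ^ l) = c ^ i * (d ^ j * c ^ k) * d ^ l := by group
      _ = c ^ i * (c ^ k * d ^ j) * d ^ l := by rw [h1.eq]
      _ = (c ^ i * c ^ k) * (d ^ j * d ^ l) := by group
      _ = (c ^ k * c ^ i) * (d ^ l * d ^ j) := by
          rw [← pow_add, ← pow_add, ← pow_add, ← pow_add, add_comm i k, add_comm j l]
      _ = c ^ k * (c ^ i * d ^ l) * d ^ j := by group
      _ = c ^ k * (d ^ l * c ^ i) * d ^ j := by rw [h2.eq]
      _ = c ^ k * d ^ l * (c ^ i * d ^ j) := by group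
  have hdk' : d' ^ k = 1 := by
    apply Subtype.ext
    simpa using hdk
  obtain ⟨e, hek, hle⟩ := stem_abelian_two_gen τ hτ hcomm c' d' hgen k hdk'
  have hord : orderOf e ∣ k := orderOf_dvd_of_pow_eq_one hek
  calc Nat.card τ.ker ≤ Nat.card (Subgroup.zpowers e) := Subgroup.card_le_of_le hle
    _ = orderOf e := Nat.card_zpowers _
    _ ≤ k := Nat.le_of_dvd hk hord

/-- If a subgroup of odd index has multiplier of order at most two and for every odd prime some
cyclic subgroup has index prime to it, every stem extension has kernel of order at most two. -/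
theorem card_ker_le_two {G : Type v} [Group G] [Finite G]
    (h2 : ∃ U : Subgroup G, ¬ 2 ∣ U.index ∧
      ∀ (Γ : Type v) [Group Γ] [Finite Γ] (τ : Γ →* U), Cfsg.IsStemExtension τ →
        Nat.card τ.ker ≤ 2)
    (hodd : ∀ p : ℕ, p.Prime → p ≠ 2 → ∃ U : Subgroup G, IsCyclic U ∧ ¬ p ∣ U.index)
    {Γ : Type u} [Group Γ] [Finite Γ] (σ : Γ →* G) (hσ : Cfsg.IsStemExtension σ) :
    Nat.card σ.ker ≤ 2 := by
  have hne : Nat.card σ.ker ≠ 0 := Nat.card_pos.ne'
  have hdvd : Nat.card σ.ker ∣ 2 := by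
    rw [Nat.dvd_iff_prime_pow_dvd_dvd]
    intro p k hp hk
    haveI : Fact p.Prime := ⟨hp⟩
    have hkv : k ≤ (Nat.card σ.ker).factorization p :=
      (hp.pow_dvd_iff_le_factorization hne).1 hk
    have hpow : p ^ k ≤ p ^ (Nat.card σ.ker).factorization p :=
      Nat.pow_le_pow_right hp.pos hkv
    by_cases hp2 : p = 2
    · subst hp2
      obtain ⟨U, hU, hst⟩ := h2
      have hD := card_commutator_inf_ker_le 2 hst (σ.subgroupComap U)
        (σ.subgroupComap_surjective_of_surjective U hσ.1) (subgroupComap_ker_le_center' σ hσ U)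
      have := ppart_le' σ hσ U 2 hU 2 hD
      have hk1 : k ≤ 1 := by
        by_contra hcon
        have : 2 ^ 2 ≤ 2 ^ k := Nat.pow_le_pow_right (by norm_num) (by omega)
        omega
      interval_cases k <;> norm_num
    · obtain ⟨U, hUc, hU⟩ := hodd p hp hp2
      haveI := hUc
      have hD := card_inf_le_one_of_cyclic σ hσ U
      have := ppart_le' σ hσ U p hU 1 hD
      have hk0 : k = 0 := by
        by_contra hcon
        have : p ^ 1 ≤ p ^ k := Nat.pow_le_pow_right hp.pos (by omega)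
        rw [pow_one] at this
        have := hp.two_le
        omega
      subst hk0
      simp
  exact Nat.le_of_dvd (by norm_num) hdvd

end Cfsg.Agent.Lib.Helper53.SchurSmall
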