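import Mathlib
import Cfsg.Prelude.Def_KGroupFacts
import Cfsg.Agent.Lib.Helper53.SchurSix
import Cfsg.Agent.Lib.Helper53.SchurSmall

/-!
The kernels of the stem extensions of `A₄` and `A₅` have order at most two (helper53).
-/

set_option autoImplicit false

namespace Cfsg.Agent.Lib.Helper53.A45

open Equiv Cfsg.Agent.Lib.Helper53.SchurSix Cfsg.Agent.Lib.Helper53.SchurSmall

universe u

/-! ### degree 4 -/

section deg4

def pc4 : Perm (Fin 4) := swap 0 1 * swap 2 3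
def pd4 : Perm (Fin 4) := swap 0 2 * swap 1 3
def pt4 : Perm (Fin 4) := swap 0 1 * swap 1 2

theorem pc4_mem : pc4 ∈ alternatingGroup (Fin 4) := by
  rw [Equiv.Perm.mem_alternatingGroup]; decide
theorem pd4_mem : pd4 ∈ alternatingGroup (Fin 4) := by
  rw [Equiv.Perm.mem_alternatingGroup]; decide
theorem pt4_mem : pt4 ∈ alternatingGroup (Fin 4) := by
  rw [Equiv.Perm.mem_alternatingGroup]; decide

def gc4 : alternatingGroup (Fin 4) := ⟨pc4, pc4_mem⟩
def gd4 : alternatingGroup (Fin 4) := ⟨pd4, pd4_mem⟩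
def gt4 : alternatingGroup (Fin 4) := ⟨pt4, pt4_mem⟩

/-- the four-group -/
def hv4 (p : Fin 2 × Fin 2) : alternatingGroup (Fin 4) := gc4 ^ p.1.val * gd4 ^ p.2.val

set_option maxRecDepth 100000 in
theorem hv4_one : ∃ r, hv4 r = 1 := by decide
set_option maxRecDepth 100000 in
theorem hv4_mul : ∀ p q, ∃ r, hv4 p * hv4 q = hv4 r := by decide
set_option maxRecDepth 100000 in
theorem hv4_inv : ∀ p, ∃ r, hv4 p * hv4 r = 1 := by decide
set_option maxRecDepth 100000 in
theorem hv4_inj : ∀ p q, hv4 p = hv4 q → p = q := by decide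

set_option maxRecDepth 100000 in
theorem rels4 : gc4 * gd4 = gd4 * gc4 ∧ gd4 ^ 2 = 1 ∧ gt4 ^ 3 = 1 ∧ gt4 ≠ 1 := by decide

/-- the Sylow 2-subgroup -/
def V4 : Subgroup (alternatingGroup (Fin 4)) := rangeSubgroup hv4 hv4_one hv4_mul hv4_inv

theorem card_V4 : Nat.card V4 = 4 := by
  have := card_rangeSubgroup hv4 hv4_one hv4_mul hv4_inv (fun p q h => hv4_inj p q h)
  rw [V4, this]; rfl

theorem card_A4 : Nat.card (alternatingGroup (Fin 4)) = 12 := by
  have h := two_mul_nat_card_alternatingGroup (α := Fin 4)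
  rw [Nat.card_eq_fintype_card (α := Perm (Fin 4)), Fintype.card_perm, Fintype.card_fin] at h
  have : (4).factorial = 2 * 12 := by decide
  omega

theorem index_V4 : V4.index = 3 := by
  have h := V4.card_mul_index
  rw [card_V4, card_A4] at h
  omega

theorem orderOf_gt4 : orderOf gt4 = 3 := by
  haveI : Fact (Nat.Prime 3) := ⟨by norm_num⟩
  exact orderOf_eq_prime rels4.2.2.1 rels4.2.2.2

theorem index_T4 : (Subgroup.zpowers gt4).index = 4 := by
  have h := (Subgroup.zpowers gt4).card_mul_index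
  rw [Nat.card_zpowers, orderOf_gt4, card_A4] at h
  omega

theorem stem_V4 {Γ : Type*} [Group Γ] [Finite Γ] (τ : Γ →* V4)
    (hτ : Cfsg.IsStemExtension τ) : Nat.card τ.ker ≤ 2 := by
  refine abelian_stem_bound V4 gc4 gd4 ⟨(1, 0), by simp [hv4]⟩ ⟨(0, 1), by simp [hv4]⟩ ?_
    rels4.1 2 (by norm_num) rels4.2.1 τ hτ
  rintro g ⟨p, rfl⟩
  exact ⟨p.1.val, p.2.val, rfl⟩

theorem prime_dvd_12 {p : ℕ} (hp : p.Prime) (h : p ∣ 12) : p = 2 ∨ p = 3 := by
  rw [show (12 : ℕ) = 2 ^ 2 * 3 by norm_num] at h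
  rcases (Nat.Prime.dvd_mul hp).1 h with h | h
  · exact Or.inl ((Nat.prime_dvd_prime_iff_eq hp Nat.prime_two).1 (hp.dvd_of_dvd_pow h))
  · exact Or.inr ((Nat.prime_dvd_prime_iff_eq hp Nat.prime_three).1 h)

/-- the kernel of every stem extension of `A₄` has order at most two -/
theorem card_ker_le_two_A4 {Γ : Type u} [Group Γ] [Finite Γ] (σ : Γ →* alternatingGroup (Fin 4))
    (hσ : Cfsg.IsStemExtension σ) : Nat.card σ.ker ≤ 2 := by
  refine card_ker_le_two ⟨V4, by rw [index_V4]; norm_num, fun Γ' _ _ τ hτ => stem_V4 τ hτ⟩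
    ?_ σ hσ
  intro p hp hp2
  by_cases h3 : p = 3
  · subst h3
    exact ⟨Subgroup.zpowers gt4, inferInstance, by rw [index_T4]; norm_num⟩
  · refine ⟨⊥, inferInstance, ?_⟩
    rw [Subgroup.index_bot, card_A4]
    intro hdvd
    rcases prime_dvd_12 hp hdvd with h | h <;> omega

end deg4

/-! ### degree 5 -/

section deg5

def pc5 : Perm (Fin 5) := swap 0 1 * swap 2 3
def pd5 : Perm (Fin 5) := swap 0 2 * swap 1 3
def pt5 : Perm (Fin 5) := swap 0 1 * swap 1 2
def pu5 : Perm (Fin 5) := swap 0 1 * swap 1 2 * swap 2 3 * swap 3 4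

theorem pc5_mem : pc5 ∈ alternatingGroup (Fin 5) := by
  rw [Equiv.Perm.mem_alternatingGroup]; decide
theorem pd5_mem : pd5 ∈ alternatingGroup (Fin 5) := by
  rw [Equiv.Perm.mem_alternatingGroup]; decide
theorem pt5_mem : pt5 ∈ alternatingGroup (Fin 5) := by
  rw [Equiv.Perm.mem_alternatingGroup]; decide
theorem pu5_mem : pu5 ∈ alternatingGroup (Fin 5) := by
  rw [Equiv.Perm.mem_alternatingGroup]; decide

def gc5 : alternatingGroup (Fin 5) := ⟨pc5, pc5_mem⟩
def gd5 : alternatingGroup (Fin 5) := ⟨pd5, pd5_mem⟩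
def gt5 : alternatingGroup (Fin 5) := ⟨pt5, pt5_mem⟩
def gu5 : alternatingGroup (Fin 5) := ⟨pu5, pu5_mem⟩

/-- the four-group -/
def hv5 (p : Fin 2 × Fin 2) : alternatingGroup (Fin 5) := gc5 ^ p.1.val * gd5 ^ p.2.val

set_option maxRecDepth 100000 in
theorem hv5_one : ∃ r, hv5 r = 1 := by decide
set_option maxRecDepth 100000 in
theorem hv5_mul : ∀ p q, ∃ r, hv5 p * hv5 q = hv5 r := by decide
set_option maxRecDepth 100000 in
theorem hv5_inv : ∀ p, ∃ r, hv5 p * hv5 r = 1 := by decide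
set_option maxRecDepth 100000 in
theorem hv5_inj : ∀ p q, hv5 p = hv5 q → p = q := by decide

set_option maxRecDepth 100000 in
theorem rels5 : gc5 * gd5 = gd5 * gc5 ∧ gd5 ^ 2 = 1 ∧ gt5 ^ 3 = 1 ∧ gt5 ≠ 1 ∧
    gu5 ^ 5 = 1 ∧ gu5 ≠ 1 := by decide

/-- the Sylow 2-subgroup -/
def V5 : Subgroup (alternatingGroup (Fin 5)) := rangeSubgroup hv5 hv5_one hv5_mul hv5_inv

theorem card_V5 : Nat.card V5 = 4 := by
  have := card_rangeSubgroup hv5 hv5_one hv5_mul hv5_inv (fun p q h => hv5_inj p q h)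
  rw [V5, this]; rfl

theorem card_A5 : Nat.card (alternatingGroup (Fin 5)) = 60 := by
  have h := two_mul_nat_card_alternatingGroup (α := Fin 5)
  rw [Nat.card_eq_fintype_card (α := Perm (Fin 5)), Fintype.card_perm, Fintype.card_fin] at h
  have : (5).factorial = 2 * 60 := by decide
  omega

theorem index_V5 : V5.index = 15 := by
  have h := V5.card_mul_index
  rw [card_V5, card_A5] at h
  omega

theorem orderOf_gt5 : orderOf gt5 = 3 := by
  haveI : Fact (Nat.Prime 3) := ⟨by norm_num⟩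
  exact orderOf_eq_prime rels5.2.2.1 rels5.2.2.2.1

theorem orderOf_gu5 : orderOf gu5 = 5 := by
  haveI : Fact (Nat.Prime 5) := ⟨by norm_num⟩
  exact orderOf_eq_prime rels5.2.2.2.2.1 rels5.2.2.2.2.2

theorem index_T5 : (Subgroup.zpowers gt5).index = 20 := by
  have h := (Subgroup.zpowers gt5).card_mul_index
  rw [Nat.card_zpowers, orderOf_gt5, card_A5] at h
  omega

theorem index_U5 : (Subgroup.zpowers gu5).index = 12 := by
  have h := (Subgroup.zpowers gu5).card_mul_index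
  rw [Nat.card_zpowers, orderOf_gu5, card_A5] at h
  omega

theorem stem_V5 {Γ : Type*} [Group Γ] [Finite Γ] (τ : Γ →* V5)
    (hτ : Cfsg.IsStemExtension τ) : Nat.card τ.ker ≤ 2 := by
  refine abelian_stem_bound V5 gc5 gd5 ⟨(1, 0), by simp [hv5]⟩ ⟨(0, 1), by simp [hv5]⟩ ?_
    rels5.1 2 (by norm_num) rels5.2.1 τ hτ
  rintro g ⟨p, rfl⟩
  exact ⟨p.1.val, p.2.val, rfl⟩

theorem prime_dvd_60 {p : ℕ} (hp : p.Prime) (h : p ∣ 60) : p = 2 ∨ p = 3 ∨ p = 5 := by
  rw [show (60 : ℕ) = 2 ^ 2 * 3 * 5 by norm_num] at h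
  rcases (Nat.Prime.dvd_mul hp).1 h with h | h
  · rcases (Nat.Prime.dvd_mul hp).1 h with h | h
    · exact Or.inl ((Nat.prime_dvd_prime_iff_eq hp Nat.prime_two).1 (hp.dvd_of_dvd_pow h))
    · exact Or.inr (Or.inl ((Nat.prime_dvd_prime_iff_eq hp Nat.prime_three).1 h))
  · exact Or.inr (Or.inr ((Nat.prime_dvd_prime_iff_eq hp (by norm_num)).1 h))

/-- the kernel of every stem extension of `A₅` has order at most two -/
theorem card_ker_le_two_A5 {Γ : Type u} [Group Γ] [Finite Γ] (σ : Γ →* alternatingGroup (Fin 5))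
    (hσ : Cfsg.IsStemExtension σ) : Nat.card σ.ker ≤ 2 := by
  refine card_ker_le_two ⟨V5, by rw [index_V5]; norm_num, fun Γ' _ _ τ hτ => stem_V5 τ hτ⟩
    ?_ σ hσ
  intro p hp hp2
  by_cases h3 : p = 3
  · subst h3
    exact ⟨Subgroup.zpowers gt5, inferInstance, by rw [index_T5]; norm_num⟩
  by_cases h5 : p = 5
  · subst h5
    exact ⟨Subgroup.zpowers gu5, inferInstance, by rw [index_U5]; norm_num⟩
  · refine ⟨⊥, inferInstance, ?_⟩
    rw [Subgroup.index_bot, card_A5]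
    intro hdvd
    rcases prime_dvd_60 hp hdvd with h | h | h <;> omega

end deg5

end Cfsg.Agent.Lib.Helper53.A45
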