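import Mathlib
import Cfsg.Prelude.Def_KGroupFacts
import Cfsg.Agent.Lib.Helper53.SchurSix

/-!
Sylow-type subgroups of `A₆` and `A₇` and the resulting bound for the kernels of their stem
extensions (helper53).  Generated from one template for the two degrees.
-/

set_option autoImplicit false

namespace Cfsg.Agent.Lib.Helper53.A67

open Equiv Cfsg.Agent.Lib.Helper53.SchurSix

/-! ### degree 6 -/

section deg6

def pa6 : Perm (Fin 6) := swap 0 1 * swap 1 2 * swap 2 3 * swap 4 5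
def px6 : Perm (Fin 6) := swap 0 2 * swap 4 5
def pc6 : Perm (Fin 6) := swap 0 1 * swap 1 2
def pd6 : Perm (Fin 6) := swap 3 4 * swap 4 5
def pt6 : Perm (Fin 6) := swap 0 1 * swap 1 2 * swap 2 3 * swap 3 4

theorem pa6_mem : pa6 ∈ alternatingGroup (Fin 6) := by
  rw [Equiv.Perm.mem_alternatingGroup]; decide
theorem px6_mem : px6 ∈ alternatingGroup (Fin 6) := by
  rw [Equiv.Perm.mem_alternatingGroup]; decide
theorem pc6_mem : pc6 ∈ alternatingGroup (Fin 6) := by
  rw [Equiv.Perm.mem_alternatingGroup]; decide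
theorem pd6_mem : pd6 ∈ alternatingGroup (Fin 6) := by
  rw [Equiv.Perm.mem_alternatingGroup]; decide
theorem pt6_mem : pt6 ∈ alternatingGroup (Fin 6) := by
  rw [Equiv.Perm.mem_alternatingGroup]; decide

def ga6 : alternatingGroup (Fin 6) := ⟨pa6, pa6_mem⟩
def gx6 : alternatingGroup (Fin 6) := ⟨px6, px6_mem⟩
def gc6 : alternatingGroup (Fin 6) := ⟨pc6, pc6_mem⟩
def gd6 : alternatingGroup (Fin 6) := ⟨pd6, pd6_mem⟩
def gt6 : alternatingGroup (Fin 6) := ⟨pt6, pt6_mem⟩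

/-- the dihedral subgroup of order eight -/
def hs6 (p : Fin 4 × Fin 2) : alternatingGroup (Fin 6) := ga6 ^ p.1.val * gx6 ^ p.2.val
/-- the elementary abelian subgroup of order nine -/
def ht6 (p : Fin 3 × Fin 3) : alternatingGroup (Fin 6) := gc6 ^ p.1.val * gd6 ^ p.2.val

set_option maxRecDepth 100000 in
theorem hs6_one : ∃ r, hs6 r = 1 := by decide
set_option maxRecDepth 100000 in
theorem hs6_mul : ∀ p q, ∃ r, hs6 p * hs6 q = hs6 r := by decide
set_option maxRecDepth 100000 in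
theorem hs6_inv : ∀ p, ∃ r, hs6 p * hs6 r = 1 := by decide
set_option maxRecDepth 100000 in
theorem hs6_inj : ∀ p q, hs6 p = hs6 q → p = q := by decide
set_option maxRecDepth 100000 in
theorem ht6_one : ∃ r, ht6 r = 1 := by decide
set_option maxRecDepth 100000 in
theorem ht6_mul : ∀ p q, ∃ r, ht6 p * ht6 q = ht6 r := by decide
set_option maxRecDepth 100000 in
theorem ht6_inv : ∀ p, ∃ r, ht6 p * ht6 r = 1 := by decide
set_option maxRecDepth 100000 in
theorem ht6_inj : ∀ p q, ht6 p = ht6 q → p = q := by decide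

set_option maxRecDepth 100000 in
theorem rels6 : gx6 * gx6 = 1 ∧ gx6 * ga6 * gx6 = ga6⁻¹ ∧ ga6 ^ 4 = 1 ∧ ga6 ^ 2 ≠ 1 ∧
    gc6 * gd6 = gd6 * gc6 ∧ gd6 ^ 3 = 1 ∧ gt6 ^ 5 = 1 ∧ gt6 ≠ 1 := by decide

/-- the Sylow 2-subgroup -/
def U26 : Subgroup (alternatingGroup (Fin 6)) := rangeSubgroup hs6 hs6_one hs6_mul hs6_inv
/-- the Sylow 3-subgroup -/
def U36 : Subgroup (alternatingGroup (Fin 6)) := rangeSubgroup ht6 ht6_one ht6_mul ht6_inv

theorem card_U26 : Nat.card U26 = 8 := by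
  have := card_rangeSubgroup hs6 hs6_one hs6_mul hs6_inv (fun p q h => hs6_inj p q h)
  rw [U26, this]; rfl

theorem card_U36 : Nat.card U36 = 9 := by
  have := card_rangeSubgroup ht6 ht6_one ht6_mul ht6_inv (fun p q h => ht6_inj p q h)
  rw [U36, this]; rfl

theorem card_A6 : Nat.card (alternatingGroup (Fin 6)) = 360 := by
  have h := two_mul_nat_card_alternatingGroup (α := Fin 6)
  rw [Nat.card_eq_fintype_card (α := Perm (Fin 6)), Fintype.card_perm, Fintype.card_fin] at h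
  have : (6).factorial = 2 * 360 := by decide
  omega

theorem index_U26 : U26.index = 45 := by
  have h := U26.card_mul_index
  rw [card_U26, card_A6] at h
  omega

theorem index_U36 : U36.index = 40 := by
  have h := U36.card_mul_index
  rw [card_U36, card_A6] at h
  omega

theorem orderOf_gt6 : orderOf gt6 = 5 := by
  haveI : Fact (Nat.Prime 5) := ⟨by norm_num⟩
  exact orderOf_eq_prime rels6.2.2.2.2.2.2.1 rels6.2.2.2.2.2.2.2

theorem index_U56 : (Subgroup.zpowers gt6).index = 72 := by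
  have h := (Subgroup.zpowers gt6).card_mul_index
  rw [Nat.card_zpowers, orderOf_gt6, card_A6] at h
  omega

theorem stem_U26 {Γ : Type*} [Group Γ] [Finite Γ] (τ : Γ →* U26)
    (hτ : Cfsg.IsStemExtension τ) : Nat.card τ.ker ≤ 2 := by
  refine d8_stem_bound U26 ga6 gx6 ⟨(1, 0), by simp [hs6]⟩ ⟨(0, 1), by simp [hs6]⟩ ?_
    rels6.1 rels6.2.1 rels6.2.2.1 rels6.2.2.2.1 τ hτ
  rintro g ⟨p, rfl⟩
  exact ⟨p.1.val, p.2.val, rfl⟩

theorem stem_U36 {Γ : Type*} [Group Γ] [Finite Γ] (τ : Γ →* U36)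
    (hτ : Cfsg.IsStemExtension τ) : Nat.card τ.ker ≤ 3 := by
  refine z3z3_stem_bound U36 gc6 gd6 ⟨(1, 0), by simp [ht6]⟩ ⟨(0, 1), by simp [ht6]⟩ ?_
    rels6.2.2.2.2.1 rels6.2.2.2.2.2.1 τ hτ
  rintro g ⟨p, rfl⟩
  exact ⟨p.1.val, p.2.val, rfl⟩

end deg6

/-! ### degree 7 -/

section deg7

def pa7 : Perm (Fin 7) := swap 0 1 * swap 1 2 * swap 2 3 * swap 4 5
def px7 : Perm (Fin 7) := swap 0 2 * swap 4 5
def pc7 : Perm (Fin 7) := swap 0 1 * swap 1 2
def pd7 : Perm (Fin 7) := swap 3 4 * swap 4 5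
def pt7 : Perm (Fin 7) := swap 0 1 * swap 1 2 * swap 2 3 * swap 3 4

theorem pa7_mem : pa7 ∈ alternatingGroup (Fin 7) := by
  rw [Equiv.Perm.mem_alternatingGroup]; decide
theorem px7_mem : px7 ∈ alternatingGroup (Fin 7) := by
  rw [Equiv.Perm.mem_alternatingGroup]; decide
theorem pc7_mem : pc7 ∈ alternatingGroup (Fin 7) := by
  rw [Equiv.Perm.mem_alternatingGroup]; decide
theorem pd7_mem : pd7 ∈ alternatingGroup (Fin 7) := by
  rw [Equiv.Perm.mem_alternatingGroup]; decide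
theorem pt7_mem : pt7 ∈ alternatingGroup (Fin 7) := by
  rw [Equiv.Perm.mem_alternatingGroup]; decide

def ga7 : alternatingGroup (Fin 7) := ⟨pa7, pa7_mem⟩
def gx7 : alternatingGroup (Fin 7) := ⟨px7, px7_mem⟩
def gc7 : alternatingGroup (Fin 7) := ⟨pc7, pc7_mem⟩
def gd7 : alternatingGroup (Fin 7) := ⟨pd7, pd7_mem⟩
def gt7 : alternatingGroup (Fin 7) := ⟨pt7, pt7_mem⟩

/-- the dihedral subgroup of order eight -/
def hs7 (p : Fin 4 × Fin 2) : alternatingGroup (Fin 7) := ga7 ^ p.1.val * gx7 ^ p.2.val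
/-- the elementary abelian subgroup of order nine -/
def ht7 (p : Fin 3 × Fin 3) : alternatingGroup (Fin 7) := gc7 ^ p.1.val * gd7 ^ p.2.val

set_option maxRecDepth 100000 in
theorem hs7_one : ∃ r, hs7 r = 1 := by decide
set_option maxRecDepth 100000 in
theorem hs7_mul : ∀ p q, ∃ r, hs7 p * hs7 q = hs7 r := by decide
set_option maxRecDepth 100000 in
theorem hs7_inv : ∀ p, ∃ r, hs7 p * hs7 r = 1 := by decide
set_option maxRecDepth 100000 in
theorem hs7_inj : ∀ p q, hs7 p = hs7 q → p = q := by decide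
set_option maxRecDepth 100000 in
theorem ht7_one : ∃ r, ht7 r = 1 := by decide
set_option maxRecDepth 100000 in
theorem ht7_mul : ∀ p q, ∃ r, ht7 p * ht7 q = ht7 r := by decide
set_option maxRecDepth 100000 in
theorem ht7_inv : ∀ p, ∃ r, ht7 p * ht7 r = 1 := by decide
set_option maxRecDepth 100000 in
theorem ht7_inj : ∀ p q, ht7 p = ht7 q → p = q := by decide

set_option maxRecDepth 100000 in
theorem rels7 : gx7 * gx7 = 1 ∧ gx7 * ga7 * gx7 = ga7⁻¹ ∧ ga7 ^ 4 = 1 ∧ ga7 ^ 2 ≠ 1 ∧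
    gc7 * gd7 = gd7 * gc7 ∧ gd7 ^ 3 = 1 ∧ gt7 ^ 5 = 1 ∧ gt7 ≠ 1 := by decide

/-- the Sylow 2-subgroup -/
def U27 : Subgroup (alternatingGroup (Fin 7)) := rangeSubgroup hs7 hs7_one hs7_mul hs7_inv
/-- the Sylow 3-subgroup -/
def U37 : Subgroup (alternatingGroup (Fin 7)) := rangeSubgroup ht7 ht7_one ht7_mul ht7_inv

theorem card_U27 : Nat.card U27 = 8 := by
  have := card_rangeSubgroup hs7 hs7_one hs7_mul hs7_inv (fun p q h => hs7_inj p q h)
  rw [U27, this]; rfl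

theorem card_U37 : Nat.card U37 = 9 := by
  have := card_rangeSubgroup ht7 ht7_one ht7_mul ht7_inv (fun p q h => ht7_inj p q h)
  rw [U37, this]; rfl

theorem card_A7 : Nat.card (alternatingGroup (Fin 7)) = 2520 := by
  have h := two_mul_nat_card_alternatingGroup (α := Fin 7)
  rw [Nat.card_eq_fintype_card (α := Perm (Fin 7)), Fintype.card_perm, Fintype.card_fin] at h
  have : (7).factorial = 2 * 2520 := by decide
  omega

theorem index_U27 : U27.index = 315 := by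
  have h := U27.card_mul_index
  rw [card_U27, card_A7] at h
  omega

theorem index_U37 : U37.index = 280 := by
  have h := U37.card_mul_index
  rw [card_U37, card_A7] at h
  omega

theorem orderOf_gt7 : orderOf gt7 = 5 := by
  haveI : Fact (Nat.Prime 5) := ⟨by norm_num⟩
  exact orderOf_eq_prime rels7.2.2.2.2.2.2.1 rels7.2.2.2.2.2.2.2

theorem index_U57 : (Subgroup.zpowers gt7).index = 504 := by
  have h := (Subgroup.zpowers gt7).card_mul_index
  rw [Nat.card_zpowers, orderOf_gt7, card_A7] at h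
  omega

theorem stem_U27 {Γ : Type*} [Group Γ] [Finite Γ] (τ : Γ →* U27)
    (hτ : Cfsg.IsStemExtension τ) : Nat.card τ.ker ≤ 2 := by
  refine d8_stem_bound U27 ga7 gx7 ⟨(1, 0), by simp [hs7]⟩ ⟨(0, 1), by simp [hs7]⟩ ?_
    rels7.1 rels7.2.1 rels7.2.2.1 rels7.2.2.2.1 τ hτ
  rintro g ⟨p, rfl⟩
  exact ⟨p.1.val, p.2.val, rfl⟩

theorem stem_U37 {Γ : Type*} [Group Γ] [Finite Γ] (τ : Γ →* U37)
    (hτ : Cfsg.IsStemExtension τ) : Nat.card τ.ker ≤ 3 := by
  refine z3z3_stem_bound U37 gc7 gd7 ⟨(1, 0), by simp [ht7]⟩ ⟨(0, 1), by simp [ht7]⟩ ?_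
    rels7.2.2.2.2.1 rels7.2.2.2.2.2.1 τ hτ
  rintro g ⟨p, rfl⟩
  exact ⟨p.1.val, p.2.val, rfl⟩

end deg7

/-! ### the seven-cycle -/

def pu7 : Perm (Fin 7) := swap 0 1 * swap 1 2 * swap 2 3 * swap 3 4 * swap 4 5 * swap 5 6
theorem pu7_mem : pu7 ∈ alternatingGroup (Fin 7) := by
  rw [Equiv.Perm.mem_alternatingGroup]; decide
def gu7 : alternatingGroup (Fin 7) := ⟨pu7, pu7_mem⟩

set_option maxRecDepth 100000 in
theorem rels_u7 : gu7 ^ 7 = 1 ∧ gu7 ≠ 1 := by decide

theorem orderOf_gu7 : orderOf gu7 = 7 := by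
  haveI : Fact (Nat.Prime 7) := ⟨by norm_num⟩
  exact orderOf_eq_prime rels_u7.1 rels_u7.2

theorem index_U7 : (Subgroup.zpowers gu7).index = 360 := by
  have h := (Subgroup.zpowers gu7).card_mul_index
  rw [Nat.card_zpowers, orderOf_gu7, card_A7] at h
  omega

theorem prime_dvd_2520 {p : ℕ} (hp : p.Prime) (h : p ∣ 2520) : p = 2 ∨ p = 3 ∨ p = 5 ∨ p = 7 := by
  rw [show (2520 : ℕ) = 2 ^ 3 * 3 ^ 2 * 5 * 7 by norm_num] at h
  rcases (Nat.Prime.dvd_mul hp).1 h with h | h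
  · rcases (Nat.Prime.dvd_mul hp).1 h with h | h
    · rcases (Nat.Prime.dvd_mul hp).1 h with h | h
      · exact Or.inl ((Nat.prime_dvd_prime_iff_eq hp Nat.prime_two).1 (hp.dvd_of_dvd_pow h))
      · exact Or.inr (Or.inl ((Nat.prime_dvd_prime_iff_eq hp Nat.prime_three).1
          (hp.dvd_of_dvd_pow h)))
    · exact Or.inr (Or.inr (Or.inl ((Nat.prime_dvd_prime_iff_eq hp (by norm_num)).1 h)))
  · exact Or.inr (Or.inr (Or.inr ((Nat.prime_dvd_prime_iff_eq hp (by norm_num)).1 h)))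

theorem prime_dvd_360 {p : ℕ} (hp : p.Prime) (h : p ∣ 360) : p = 2 ∨ p = 3 ∨ p = 5 := by
  have h' : p ∣ 2520 := h.trans (by norm_num)
  rcases prime_dvd_2520 hp h' with h1 | h1 | h1 | h1
  · exact Or.inl h1
  · exact Or.inr (Or.inl h1)
  · exact Or.inr (Or.inr h1)
  · subst h1; norm_num at h

/-- the kernel of every stem extension of `A₆` has order dividing six -/
theorem card_ker_dvd_six_A6 (Γ : Type) [Group Γ] [Finite Γ] (σ : Γ →* alternatingGroup (Fin 6))
    (hσ : Cfsg.IsStemExtension σ) : Nat.card σ.ker ∣ 6 := by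
  refine card_ker_dvd_six ⟨U26, by rw [index_U26]; norm_num, fun Γ' _ _ τ hτ => stem_U26 τ hτ⟩
    ⟨U36, by rw [index_U36]; norm_num, fun Γ' _ _ τ hτ => stem_U36 τ hτ⟩ ?_ σ hσ
  intro p hp hp5
  by_cases h5 : p = 5
  · subst h5
    exact ⟨Subgroup.zpowers gt6, inferInstance, by rw [index_U56]; norm_num⟩
  · refine ⟨⊥, inferInstance, ?_⟩
    rw [Subgroup.index_bot, card_A6]
    intro hdvd
    rcases prime_dvd_360 hp hdvd with h | h | h <;> omega

/-- the kernel of every stem extension of `A₇` has order dividing six -/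
theorem card_ker_dvd_six_A7 (Γ : Type) [Group Γ] [Finite Γ] (σ : Γ →* alternatingGroup (Fin 7))
    (hσ : Cfsg.IsStemExtension σ) : Nat.card σ.ker ∣ 6 := by
  refine card_ker_dvd_six ⟨U27, by rw [index_U27]; norm_num, fun Γ' _ _ τ hτ => stem_U27 τ hτ⟩
    ⟨U37, by rw [index_U37]; norm_num, fun Γ' _ _ τ hτ => stem_U37 τ hτ⟩ ?_ σ hσ
  intro p hp hp5
  by_cases h5 : p = 5
  · subst h5
    exact ⟨Subgroup.zpowers gt7, inferInstance, by rw [index_U57]; norm_num⟩
  by_cases h7 : p = 7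
  · subst h7
    exact ⟨Subgroup.zpowers gu7, inferInstance, by rw [index_U7]; norm_num⟩
  · refine ⟨⊥, inferInstance, ?_⟩
    rw [Subgroup.index_bot, card_A7]
    intro hdvd
    rcases prime_dvd_2520 hp hdvd with h | h | h | h <;> omega

end Cfsg.Agent.Lib.Helper53.A67
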