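import Mathlib

/-!
A concrete, kernel-computable model of the field with `25` elements (helper53):
`K25 = 𝔽₅[s]/(s² - 2)` as pairs of residues.
-/

set_option autoImplicit false

namespace Cfsg.Agent.Lib.Helper53.SmallFields

/-- The field with 25 elements: pairs `(a, b)` standing for `a + b s`, `s² = 2`. -/
def K25 : Type := ZMod 5 × ZMod 5

instance instDecEqK25 : DecidableEq K25 := inferInstanceAs (DecidableEq (ZMod 5 × ZMod 5))
instance instFintypeK25 : Fintype K25 := inferInstanceAs (Fintype (ZMod 5 × ZMod 5))
instance instAddCommGroupK25 : AddCommGroup K25 :=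
  inferInstanceAs (AddCommGroup (ZMod 5 × ZMod 5))

instance instMulK25 : Mul K25 :=
  ⟨fun x y => (x.1 * y.1 + 2 * (x.2 * y.2), x.1 * y.2 + x.2 * y.1)⟩
instance instOneK25 : One K25 := ⟨((1 : ZMod 5), (0 : ZMod 5))⟩

/-- a primitive cube root of unity `ω = 2 + 3 s` -/
def w25 : K25 := ((2 : ZMod 5), (3 : ZMod 5))

theorem K25.ext {x y : K25} (h1 : x.1 = y.1) (h2 : x.2 = y.2) : x = y := Prod.ext h1 h2
theorem K25.mul_fst (x y : K25) : (x * y).1 = x.1 * y.1 + 2 * (x.2 * y.2) := rfl
theorem K25.mul_snd (x y : K25) : (x * y).2 = x.1 * y.2 + x.2 * y.1 := rfl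
theorem K25.add_fst (x y : K25) : (x + y).1 = x.1 + y.1 := rfl
theorem K25.add_snd (x y : K25) : (x + y).2 = x.2 + y.2 := rfl
theorem K25.one_fst : (1 : K25).1 = 1 := rfl
theorem K25.one_snd : (1 : K25).2 = 0 := rfl
theorem K25.zero_fst : (0 : K25).1 = 0 := rfl
theorem K25.zero_snd : (0 : K25).2 = 0 := rfl

instance instCommRingK25 : CommRing K25 :=
  { (inferInstance : AddCommGroup K25), (inferInstance : Mul K25), (inferInstance : One K25) with
    mul_assoc := fun a b c => K25.ext
      (by simp only [K25.mul_fst, K25.mul_snd]; ring) (by simp only [K25.mul_fst, K25.mul_snd]; ring)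
    one_mul := fun a => K25.ext
      (by simp only [K25.mul_fst, K25.mul_snd, K25.one_fst, K25.one_snd]; ring)
      (by simp only [K25.mul_fst, K25.mul_snd, K25.one_fst, K25.one_snd]; ring)
    mul_one := fun a => K25.ext
      (by simp only [K25.mul_fst, K25.mul_snd, K25.one_fst, K25.one_snd]; ring)
      (by simp only [K25.mul_fst, K25.mul_snd, K25.one_fst, K25.one_snd]; ring)
    left_distrib := fun a b c => K25.ext
      (by simp only [K25.mul_fst, K25.mul_snd, K25.add_fst, K25.add_snd]; ring)
      (by simp only [K25.mul_fst, K25.mul_snd, K25.add_fst, K25.add_snd]; ring)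
    right_distrib := fun a b c => K25.ext
      (by simp only [K25.mul_fst, K25.mul_snd, K25.add_fst, K25.add_snd]; ring)
      (by simp only [K25.mul_fst, K25.mul_snd, K25.add_fst, K25.add_snd]; ring)
    mul_comm := fun a b => K25.ext
      (by simp only [K25.mul_fst, K25.mul_snd]; ring) (by simp only [K25.mul_fst, K25.mul_snd]; ring)
    zero_mul := fun a => K25.ext
      (by simp only [K25.mul_fst, K25.mul_snd, K25.zero_fst, K25.zero_snd]; ring)
      (by simp only [K25.mul_fst, K25.mul_snd, K25.zero_fst, K25.zero_snd]; ring)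
    mul_zero := fun a => K25.ext
      (by simp only [K25.mul_fst, K25.mul_snd, K25.zero_fst, K25.zero_snd]; ring)
      (by simp only [K25.mul_fst, K25.mul_snd, K25.zero_fst, K25.zero_snd]; ring) }

instance instNontrivialK25 : Nontrivial K25 := ⟨⟨0, 1, by decide⟩⟩

set_option maxRecDepth 100000 in
instance instNoZeroDivisorsK25 : NoZeroDivisors K25 := ⟨by decide⟩

instance instIsDomainK25 : IsDomain K25 := NoZeroDivisors.to_isDomain K25

/-- The field structure on `K25`; not a global instance. -/
noncomputable def fieldK25 : Field K25 := Fintype.fieldOfDomain K25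

theorem fieldK25_toCommRing :
    (@Field.toCommRing K25 fieldK25) = (inferInstance : CommRing K25) := rfl

theorem card_K25 : Fintype.card K25 = 25 := rfl

end Cfsg.Agent.Lib.Helper53.SmallFields
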