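import Mathlib
import Cfsg.Agent.Lib.Helper53.K25

/-!
Explicit elements of `SL₃(𝔽₂₅)` generating `3.A₇` (helper53): lifts of Moore's generators of `A₇`
satisfying Moore's relations modulo scalars.  Everything here is checked by `decide`.
-/

set_option autoImplicit false

namespace Cfsg.Agent.Lib.Helper53.A7

open Matrix Cfsg.Agent.Lib.Helper53.SmallFields

/-- `SL₃(𝔽₂₅)`. -/
abbrev H25 := Matrix.SpecialLinearGroup (Fin 3) K25

def m0 : Matrix (Fin 3) (Fin 3) K25 := !![1,0,0;0,w25,0;0,0,w25*w25]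
def m1 : Matrix (Fin 3) (Fin 3) K25 := !![3,1,1;1,3,4;1,4,3]
def m2 : Matrix (Fin 3) (Fin 3) K25 := !![4,0,0;0,0,1;0,1,0]
def m3 : Matrix (Fin 3) (Fin 3) K25 := !![0,0,1;0,4,0;1,0,0]
def m4 : Matrix (Fin 3) (Fin 3) K25 := !![4,0,0;0,0,4;0,4,0]

theorem m0_det : m0.det = 1 := by rw [Matrix.det_fin_three]; decide
theorem m1_det : m1.det = 1 := by rw [Matrix.det_fin_three]; decide
theorem m2_det : m2.det = 1 := by rw [Matrix.det_fin_three]; decide
theorem m3_det : m3.det = 1 := by rw [Matrix.det_fin_three]; decide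
theorem m4_det : m4.det = 1 := by rw [Matrix.det_fin_three]; decide

def g0 : H25 := ⟨m0, m0_det⟩
def g1 : H25 := ⟨m1, m1_det⟩
def g2 : H25 := ⟨m2, m2_det⟩
def g3 : H25 := ⟨m3, m3_det⟩
def g4 : H25 := ⟨m4, m4_det⟩

/-- the lifts of Moore's generators -/
def Xs : ℕ → H25
  | 0 => g0
  | 1 => g1
  | 2 => g2
  | 3 => g3
  | _ => g4

set_option maxRecDepth 100000 in
theorem rel1 : ∃ c : K25, ((Xs 0) ^ 3).1 = c • (1 : H25).1 := by decide

set_option maxRecDepth 100000 in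
theorem rel2 : ∀ i < 5, 1 ≤ i → ∃ c : K25, ((Xs i) ^ 2).1 = c • (1 : H25).1 := by decide

set_option maxRecDepth 100000 in
theorem rel3 : ∀ i < 4, ∃ c : K25, ((Xs i * Xs (i + 1)) ^ 3).1 = c • (1 : H25).1 := by decide

set_option maxRecDepth 100000 in
theorem rel4 : ∀ i < 5, ∀ j < 5, i + 1 < j →
    ∃ c : K25, ((Xs i * Xs j) ^ 2).1 = c • (1 : H25).1 := by decide

/-- the central element `ω · 1` -/
def zm : Matrix (Fin 3) (Fin 3) K25 := !![w25,0,0;0,w25,0;0,0,w25]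
theorem zm_det : zm.det = 1 := by rw [Matrix.det_fin_three]; decide
def z0 : H25 := ⟨zm, zm_det⟩

set_option maxRecDepth 100000 in
theorem z0_ne_one : z0 ≠ 1 := by decide

set_option maxRecDepth 100000 in
theorem comm_eq : Xs 0 * (Xs 2 * Xs 3) = z0 * ((Xs 2 * Xs 3) * Xs 0) := by decide

end Cfsg.Agent.Lib.Helper53.A7
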