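import Mathlib

/-!
Concrete, kernel-computable models of the fields with `4` and `9` elements (helper53).
`K4 = 𝔽₂[ω]/(ω² + ω + 1)` and `K9 = 𝔽₃[i]/(i² + 1)`, both as pairs of residues.
-/

set_option autoImplicit false

namespace Cfsg.Agent.Lib.Helper53.SmallFields

/-- The field with four elements: pairs `(a, b)` standing for `a + bω`, `ω² = ω + 1`. -/
def K4 : Type := ZMod 2 × ZMod 2

/-- The field with nine elements: pairs `(a, b)` standing for `a + bi`, `i² = -1`. -/
def K9 : Type := ZMod 3 × ZMod 3

instance : DecidableEq K4 := inferInstanceAs (DecidableEq (ZMod 2 × ZMod 2))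
instance : Fintype K4 := inferInstanceAs (Fintype (ZMod 2 × ZMod 2))
instance : AddCommGroup K4 := inferInstanceAs (AddCommGroup (ZMod 2 × ZMod 2))
instance : DecidableEq K9 := inferInstanceAs (DecidableEq (ZMod 3 × ZMod 3))
instance : Fintype K9 := inferInstanceAs (Fintype (ZMod 3 × ZMod 3))
instance : AddCommGroup K9 := inferInstanceAs (AddCommGroup (ZMod 3 × ZMod 3))

instance : Mul K4 := ⟨fun x y => (x.1 * y.1 + x.2 * y.2, x.1 * y.2 + x.2 * y.1 + x.2 * y.2)⟩
instance : One K4 := ⟨((1 : ZMod 2), (0 : ZMod 2))⟩
instance : Mul K9 := ⟨fun x y => (x.1 * y.1 - x.2 * y.2, x.1 * y.2 + x.2 * y.1)⟩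
instance : One K9 := ⟨((1 : ZMod 3), (0 : ZMod 3))⟩

/-- `ω` -/
def ω : K4 := ((0 : ZMod 2), (1 : ZMod 2))
/-- `i` -/
def ι : K9 := ((0 : ZMod 3), (1 : ZMod 3))

instance : CommRing K4 :=
  { (inferInstance : AddCommGroup K4), (inferInstance : Mul K4), (inferInstance : One K4) with
    mul_assoc := by decide
    one_mul := by decide
    mul_one := by decide
    left_distrib := by decide
    right_distrib := by decide
    mul_comm := by decide
    zero_mul := by decide
    mul_zero := by decide }

instance : CommRing K9 :=
  { (inferInstance : AddCommGroup K9), (inferInstance : Mul K9), (inferInstance : One K9) with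
    mul_assoc := by decide
    one_mul := by decide
    mul_one := by decide
    left_distrib := by decide
    right_distrib := by decide
    mul_comm := by decide
    zero_mul := by decide
    mul_zero := by decide }

instance : Nontrivial K4 := ⟨⟨0, 1, by decide⟩⟩
instance : Nontrivial K9 := ⟨⟨0, 1, by decide⟩⟩

instance : NoZeroDivisors K4 := ⟨by decide⟩
instance : NoZeroDivisors K9 := ⟨by decide⟩

instance : IsDomain K4 := NoZeroDivisors.to_isDomain K4
instance : IsDomain K9 := NoZeroDivisors.to_isDomain K9

/-- The field structure on `K4`; not a global instance, to keep elaboration on the computable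
ring structure.  Activate it with `attribute [local instance]`. -/
noncomputable def fieldK4 : Field K4 := Fintype.fieldOfDomain K4
/-- The field structure on `K9`; not a global instance. -/
noncomputable def fieldK9 : Field K9 := Fintype.fieldOfDomain K9

theorem fieldK4_toCommRing : (@Field.toCommRing K4 fieldK4) = (inferInstance : CommRing K4) := rfl
theorem fieldK9_toCommRing : (@Field.toCommRing K9 fieldK9) = (inferInstance : CommRing K9) := rfl

theorem card_K4 : Fintype.card K4 = 4 := rfl
theorem card_K9 : Fintype.card K9 = 9 := rfl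

end Cfsg.Agent.Lib.Helper53.SmallFields
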