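import Mathlib
import Cfsg.Agent.Lib.Helper53.SmallFields

/-!
Explicit elements of `SL₃(𝔽₄)` realizing the embedding `PSL₂(9) ≅ A₆ ↪ PSL₃(4)` (helper53):
lifts `xt t`, `yt t` (`t ∈ 𝔽₉`) of the images of the root elements, satisfying the rank-one
Steinberg relations modulo scalars.  Everything here is checked by `decide`.
-/

set_option autoImplicit false

namespace Cfsg.Agent.Lib.Helper53.SL29

open Matrix Cfsg.Agent.Lib.Helper53.SmallFields

/-- `SL₃(𝔽₄)`. -/
abbrev H0 := Matrix.SpecialLinearGroup (Fin 3) K4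

def Sm : Matrix (Fin 3) (Fin 3) K4 := !![1,0,0;0,ω,0;0,0,ω+1]
def Tm : Matrix (Fin 3) (Fin 3) K4 := !![0,1,0;0,0,1;1,0,0]
def Sm' : Matrix (Fin 3) (Fin 3) K4 := !![ω,0,0;0,1,0;1,ω,ω+1]
def Tm' : Matrix (Fin 3) (Fin 3) K4 := !![1,1,1;1,0,0;0,0,1]

theorem Sm_det : Sm.det = 1 := by rw [Matrix.det_fin_three]; decide
theorem Tm_det : Tm.det = 1 := by rw [Matrix.det_fin_three]; decide
theorem Sm'_det : Sm'.det = 1 := by rw [Matrix.det_fin_three]; decide
theorem Tm'_det : Tm'.det = 1 := by rw [Matrix.det_fin_three]; decide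

def S0 : H0 := ⟨Sm, Sm_det⟩
def T0 : H0 := ⟨Tm, Tm_det⟩
def S0' : H0 := ⟨Sm', Sm'_det⟩
def T0' : H0 := ⟨Tm', Tm'_det⟩

/-- lift of the image of `(1 t; 0 1)` -/
def xt (t : K9) : H0 := S0 ^ t.1.val * T0 ^ t.2.val
/-- lift of the image of `(1 0; t 1)` -/
def yt (t : K9) : H0 := S0' ^ t.1.val * T0' ^ t.2.val

set_option maxRecDepth 100000 in
theorem xt_add : ∀ t u : K9, ∃ c : K4, (xt t * xt u).1 = c • (xt (t + u)).1 := by decide

set_option maxRecDepth 100000 in
theorem yt_add : ∀ t u : K9, ∃ c : K4, (yt t * yt u).1 = c • (yt (t + u)).1 := by decide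

set_option maxRecDepth 100000 in
theorem xt_rel : ∀ t s u : K9, t * s = 1 → ∃ c : K4,
    ((xt t * yt (-s) * xt t) * xt u).1 = c • (yt (-(s ^ 2 * u)) * (xt t * yt (-s) * xt t)).1 := by
  decide

set_option maxRecDepth 100000 in
theorem yt_rel : ∀ t s u : K9, t * s = 1 → ∃ c : K4,
    ((yt t * xt (-s) * yt t) * yt u).1 = c • (xt (-(s ^ 2 * u)) * (yt t * xt (-s) * yt t)).1 := by
  decide

/-- the central element `ω² · 1` -/
def zm : Matrix (Fin 3) (Fin 3) K4 := !![ω+1,0,0;0,ω+1,0;0,0,ω+1]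
theorem zm_det : zm.det = 1 := by rw [Matrix.det_fin_three]; decide
def z0 : H0 := ⟨zm, zm_det⟩

set_option maxRecDepth 100000 in
theorem z0_ne_one : z0 ≠ 1 := by decide

set_option maxRecDepth 100000 in
theorem xt_comm : xt 1 * xt ι = z0 * (xt ι * xt 1) := by decide

set_option maxRecDepth 100000 in
theorem z0_comm_S0 : z0 * S0 = S0 * z0 := by decide

theorem K9_decomp : ∀ t : K9, t = t.1.val • (1 : K9) + t.2.val • ι := by decide

end Cfsg.Agent.Lib.Helper53.SL29
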