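import Mathlib
import Cfsg.Agent.Lib.Helper53.SteinbergSL2
import Cfsg.Agent.Lib.Helper53.SteinbergSL2Iso
import Cfsg.Agent.S2426

/-!
Universal property of `SL₂(K)`, `K` a finite field, with respect to the rank-one Steinberg
relations (helper53): elements `X t`, `Y t` of a group satisfying `Steinberg.Data` define a
homomorphism from `SL₂(K)`.
-/

set_option autoImplicit false

namespace Cfsg.Agent.Lib.Helper53.Steinberg

/-- The rank-one Steinberg relators. -/
def stRels (K : Type*) [Field K] : Set (FreeGroup (Bool × K)) :=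
  ({g : FreeGroup (Bool × K) | ∃ (b : Bool) (t u : K), g = FreeGroup.of (b, t) * FreeGroup.of (b, u) * (FreeGroup.of (b, t + u))⁻¹} ∪
          {g | ∃ (b : Bool) (t u : K), t ≠ 0 ∧
            g = (FreeGroup.of (b, t) * FreeGroup.of (!b, -t⁻¹) * FreeGroup.of (b, t)) * FreeGroup.of (b, u) *
                  (FreeGroup.of (b, t) * FreeGroup.of (!b, -t⁻¹) * FreeGroup.of (b, t))⁻¹ * (FreeGroup.of (!b, -(t⁻¹ ^ 2 * u)))⁻¹})

variable {K : Type*} [Field K] [Finite K] {Γ : Type*} [Group Γ] {X Y : K → Γ}

theorem Data.exists_hom (d : Data X Y) :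
    ∃ φ : Matrix.SpecialLinearGroup (Fin 2) K →* Γ, (∀ t, φ (xM t) = X t) ∧ (∀ t, φ (yM t) = Y t) := by
  classical
  obtain ⟨e, hex, hey⟩ : ∃ e : PresentedGroup (stRels K) ≃* Matrix.SpecialLinearGroup (Fin 2) K,
      (∀ t : K, ((e (PresentedGroup.of (true, t)) : Matrix (Fin 2) (Fin 2) K)) = !![1, t; 0, 1]) ∧
      (∀ t : K, ((e (PresentedGroup.of (false, t)) : Matrix (Fin 2) (Fin 2) K)) = !![1, 0; t, 1]) :=
    Cfsg.Agent.S2426.result (K := K)
  let f : Bool × K → Γ := fun p => if p.1 then X p.2 else Y p.2
  have hf : ∀ r ∈ stRels K, FreeGroup.lift f r = 1 := by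
    intro r hr
    rcases hr with ⟨b, t, u, rfl⟩ | ⟨b, t, u, ht, rfl⟩
    · cases b
      · simp only [map_mul, map_inv, FreeGroup.lift_apply_of, f]
        simp only [Bool.false_eq_true, if_false]
        rw [d.addY, mul_inv_cancel]
      · simp only [map_mul, map_inv, FreeGroup.lift_apply_of, f]
        simp only [if_true]
        rw [d.addX, mul_inv_cancel]
    · cases b
      · simp only [map_mul, map_inv, FreeGroup.lift_apply_of, f, Bool.not_false]
        simp only [Bool.false_eq_true, if_false, if_true]
        have h := d.relY t u ht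
        rw [MulAut.conj_apply] at h
        unfold W at h
        rw [h, mul_inv_cancel]
      · simp only [map_mul, map_inv, FreeGroup.lift_apply_of, f, Bool.not_true]
        simp only [Bool.false_eq_true, if_false, if_true]
        have h := d.relX t u ht
        rw [MulAut.conj_apply] at h
        unfold W at h
        rw [h, mul_inv_cancel]
  let π : PresentedGroup (stRels K) →* Γ := PresentedGroup.toGroup hf
  have h1 : ∀ t, e (PresentedGroup.of (true, t)) = xM t := fun t => Subtype.ext (hex t)
  have h2 : ∀ t, e (PresentedGroup.of (false, t)) = yM t := fun t => Subtype.ext (hey t)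
  refine ⟨π.comp e.symm.toMonoidHom, ?_, ?_⟩
  · intro t
    rw [← h1 t]
    show π (e.symm (e _)) = _
    rw [MulEquiv.symm_apply_apply]
    show PresentedGroup.toGroup hf (PresentedGroup.of (true, t)) = _
    rw [PresentedGroup.toGroup.of]
    simp [f]
  · intro t
    rw [← h2 t]
    show π (e.symm (e _)) = _
    rw [MulEquiv.symm_apply_apply]
    show PresentedGroup.toGroup hf (PresentedGroup.of (false, t)) = _
    rw [PresentedGroup.toGroup.of]
    simp [f]

end Cfsg.Agent.Lib.Helper53.Steinberg
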