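import Mathlib
import Cfsg.Prelude.Def_KGroupFacts
import Cfsg.Agent.Lib.Helper53.SmallFields
import Cfsg.Agent.Lib.Helper53.SL29Elements
import Cfsg.Agent.Lib.Helper53.SteinbergSL2Lift
import Cfsg.Agent.Lib.Helper57.CardSL

/-!
The triple cover of `SL₂(9)` (helper53): the fibre product of `SL₂(9) → PSL₃(4) ← SL₃(4)` is a
stem extension of `SL₂(9)` with kernel of order three.
-/

set_option autoImplicit false

namespace Cfsg.Agent.Lib.Helper53.SL29

open Matrix Cfsg.Agent.Lib.Helper53.SmallFields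
open scoped commutatorElement

attribute [local instance] fieldK4 fieldK9

/-- Two elements of `SL_n` whose matrices differ by a scalar have the same image in `PSL_n`. -/
theorem mk_eq_of_smul {n : Type*} [Fintype n] [DecidableEq n] {R : Type*} [CommRing R]
    (A B : Matrix.SpecialLinearGroup n R) (h : ∃ c : R, A.1 = c • B.1) :
    (QuotientGroup.mk A : Matrix.SpecialLinearGroup n R ⧸
      Subgroup.center (Matrix.SpecialLinearGroup n R)) = QuotientGroup.mk B := by
  obtain ⟨c, hc⟩ := h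
  rw [eq_comm, QuotientGroup.eq, Matrix.SpecialLinearGroup.mem_center_iff]
  have h1 : (B⁻¹ * A).1 = c • (1 : Matrix n n R) := by
    have : (B⁻¹ * A).1 = (B⁻¹).1 * A.1 := rfl
    rw [this, hc, Matrix.mul_smul]
    have h2 : (B⁻¹).1 * B.1 = (B⁻¹ * B).1 := rfl
    rw [h2, inv_mul_cancel]
    rfl
  refine ⟨c, ?_, ?_⟩
  · have hd := (B⁻¹ * A).2
    rw [h1, Matrix.det_smul, Matrix.det_one, mul_one] at hd
    exact hd
  · rw [h1]
    ext i j
    simp [Matrix.scalar_apply, Matrix.diagonal_apply, Matrix.one_apply]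

/-- `PSL₃(𝔽₄)` -/
abbrev P0 := Matrix.SpecialLinearGroup (Fin 3) K4 ⧸
  Subgroup.center (Matrix.SpecialLinearGroup (Fin 3) K4)

def Xp (t : K9) : P0 := QuotientGroup.mk (xt t)
def Yp (t : K9) : P0 := QuotientGroup.mk (yt t)

theorem dataP : Steinberg.Data Xp Yp := by
  refine ⟨?_, ?_, ?_, ?_⟩
  · intro t u
    show (QuotientGroup.mk (xt t * xt u) : P0) = _
    exact mk_eq_of_smul _ _ (xt_add t u)
  · intro t u
    show (QuotientGroup.mk (yt t * yt u) : P0) = _
    exact mk_eq_of_smul _ _ (yt_add t u)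
  · intro t u ht
    rw [MulAut.conj_apply, mul_inv_eq_iff_eq_mul]
    show (QuotientGroup.mk ((xt t * yt (-t⁻¹) * xt t) * xt u) : P0) =
      QuotientGroup.mk (yt (-(t⁻¹ ^ 2 * u)) * (xt t * yt (-t⁻¹) * xt t))
    exact mk_eq_of_smul _ _ (xt_rel t t⁻¹ u (mul_inv_cancel₀ ht))
  · intro t u ht
    rw [MulAut.conj_apply, mul_inv_eq_iff_eq_mul]
    show (QuotientGroup.mk ((yt t * xt (-t⁻¹) * yt t) * yt u) : P0) =
      QuotientGroup.mk (xt (-(t⁻¹ ^ 2 * u)) * (yt t * xt (-t⁻¹) * yt t))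
    exact mk_eq_of_smul _ _ (yt_rel t t⁻¹ u (mul_inv_cancel₀ ht))

/-- `SL₂(𝔽₉)` -/
abbrev G9 := @Matrix.SpecialLinearGroup (Fin 2) _ _ K9 (@Field.toCommRing K9 fieldK9)

theorem card_center_H0 : Nat.card (Subgroup.center H0) = 3 := by
  have h := Cfsg.Agent.Lib.Helper57.card_center_SL (F := K4) 3 (by norm_num)
  rw [card_K4] at h
  exact h.trans (by norm_num)

theorem z0_mem_center : z0 ∈ Subgroup.center H0 := by
  rw [Matrix.SpecialLinearGroup.mem_center_iff]
  refine ⟨ω + 1, by decide, ?_⟩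
  ext i j
  fin_cases i <;> fin_cases j <;> rfl

/-- The triple cover of `SL₂(9)`. -/
theorem exists_stem_triple : ∃ (Γ : Type) (_ : Group Γ) (_ : Finite Γ) (σ : Γ →* G9),
    Cfsg.IsStemExtension σ ∧ Nat.card σ.ker = 3 := by
  obtain ⟨φ, hφx, _⟩ : ∃ φ : G9 →* P0, (∀ t, φ (Steinberg.xM t) = Xp t) ∧
      (∀ t, φ (Steinberg.yM t) = Yp t) := dataP.exists_hom
  -- the fibre product
  let E : Subgroup (G9 × H0) :=
    MonoidHom.eqLocus (φ.comp (MonoidHom.fst G9 H0))
      ((QuotientGroup.mk' (Subgroup.center H0)).comp (MonoidHom.snd G9 H0))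
  have hE : ∀ p : G9 × H0, p ∈ E ↔ φ p.1 = QuotientGroup.mk p.2 := fun p => Iff.rfl
  let σ : E →* G9 := (MonoidHom.fst G9 H0).comp E.subtype
  have hσ : ∀ x : E, σ x = x.1.1 := fun x => rfl
  haveI : Finite G9 := inferInstance
  haveI : Finite H0 := inferInstance
  haveI : Finite E := inferInstance
  have hsurj : Function.Surjective σ := by
    intro g
    obtain ⟨h, hh⟩ := QuotientGroup.mk_surjective (s := Subgroup.center H0) (φ g)
    exact ⟨⟨(g, h), (hE _).2 hh.symm⟩, rfl⟩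
  have hker : ∀ x : E, x ∈ σ.ker ↔ x.1.1 = 1 := fun x => MonoidHom.mem_ker
  have hker2 : ∀ x : E, x ∈ σ.ker → x.1.2 ∈ Subgroup.center H0 := by
    intro x hx
    have h1 : x.1.1 = 1 := (hker x).1 hx
    have h2 := (hE x.1).1 x.2
    rw [h1, map_one] at h2
    exact (QuotientGroup.eq_one_iff _).1 h2.symm
  have hcen : σ.ker ≤ Subgroup.center E := by
    intro x hx
    rw [Subgroup.mem_center_iff]
    intro y
    apply Subtype.ext
    apply Prod.ext
    · show y.1.1 * x.1.1 = x.1.1 * y.1.1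
      rw [(hker x).1 hx, one_mul, mul_one]
    · show y.1.2 * x.1.2 = x.1.2 * y.1.2
      exact Subgroup.mem_center_iff.1 (hker2 x hx) _
  -- the kernel is the centre of `SL₃(4)`
  have hcard : Nat.card σ.ker = 3 := by
    refine Eq.trans (Nat.card_congr (β := Subgroup.center H0) ?_) card_center_H0
    exact
      { toFun := fun x => ⟨x.1.1.2, hker2 x.1 x.2⟩
        invFun := fun c => ⟨⟨(1, c.1), by
          rw [hE]
          show φ 1 = QuotientGroup.mk c.1
          rw [map_one]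
          exact ((QuotientGroup.eq_one_iff _).2 c.2).symm⟩, by rw [hker]⟩
        left_inv := fun x => by
          apply Subtype.ext
          apply Subtype.ext
          apply Prod.ext
          · exact ((hker x.1).1 x.2).symm
          · rfl
        right_inv := fun c => rfl }
  -- a nontrivial kernel element which is a commutator
  have hm1 : ((Steinberg.xM (1 : K9), xt 1) : G9 × H0) ∈ E := by
    rw [hE]; exact hφx 1
  have hm2 : ((Steinberg.xM ι, xt ι) : G9 × H0) ∈ E := by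
    rw [hE]; exact hφx ι
  let γ₁ : E := ⟨_, hm1⟩
  let γ₂ : E := ⟨_, hm2⟩
  have hcomm2 : Steinberg.xM (1 : K9) * Steinberg.xM ι = Steinberg.xM ι * Steinberg.xM (1 : K9) := by
    rw [Steinberg.dataM.addX, Steinberg.dataM.addX, add_comm]
  have hk0 : (⁅γ₁, γ₂⁆ : E).1 = ((1 : G9), z0) := by
    apply Prod.ext
    · show ⁅Steinberg.xM (1 : K9), Steinberg.xM ι⁆ = 1
      rw [commutatorElement_eq_one_iff_mul_comm]
      exact hcomm2
    · show ⁅xt 1, xt ι⁆ = z0
      rw [commutatorElement_def, xt_comm]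
      group
  have hk0ker : ⁅γ₁, γ₂⁆ ∈ σ.ker := by
    rw [hker, hk0]
  have hk0ne : (⟨⁅γ₁, γ₂⁆, hk0ker⟩ : σ.ker) ≠ 1 := by
    intro h
    have h1 : (⁅γ₁, γ₂⁆ : E).1 = 1 := congrArg (fun z : σ.ker => (z.1 : E).1) h
    rw [hk0] at h1
    exact z0_ne_one (congrArg Prod.snd h1)
  have hcommle : σ.ker ≤ commutator E := by
    intro x hx
    haveI : Fact (Nat.Prime 3) := ⟨Nat.prime_three⟩
    have := mem_zpowers_of_prime_card (G := σ.ker) hcard hk0ne (g' := ⟨x, hx⟩)
    obtain ⟨k, hk⟩ := this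
    have hx' : x = ⁅γ₁, γ₂⁆ ^ k := by
      have := congrArg (fun z : σ.ker => (z : E)) hk
      simpa using this.symm
    rw [hx']
    exact Subgroup.zpow_mem _ (Subgroup.commutator_mem_commutator (Subgroup.mem_top _)
      (Subgroup.mem_top _)) k
  exact ⟨E, inferInstance, inferInstance, σ, ⟨hsurj, hcen, hcommle⟩, hcard⟩

end Cfsg.Agent.Lib.Helper53.SL29
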