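import Mathlib

/-!
Abstract identities used for the spin double cover of the alternating groups (helper53).
-/

set_option autoImplicit false

namespace Cfsg.Agent.Lib.Helper53.Spin

section ring

variable {R : Type*} [Ring R]

/-- two anticommuting square roots of one -/
theorem sq_of_anticomm {u v : R} (hu : u * u = 1) (hv : v * v = 1) (h : u * v + v * u = 0) :
    (u * v) * (u * v) = -1 := by
  have h1 : v * u = -(u * v) := eq_neg_of_add_eq_zero_right h
  calc u * v * (u * v) = u * (v * u) * v := by noncomm_ring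
    _ = -((u * u) * (v * v)) := by rw [h1]; noncomm_ring
    _ = -1 := by rw [hu, hv, one_mul]

theorem conj_of_anticomm {u w : R} (hu : u * u = 1) (h : u * w + w * u = 0) :
    u * w * u = -w := by
  have h1 : u * w = -(w * u) := eq_neg_of_add_eq_zero_left h
  rw [h1, neg_mul, mul_assoc, hu, mul_one]

/-- `uv + vu = -1`: the product has order three -/
theorem cube_of_adj {u v : R} (hu : u * u = 1) (hv : v * v = 1) (h : u * v + v * u = -1) :
    (u * v) * (u * v) * (u * v) = 1 := by
  have h1 : v * u = -1 - u * v := by rw [← h]; abel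
  have h2 : u * v * (u * v) = -(u * v) - 1 := by
    calc u * v * (u * v) = u * (v * u) * v := by noncomm_ring
      _ = -(u * v) - (u * u) * (v * v) := by rw [h1]; noncomm_ring
      _ = -(u * v) - 1 := by rw [hu, hv, one_mul]
  rw [h2]
  calc (-(u * v) - 1) * (u * v) = -(u * v * (u * v)) - u * v := by noncomm_ring
    _ = 1 := by rw [h2]; abel

theorem conj_of_adj {u v : R} (hu : u * u = 1) (h : u * v + v * u = -1) :
    u * v * u = -(u + v) := by
  have h1 : u * v = -1 - v * u := by rw [← h]; abel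
  rw [h1, sub_mul, mul_assoc, hu]
  noncomm_ring

end ring

section group

variable {G : Type*} [Group G]

/-- The key commutator computation: in a group with a central involution `m` (possibly trivial),
if `a² = m`, `g³ = 1` and `(ga)³ = δ` with `δ` central, `δ² = 1`, then `a` and `g a g⁻¹` commute up
to `m`. -/
theorem commutator_eq_of_rel (m δ g a : G) (hm : ∀ x, m * x = x * m) (hδ : ∀ x, δ * x = x * δ)
    (hm2 : m * m = 1) (hδ2 : δ * δ = 1) (ha : a * a = m) (hg : g * g * g = 1)
    (hga : g * a * (g * a) * (g * a) = δ) :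
    a * (g * a * g⁻¹) * a⁻¹ * (g * a * g⁻¹)⁻¹ = m := by
  have hml : ∀ x y, x * (m * y) = m * (x * y) := fun x y => by
    rw [← mul_assoc, ← hm x, mul_assoc]
  have hδl : ∀ x y, x * (δ * y) = δ * (x * y) := fun x y => by
    rw [← mul_assoc, ← hδ x, mul_assoc]
  have hainv : a⁻¹ = m * a := by
    apply inv_eq_of_mul_eq_one_right
    rw [hml, ha, hm2]
  have hgg : g⁻¹ * g⁻¹ = g := by
    calc g⁻¹ * g⁻¹ = g⁻¹ * g⁻¹ * (g * g * g) := by rw [hg, mul_one]
      _ = g := by group
  -- the key identity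
  have hP : a * g * a * g⁻¹ = δ * (m * (g⁻¹ * a * g)) := by
    have h1 : a * g * a = g⁻¹ * (g * a * (g * a) * (g * a)) * a⁻¹ * g⁻¹ := by group
    rw [hga, hainv] at h1
    calc a * g * a * g⁻¹ = g⁻¹ * δ * (m * a) * g⁻¹ * g⁻¹ := by rw [h1]
      _ = g⁻¹ * (δ * (m * (a * (g⁻¹ * g⁻¹)))) := by simp only [mul_assoc]
      _ = δ * (m * (g⁻¹ * a * g)) := by rw [hgg, hδl, hml, mul_assoc]
  have hPP : (a * g * a * g⁻¹) * (a * g * a * g⁻¹) = m := by
    rw [hP]
    calc δ * (m * (g⁻¹ * a * g)) * (δ * (m * (g⁻¹ * a * g)))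
        = (δ * δ) * ((m * m) * (g⁻¹ * (a * a) * g)) := by
          rw [hδl, hml]
          simp only [mul_assoc, mul_inv_cancel_left]
          rw [hδl m]
      _ = m := by
          rw [hδ2, hm2, ha, one_mul, one_mul, ← hm g⁻¹, mul_assoc, inv_mul_cancel, mul_one]
  calc a * (g * a * g⁻¹) * a⁻¹ * (g * a * g⁻¹)⁻¹
      = a * g * a * g⁻¹ * (a⁻¹ * (g * (a⁻¹ * g⁻¹))) := by group
    _ = a * g * a * g⁻¹ * (m * a * (g * (m * a * g⁻¹))) := by rw [hainv]
    _ = (m * m) * ((a * g * a * g⁻¹) * (a * g * a * g⁻¹)) := by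
        simp only [mul_assoc, hml]
    _ = m := by rw [hm2, one_mul, hPP]

end group

end Cfsg.Agent.Lib.Helper53.Spin
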