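import Mathlib
import Cfsg.Agent.Lib.Helper53.SpinAbstract

/-!
Lifts of Moore's generators of the alternating group in a ring containing anticommuting square
roots of `-1` in characteristic three (helper53).
-/

set_option autoImplicit false

namespace Cfsg.Agent.Lib.Helper53.Spin

section ring

variable {R : Type*} [Ring R]

/-- anticommuting square roots of `-1` in characteristic three -/
structure IsSpinFamily (n : ℕ) (ε : ℕ → R) : Prop where
  three : (3 : R) = 0
  sq : ∀ i < n, ε i * ε i = -1
  anti : ∀ i < n, ∀ j < n, i ≠ j → ε i * ε j + ε j * ε i = 0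

/-- the lift of the transposition `(i j)` -/
def T (ε : ℕ → R) (i j : ℕ) : R := ε i - ε j

variable {n : ℕ} {ε : ℕ → R}

theorem T_add (i j k : ℕ) : T ε i j + T ε j k = T ε i k := by
  unfold T; abel

theorem neg_two_eq_one (h3 : (3 : R) = 0) : (-1 : R) + -1 = 1 := by
  calc (-1 : R) + -1 = 1 - 3 := by norm_num
    _ = 1 := by rw [h3, sub_zero]

theorem T_sq (h : IsSpinFamily n ε) {i j : ℕ} (hi : i < n) (hj : j < n) (hij : i ≠ j) :
    T ε i j * T ε i j = 1 := by
  unfold T
  calc (ε i - ε j) * (ε i - ε j)
      = ε i * ε i - (ε i * ε j + ε j * ε i) + ε j * ε j := by noncomm_ring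
    _ = 1 := by
        rw [h.sq i hi, h.sq j hj, h.anti i hi j hj hij, sub_zero]
        exact neg_two_eq_one h.three

theorem T_anti (h : IsSpinFamily n ε) {i j k l : ℕ} (hi : i < n) (hj : j < n) (hk : k < n)
    (hl : l < n) (hik : i ≠ k) (hil : i ≠ l) (hjk : j ≠ k) (hjl : j ≠ l) :
    T ε i j * T ε k l + T ε k l * T ε i j = 0 := by
  unfold T
  calc (ε i - ε j) * (ε k - ε l) + (ε k - ε l) * (ε i - ε j)
      = (ε i * ε k + ε k * ε i) - (ε i * ε l + ε l * ε i) - (ε j * ε k + ε k * ε j)
        + (ε j * ε l + ε l * ε j) := by noncomm_ring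
    _ = 0 := by
        rw [h.anti i hi k hk hik, h.anti i hi l hl hil, h.anti j hj k hk hjk,
          h.anti j hj l hl hjl]
        simp

theorem T_adj (h : IsSpinFamily n ε) {i j k : ℕ} (hi : i < n) (hj : j < n) (hk : k < n)
    (hij : i ≠ j) (hik : i ≠ k) (hjk : j ≠ k) :
    T ε i j * T ε j k + T ε j k * T ε i j = -1 := by
  unfold T
  calc (ε i - ε j) * (ε j - ε k) + (ε j - ε k) * (ε i - ε j)
      = (ε i * ε j + ε j * ε i) - (ε i * ε k + ε k * ε i) + (ε j * ε k + ε k * ε j)
        - (ε j * ε j + ε j * ε j) := by noncomm_ring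
    _ = -1 := by
        rw [h.anti i hi j hj hij, h.anti i hi k hk hik, h.anti j hj k hk hjk, h.sq j hj]
        have := neg_two_eq_one h.three
        rw [this]
        simp


/-! ### products of two transposition lifts -/

theorem pow_three_of_adj {u v : R} (hu : u * u = 1) (hv : v * v = 1) (h : u * v + v * u = -1) :
    (u * v) ^ 3 = 1 := by
  rw [pow_succ, pow_two]; exact cube_of_adj hu hv h

theorem neg_pow_three_of_adj {u v : R} (hu : u * u = 1) (hv : v * v = 1)
    (h : u * v + v * u = -1) : (-(u * v)) ^ 3 = -1 := by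
  rw [Odd.neg_pow (by decide), pow_three_of_adj hu hv h]

theorem pow_two_of_anticomm {u v : R} (hu : u * u = 1) (hv : v * v = 1)
    (h : u * v + v * u = 0) : (u * v) ^ 2 = -1 := by
  rw [pow_two]; exact sq_of_anticomm hu hv h

theorem neg_pow_two_of_anticomm {u v : R} (hu : u * u = 1) (hv : v * v = 1)
    (h : u * v + v * u = 0) : (-(u * v)) ^ 2 = -1 := by
  rw [neg_sq, pow_two_of_anticomm hu hv h]

/-- `(uv)(uw) = -(u+v)w` for adjacent `u, v` -/
theorem mul_mul_of_adj {u v : R} (w : R) (hu : u * u = 1) (h : u * v + v * u = -1) :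
    (u * v) * (u * w) = -((u + v) * w) := by
  rw [← mul_assoc, conj_of_adj hu h, neg_mul]

/-- `(uv)(uw) = -vw` for anticommuting `u, v` -/
theorem mul_mul_of_anticomm {u v : R} (w : R) (hu : u * u = 1) (h : u * v + v * u = 0) :
    (u * v) * (u * w) = -(v * w) := by
  rw [← mul_assoc, conj_of_anticomm hu h, neg_mul]

/-! ### the lifts as units -/

/-- an involution of the ring as a unit -/
noncomputable def invol (x : R) : Rˣ := by
  classical exact if h : x * x = 1 then ⟨x, x, h, h⟩ else 1

theorem invol_val {x : R} (h : x * x = 1) : ((invol x : Rˣ) : R) = x := by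
  unfold invol
  rw [dif_pos h]

/-- Moore's generators: `X 0` lifts `(0 1 2)` and `X k` lifts `(0 1)(k+1 k+2)`. -/
noncomputable def X (ε : ℕ → R) (k : ℕ) : Rˣ :=
  invol (T ε 0 1) * (if k = 0 then invol (T ε 1 2) else invol (T ε (k + 1) (k + 2)))

theorem X_zero_val (h : IsSpinFamily n ε) (hn : 2 < n) :
    ((X ε 0 : Rˣ) : R) = T ε 0 1 * T ε 1 2 := by
  unfold X
  rw [if_pos rfl, Units.val_mul, invol_val (T_sq h (by omega) (by omega) (by omega)),
    invol_val (T_sq h (by omega) (by omega) (by omega))]

theorem X_succ_val (h : IsSpinFamily n ε) {k : ℕ} (hk : 1 ≤ k) (hkn : k + 2 < n) :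
    ((X ε k : Rˣ) : R) = T ε 0 1 * T ε (k + 1) (k + 2) := by
  unfold X
  rw [if_neg (by omega), Units.val_mul, invol_val (T_sq h (by omega) (by omega) (by omega)),
    invol_val (T_sq h (by omega) (by omega) (by omega))]

theorem rel1 (h : IsSpinFamily n ε) (hn : 2 < n) : X ε 0 ^ 3 = 1 := by
  apply Units.ext
  rw [Units.val_pow_eq_pow_val, X_zero_val h hn, Units.val_one]
  exact pow_three_of_adj (T_sq h (by omega) (by omega) (by omega))
    (T_sq h (by omega) (by omega) (by omega))
    (T_adj h (by omega) (by omega) (by omega) (by omega) (by omega) (by omega))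

theorem rel2 (h : IsSpinFamily n ε) {k : ℕ} (hk : 1 ≤ k) (hkn : k + 2 < n) : X ε k ^ 2 = -1 := by
  apply Units.ext
  rw [Units.val_pow_eq_pow_val, X_succ_val h hk hkn, Units.val_neg, Units.val_one]
  exact pow_two_of_anticomm (T_sq h (by omega) (by omega) (by omega))
    (T_sq h (by omega) (by omega) (by omega))
    (T_anti h (by omega) (by omega) (by omega) (by omega) (by omega) (by omega) (by omega)
      (by omega))

theorem rel3 (h : IsSpinFamily n ε) {i : ℕ} (hi : i + 3 < n) : (X ε i * X ε (i + 1)) ^ 3 = -1 := by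
  apply Units.ext
  rw [Units.val_pow_eq_pow_val, Units.val_mul, Units.val_neg, Units.val_one,
    X_succ_val h (by omega : 1 ≤ i + 1) (by omega)]
  rcases Nat.eq_zero_or_pos i with rfl | hpos
  · rw [X_zero_val h (by omega),
      mul_mul_of_adj _ (T_sq h (by omega) (by omega) (by omega))
        (T_adj h (by omega) (by omega) (by omega) (by omega) (by omega) (by omega)), T_add]
    exact neg_pow_three_of_adj (T_sq h (by omega) (by omega) (by omega))
      (T_sq h (by omega) (by omega) (by omega))
      (T_adj h (by omega) (by omega) (by omega) (by omega) (by omega) (by omega))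
  · rw [X_succ_val h hpos (by omega),
      mul_mul_of_anticomm _ (T_sq h (by omega) (by omega) (by omega))
        (T_anti h (by omega) (by omega) (by omega) (by omega) (by omega) (by omega) (by omega)
          (by omega))]
    exact neg_pow_three_of_adj (T_sq h (by omega) (by omega) (by omega))
      (T_sq h (by omega) (by omega) (by omega))
      (T_adj h (by omega) (by omega) (by omega) (by omega) (by omega) (by omega))

theorem rel4 (h : IsSpinFamily n ε) {i j : ℕ} (hij : i + 1 < j) (hj : j + 2 < n) :
    (X ε i * X ε j) ^ 2 = -1 := by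
  apply Units.ext
  rw [Units.val_pow_eq_pow_val, Units.val_mul, Units.val_neg, Units.val_one,
    X_succ_val h (by omega : 1 ≤ j) (by omega)]
  rcases Nat.eq_zero_or_pos i with rfl | hpos
  · rw [X_zero_val h (by omega),
      mul_mul_of_adj _ (T_sq h (by omega) (by omega) (by omega))
        (T_adj h (by omega) (by omega) (by omega) (by omega) (by omega) (by omega)), T_add]
    exact neg_pow_two_of_anticomm (T_sq h (by omega) (by omega) (by omega))
      (T_sq h (by omega) (by omega) (by omega))
      (T_anti h (by omega) (by omega) (by omega) (by omega) (by omega) (by omega) (by omega)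
        (by omega))
  · rw [X_succ_val h hpos (by omega),
      mul_mul_of_anticomm _ (T_sq h (by omega) (by omega) (by omega))
        (T_anti h (by omega) (by omega) (by omega) (by omega) (by omega) (by omega) (by omega)
          (by omega))]
    exact neg_pow_two_of_anticomm (T_sq h (by omega) (by omega) (by omega))
      (T_sq h (by omega) (by omega) (by omega))
      (T_anti h (by omega) (by omega) (by omega) (by omega) (by omega) (by omega) (by omega)
        (by omega))

end ring

end Cfsg.Agent.Lib.Helper53.Spin
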