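import Mathlib
import Cfsg.Prelude.Def_KGroupFacts
import Cfsg.Agent.Lib.Helper53.K25
import Cfsg.Agent.Lib.Helper53.A7Elements
import Cfsg.Agent.Lib.Helper53.SL29Cover
import Cfsg.Agent.Lib.Helper53.SpinCover
import Cfsg.Agent.Lib.Helper57.CardSL

/-!
The triple covers of `A₆` and `A₇` (helper53): the fibre product of `A_n → PSL₃(25) ← SL₃(25)`,
the first map given on Moore's presentation.
-/

set_option autoImplicit false

namespace Cfsg.Agent.Lib.Helper53.A7

open Matrix Cfsg.Agent.Lib.Helper53.SmallFields Cfsg.Agent.Lib.Helper53.Spin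
open scoped commutatorElement

attribute [local instance] fieldK25

/-- `PSL₃(𝔽₂₅)` -/
abbrev P25 := H25 ⧸ Subgroup.center H25

theorem card_center_H25 : Nat.card (Subgroup.center H25) = 3 := by
  have h := Cfsg.Agent.Lib.Helper57.card_center_SL (F := K25) 3 (by norm_num)
  rw [card_K25] at h
  exact h.trans (by norm_num)

theorem z0_mem_center : z0 ∈ Subgroup.center H25 := by
  rw [Matrix.SpecialLinearGroup.mem_center_iff]
  refine ⟨w25, by decide, ?_⟩
  ext i j
  fin_cases i <;> fin_cases j <;> rfl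

theorem mk_eq_one_of_smul (M : H25) (h : ∃ c : K25, M.1 = c • (1 : H25).1) :
    (QuotientGroup.mk M : P25) = 1 :=
  Cfsg.Agent.Lib.Helper53.SL29.mk_eq_of_smul M 1 h

/-- two involutions inverting `g` have a product commuting with `g` -/
theorem comm_of_inverting {G : Type*} [Group G] (g s t : G) (hs : s * s = 1) (ht : t * t = 1)
    (hgs : (g * s) * (g * s) = 1) (hgt : (g * t) * (g * t) = 1) :
    g * (s * t) = (s * t) * g := by
  have h1 : s * g * s = g⁻¹ := by
    have : s * g * s = g⁻¹ * ((g * s) * (g * s)) := by group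
    rw [this, hgs, mul_one]
  have h2 : t * g * t = g⁻¹ := by
    have : t * g * t = g⁻¹ * ((g * t) * (g * t)) := by group
    rw [this, hgt, mul_one]
  calc g * (s * t) = (s * s) * g * (s * t) := by rw [hs, one_mul]
    _ = s * (s * g * s) * t := by group
    _ = s * (t * g * t) * t := by rw [h1, h2]
    _ = s * t * g * (t * t) := by group
    _ = s * t * g := by rw [ht, mul_one]

/-- The triple cover of a group given by Moore's presentation of `A₆` or `A₇`. -/
theorem exists_triple_cover {n : ℕ} (hn : n = 6 ∨ n = 7) {A : Type} [Group A] [Finite A]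
    (e : PresentedGroup (mooreRels n) ≃* A) :
    ∃ (Γ : Type) (_ : Group Γ) (_ : Finite Γ) (σ : Γ →* A),
      Cfsg.IsStemExtension σ ∧ Nat.card σ.ker = 3 := by
  classical
  have hn5 : n - 2 ≤ 5 := by omega
  have hn4 : 4 ≤ n - 2 := by omega
  let f : Fin (n - 2) → P25 := fun k => QuotientGroup.mk (Xs k.val)
  have hf : ∀ r ∈ mooreRels n, FreeGroup.lift f r = 1 := by
    rintro r (((⟨i, hi, rfl⟩ | ⟨i, hi, rfl⟩) | ⟨i, j, hij, rfl⟩) | ⟨i, j, hij, rfl⟩)
    · rw [map_pow, FreeGroup.lift_apply_of]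
      show (QuotientGroup.mk (Xs i.val) : P25) ^ 3 = 1
      rw [← QuotientGroup.mk_pow, hi]
      exact mk_eq_one_of_smul _ rel1
    · have := i.isLt
      rw [map_pow, FreeGroup.lift_apply_of]
      show (QuotientGroup.mk (Xs i.val) : P25) ^ 2 = 1
      rw [← QuotientGroup.mk_pow]
      exact mk_eq_one_of_smul _ (rel2 i.val (by omega) hi)
    · have := j.isLt
      rw [map_pow, map_mul, FreeGroup.lift_apply_of, FreeGroup.lift_apply_of]
      show ((QuotientGroup.mk (Xs i.val) : P25) * QuotientGroup.mk (Xs j.val)) ^ 3 = 1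
      rw [← QuotientGroup.mk_mul, ← QuotientGroup.mk_pow, hij]
      exact mk_eq_one_of_smul _ (rel3 i.val (by omega))
    · have := j.isLt
      rw [map_pow, map_mul, FreeGroup.lift_apply_of, FreeGroup.lift_apply_of]
      show ((QuotientGroup.mk (Xs i.val) : P25) * QuotientGroup.mk (Xs j.val)) ^ 2 = 1
      rw [← QuotientGroup.mk_mul, ← QuotientGroup.mk_pow]
      exact mk_eq_one_of_smul _ (rel4 i.val (by omega) j.val (by omega) hij)
  let φ₀ : PresentedGroup (mooreRels n) →* P25 := PresentedGroup.toGroup hf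
  have hφ₀ : ∀ k : Fin (n - 2), φ₀ (PresentedGroup.of k) = QuotientGroup.mk (Xs k.val) :=
    fun k => PresentedGroup.toGroup.of hf
  let ψ : A →* P25 := φ₀.comp e.symm.toMonoidHom
  have hψ : ∀ x : PresentedGroup (mooreRels n), ψ (e x) = φ₀ x := by
    intro x
    show φ₀ (e.symm (e x)) = _
    rw [e.symm_apply_apply]
  -- the fibre product
  let E : Subgroup (A × H25) :=
    MonoidHom.eqLocus (ψ.comp (MonoidHom.fst A H25))
      ((QuotientGroup.mk' (Subgroup.center H25)).comp (MonoidHom.snd A H25))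
  have hE : ∀ p : A × H25, p ∈ E ↔ ψ p.1 = QuotientGroup.mk p.2 := fun p => Iff.rfl
  let σ : E →* A := (MonoidHom.fst A H25).comp E.subtype
  have hσ : ∀ x : E, σ x = x.1.1 := fun x => rfl
  haveI : Finite H25 := inferInstance
  haveI : Finite E := inferInstance
  have hsurj : Function.Surjective σ := by
    intro g
    obtain ⟨h, hh⟩ := QuotientGroup.mk_surjective (s := Subgroup.center H25) (ψ g)
    exact ⟨⟨(g, h), (hE _).2 hh.symm⟩, rfl⟩
  have hker : ∀ x : E, x ∈ σ.ker ↔ x.1.1 = 1 := fun x => MonoidHom.mem_ker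
  have hker2 : ∀ x : E, x ∈ σ.ker → x.1.2 ∈ Subgroup.center H25 := by
    intro x hx
    have h1 : x.1.1 = 1 := (hker x).1 hx
    have h2 := (hE x.1).1 x.2
    rw [h1, map_one] at h2
    exact (QuotientGroup.eq_one_iff _).1 h2.symm
  have hcen : σ.ker ≤ Subgroup.center E := by
    intro x hx
    rw [Subgroup.mem_center_iff]
    intro y
    apply Subtype.ext
    apply Prod.ext
    · show y.1.1 * x.1.1 = x.1.1 * y.1.1
      rw [(hker x).1 hx, one_mul, mul_one]
    · show y.1.2 * x.1.2 = x.1.2 * y.1.2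
      exact Subgroup.mem_center_iff.1 (hker2 x hx) _
  have hcard : Nat.card σ.ker = 3 := by
    refine Eq.trans (Nat.card_congr (β := Subgroup.center H25) ?_) card_center_H25
    exact
      { toFun := fun x => ⟨x.1.1.2, hker2 x.1 x.2⟩
        invFun := fun c => ⟨⟨(1, c.1), by
          rw [hE]
          show ψ 1 = QuotientGroup.mk c.1
          rw [map_one]
          exact ((QuotientGroup.eq_one_iff _).2 c.2).symm⟩, by rw [hker]⟩
        left_inv := fun x => by
          apply Subtype.ext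
          apply Subtype.ext
          apply Prod.ext
          · exact ((hker x.1).1 x.2).symm
          · rfl
        right_inv := fun c => rfl }
  -- a nontrivial kernel element which is a commutator
  let k0 : Fin (n - 2) := ⟨0, by omega⟩
  let k2 : Fin (n - 2) := ⟨2, by omega⟩
  let k3 : Fin (n - 2) := ⟨3, by omega⟩
  let p0 : PresentedGroup (mooreRels n) := PresentedGroup.of k0
  let p2 : PresentedGroup (mooreRels n) := PresentedGroup.of k2
  let p3 : PresentedGroup (mooreRels n) := PresentedGroup.of k3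
  have hm1 : ((e p0, Xs 0) : A × H25) ∈ E := by
    rw [hE]; exact (hψ p0).trans (hφ₀ k0)
  have hm2 : ((e (p2 * p3), Xs 2 * Xs 3) : A × H25) ∈ E := by
    rw [hE]
    show ψ (e (p2 * p3)) = QuotientGroup.mk (Xs 2 * Xs 3)
    rw [hψ, map_mul, QuotientGroup.mk_mul]
    exact congrArg₂ _ (hφ₀ k2) (hφ₀ k3)
  let γ₁ : E := ⟨_, hm1⟩
  let γ₂ : E := ⟨_, hm2⟩
  have hp2 : p2 * p2 = 1 := by
    show PresentedGroup.mk (mooreRels n) (FreeGroup.of k2 * FreeGroup.of k2) = 1
    rw [← pow_two]
    exact PresentedGroup.one_of_mem (Or.inl (Or.inl (Or.inr ⟨k2, by show 1 ≤ 2; omega, rfl⟩)))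
  have hp3 : p3 * p3 = 1 := by
    show PresentedGroup.mk (mooreRels n) (FreeGroup.of k3 * FreeGroup.of k3) = 1
    rw [← pow_two]
    exact PresentedGroup.one_of_mem (Or.inl (Or.inl (Or.inr ⟨k3, by show 1 ≤ 3; omega, rfl⟩)))
  have hp02 : (p0 * p2) * (p0 * p2) = 1 := by
    show PresentedGroup.mk (mooreRels n)
      ((FreeGroup.of k0 * FreeGroup.of k2) * (FreeGroup.of k0 * FreeGroup.of k2)) = 1
    rw [← pow_two]
    exact PresentedGroup.one_of_mem (Or.inr ⟨k0, k2, by show 0 + 1 < 2; omega, rfl⟩)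
  have hp03 : (p0 * p3) * (p0 * p3) = 1 := by
    show PresentedGroup.mk (mooreRels n)
      ((FreeGroup.of k0 * FreeGroup.of k3) * (FreeGroup.of k0 * FreeGroup.of k3)) = 1
    rw [← pow_two]
    exact PresentedGroup.one_of_mem (Or.inr ⟨k0, k3, by show 0 + 1 < 3; omega, rfl⟩)
  have hcomm2 : p0 * (p2 * p3) = (p2 * p3) * p0 := comm_of_inverting p0 p2 p3 hp2 hp3 hp02 hp03
  have hk0 : (⁅γ₁, γ₂⁆ : E).1 = ((1 : A), z0) := by
    apply Prod.ext
    · show ⁅e p0, e (p2 * p3)⁆ = 1
      rw [commutatorElement_eq_one_iff_mul_comm, ← map_mul, ← map_mul, hcomm2]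
    · show ⁅Xs 0, Xs 2 * Xs 3⁆ = z0
      rw [commutatorElement_def, comm_eq]
      group
  have hk0ker : ⁅γ₁, γ₂⁆ ∈ σ.ker := by
    rw [hker, hk0]
  have hk0ne : (⟨⁅γ₁, γ₂⁆, hk0ker⟩ : σ.ker) ≠ 1 := by
    intro h
    have h1 : (⁅γ₁, γ₂⁆ : E).1 = 1 := congrArg (fun z : σ.ker => (z.1 : E).1) h
    rw [hk0] at h1
    exact z0_ne_one (congrArg Prod.snd h1)
  have hcommle : σ.ker ≤ commutator E := by
    intro x hx
    haveI : Fact (Nat.Prime 3) := ⟨Nat.prime_three⟩
    have := mem_zpowers_of_prime_card (G := σ.ker) hcard hk0ne (g' := ⟨x, hx⟩)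
    obtain ⟨k, hk⟩ := this
    have hx' : x = ⁅γ₁, γ₂⁆ ^ k := by
      have := congrArg (fun z : σ.ker => (z : E)) hk
      simpa using this.symm
    rw [hx']
    exact Subgroup.zpow_mem _ (Subgroup.commutator_mem_commutator (Subgroup.mem_top _)
      (Subgroup.mem_top _)) k
  exact ⟨E, inferInstance, inferInstance, σ, ⟨hsurj, hcen, hcommle⟩, hcard⟩

end Cfsg.Agent.Lib.Helper53.A7
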