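import Mathlib
import Cfsg.Agent.Lib.Helper53.SpinRing

/-!
The Clifford algebra of `-(x₁² + … + xₙ²)` over `𝔽₃` carries a spin family (helper53).
-/

set_option autoImplicit false

namespace Cfsg.Agent.Lib.Helper53.Spin

noncomputable section

/-- the quadratic form `-(x₁² + … + xₙ²)` over `𝔽₃` -/
def Qf (n : ℕ) : QuadraticForm (ZMod 3) (Fin n → ZMod 3) :=
  LinearMap.BilinMap.toQuadraticMap
    (-(dotProductBilin (ZMod 3) (ZMod 3) :
      (Fin n → ZMod 3) →ₗ[ZMod 3] (Fin n → ZMod 3) →ₗ[ZMod 3] ZMod 3))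

theorem Qf_apply (n : ℕ) (v : Fin n → ZMod 3) : Qf n v = -(v ⬝ᵥ v) := by
  unfold Qf
  rw [LinearMap.BilinMap.toQuadraticMap_apply]
  rfl

theorem Qf_polar (n : ℕ) (v w : Fin n → ZMod 3) :
    QuadraticMap.polar (Qf n) v w = -(v ⬝ᵥ w) + -(w ⬝ᵥ v) := by
  unfold Qf
  rw [LinearMap.BilinMap.polar_toQuadraticMap]
  rfl

/-- the Clifford algebra -/
abbrev Cl (n : ℕ) : Type := CliffordAlgebra (Qf n)

/-- the standard anticommuting generators -/
def gen (n : ℕ) (i : ℕ) : Cl n :=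
  if h : i < n then CliffordAlgebra.ι (Qf n) (Pi.single (⟨i, h⟩ : Fin n) 1) else 0

theorem three_eq_zero (n : ℕ) : (3 : Cl n) = 0 := by
  have h : (3 : ZMod 3) = 0 := by decide
  have h2 := congrArg (algebraMap (ZMod 3) (Cl n)) h
  rwa [map_ofNat, map_zero] at h2

theorem gen_spin (n : ℕ) : IsSpinFamily n (gen n) := by
  refine ⟨three_eq_zero n, ?_, ?_⟩
  · intro i hi
    unfold gen
    rw [dif_pos hi, CliffordAlgebra.ι_sq_scalar, Qf_apply]
    simp
  · intro i hi j hj hij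
    unfold gen
    rw [dif_pos hi, dif_pos hj, CliffordAlgebra.ι_mul_ι_add_swap, Qf_polar]
    have hne : (⟨i, hi⟩ : Fin n) ≠ ⟨j, hj⟩ := fun h => hij (congrArg Fin.val h)
    simp [hne, hne.symm]

instance invertibleTwo : Invertible (2 : ZMod 3) := ⟨2, by decide, by decide⟩

theorem nontrivial_Cl (n : ℕ) : Nontrivial (Cl n) := inferInstance

theorem neg_one_ne_one (n : ℕ) : (-1 : (Cl n)ˣ) ≠ 1 := by
  intro h
  have h1 : (-1 : Cl n) = 1 := by
    have := congrArg Units.val h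
    simpa using this
  have h2 : (1 : Cl n) = 0 := by
    have h3 := neg_two_eq_one (three_eq_zero n)
    rw [h1] at h3
    -- 1 + 1 = 1
    exact add_eq_right.mp h3
  exact one_ne_zero h2

end

end Cfsg.Agent.Lib.Helper53.Spin
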