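import Mathlib
import Cfsg.Prelude.Def_KGroupFacts
import Cfsg.Agent.Lib.Helper53.SchurSix
import Cfsg.Agent.Lib.Helper53.A67Sylow
import Cfsg.Agent.Lib.Helper53.A7Triple
import Cfsg.Agent.Lib.Helper53.SpinClifford
import Cfsg.Agent.Lib.Helper53.SpinCover

/-!
The Schur multipliers of `A₆` and `A₇` are cyclic of order six (helper53), given Moore's
presentation of these groups.
-/

set_option autoImplicit false

namespace Cfsg.Agent.Lib.Helper53.A67

open Cfsg.Agent.Lib.Helper53.Spin Cfsg.Agent.Lib.Helper53.SchurSix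

/-- a double cover in the sense of `exists_double_cover` is a stem extension with kernel of order
two -/
theorem stem_of_double_cover {A : Type} [Group A]
    (h : ∃ (Γ : Type) (_ : Group Γ) (_ : Finite Γ) (z : Γ) (_ : z ∈ Subgroup.center Γ),
      orderOf z = 2 ∧ z ∈ commutator Γ ∧ ∃ _ : (Subgroup.zpowers z).Normal,
        Nonempty (Γ ⧸ Subgroup.zpowers z ≃* A)) :
    ∃ (Γ : Type) (_ : Group Γ) (_ : Finite Γ) (σ : Γ →* A),
      Cfsg.IsStemExtension σ ∧ Nat.card σ.ker = 2 := by
  obtain ⟨Γ, i1, i2, z, hzc, hord, hzcomm, hnorm, ⟨iso⟩⟩ := h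
  let σ : Γ →* A := iso.toMonoidHom.comp (QuotientGroup.mk' (Subgroup.zpowers z))
  have hker : σ.ker = Subgroup.zpowers z := by
    ext x
    rw [MonoidHom.mem_ker]
    show iso (QuotientGroup.mk' (Subgroup.zpowers z) x) = 1 ↔ _
    rw [MulEquiv.map_eq_one_iff, QuotientGroup.mk'_apply, QuotientGroup.eq_one_iff]
  refine ⟨Γ, i1, i2, σ, ⟨?_, ?_, ?_⟩, ?_⟩
  · exact iso.surjective.comp (QuotientGroup.mk'_surjective _)
  · rw [hker, Subgroup.zpowers_le]; exact hzc
  · rw [hker, Subgroup.zpowers_le]; exact hzcomm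
  · rw [hker, Nat.card_zpowers, hord]

theorem multiplier_A6 (e : PresentedGroup (mooreRels 6) ≃* alternatingGroup (Fin 6)) :
    Cfsg.HasCyclicSchurMultiplier (alternatingGroup (Fin 6)) 6 :=
  hasCyclicSchurMultiplier_six card_ker_dvd_six_A6
    (stem_of_double_cover (exists_double_cover (by norm_num) (gen_spin 6) (neg_one_ne_one 6) e))
    (Cfsg.Agent.Lib.Helper53.A7.exists_triple_cover (Or.inl rfl) e)

theorem multiplier_A7 (e : PresentedGroup (mooreRels 7) ≃* alternatingGroup (Fin 7)) :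
    Cfsg.HasCyclicSchurMultiplier (alternatingGroup (Fin 7)) 6 :=
  hasCyclicSchurMultiplier_six card_ker_dvd_six_A7
    (stem_of_double_cover (exists_double_cover (by norm_num) (gen_spin 7) (neg_one_ne_one 7) e))
    (Cfsg.Agent.Lib.Helper53.A7.exists_triple_cover (Or.inr rfl) e)

end Cfsg.Agent.Lib.Helper53.A67
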