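import Mathlib
import Cfsg.Agent.Lib.Helper53.SpinRing
import Cfsg.Agent.Lib.Helper53.SpinCover

/-!
The spin double cover with its structure maps exposed (helper53): the projection `π` to the group
presented by Moore's relators and the spin representation `ρ` to the units of the ring.
-/

set_option autoImplicit false

namespace Cfsg.Agent.Lib.Helper53.Spin

open scoped commutatorElement

theorem exists_double_cover_struct {R : Type} [Ring R] {n : ℕ} (hn : 4 ≤ n) {ε : ℕ → R}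
    (h : IsSpinFamily n ε) (hne : (-1 : Rˣ) ≠ 1) {A : Type} [Group A] [Finite A]
    (e : PresentedGroup (mooreRels n) ≃* A) :
    ∃ (Γ : Type) (_ : Group Γ) (_ : Finite Γ) (π : Γ →* A) (ρ : Γ →* Rˣ) (z : Γ),
      Function.Surjective π ∧ π.ker = Subgroup.zpowers z ∧ orderOf z = 2 ∧
      z ∈ Subgroup.center Γ ∧ z ∈ commutator Γ ∧ ρ z = -1 ∧
      (∀ γ γ' : Γ, π γ = π γ' → ρ γ = ρ γ' → γ = γ') ∧
      ∀ k : Fin (n - 2), ∃ γ : Γ, π γ = e (PresentedGroup.of k) ∧ ρ γ = X ε k.val := by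
  classical
  let Z : Subgroup Rˣ := Subgroup.zpowers (-1)
  have hm1c : (-1 : Rˣ) ∈ Subgroup.center Rˣ :=
    Subgroup.mem_center_iff.2 (fun u => by rw [neg_one_mul, mul_neg_one])
  haveI hZn : Z.Normal := normal_zpowers_of_mem_center hm1c
  have hZc : Z ≤ Subgroup.center Rˣ := Subgroup.zpowers_le.2 hm1c
  have hm1 : ((-1 : Rˣ) : Rˣ ⧸ Z) = 1 := (QuotientGroup.eq_one_iff _).2 (Subgroup.mem_zpowers _)
  let f : Fin (n - 2) → Rˣ ⧸ Z := fun k => QuotientGroup.mk (X ε k.val)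
  have hf : ∀ r ∈ mooreRels n, FreeGroup.lift f r = 1 := by
    rintro r (((⟨i, hi, rfl⟩ | ⟨i, hi, rfl⟩) | ⟨i, j, hij, rfl⟩) | ⟨i, j, hij, rfl⟩)
    · rw [map_pow, FreeGroup.lift_apply_of]
      show (QuotientGroup.mk (X ε i.val) : Rˣ ⧸ Z) ^ 3 = 1
      rw [← QuotientGroup.mk_pow, hi, rel1 h (by omega)]; rfl
    · have := i.isLt
      rw [map_pow, FreeGroup.lift_apply_of]
      show (QuotientGroup.mk (X ε i.val) : Rˣ ⧸ Z) ^ 2 = 1
      rw [← QuotientGroup.mk_pow, rel2 h hi (by omega)]; exact hm1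
    · have := j.isLt
      rw [map_pow, map_mul, FreeGroup.lift_apply_of, FreeGroup.lift_apply_of]
      show ((QuotientGroup.mk (X ε i.val) : Rˣ ⧸ Z) * QuotientGroup.mk (X ε j.val)) ^ 3 = 1
      rw [← QuotientGroup.mk_mul, ← QuotientGroup.mk_pow, hij, rel3 h (by omega)]; exact hm1
    · have := j.isLt
      rw [map_pow, map_mul, FreeGroup.lift_apply_of, FreeGroup.lift_apply_of]
      show ((QuotientGroup.mk (X ε i.val) : Rˣ ⧸ Z) * QuotientGroup.mk (X ε j.val)) ^ 2 = 1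
      rw [← QuotientGroup.mk_mul, ← QuotientGroup.mk_pow, rel4 h hij (by omega)]; exact hm1
  let φ₀ : PresentedGroup (mooreRels n) →* Rˣ ⧸ Z := PresentedGroup.toGroup hf
  have hφ₀ : ∀ k : Fin (n - 2), φ₀ (PresentedGroup.of k) = QuotientGroup.mk (X ε k.val) :=
    fun k => PresentedGroup.toGroup.of hf
  let ψ : A →* Rˣ ⧸ Z := φ₀.comp e.symm.toMonoidHom
  have hψ : ∀ k : Fin (n - 2), ψ (e (PresentedGroup.of k)) = QuotientGroup.mk (X ε k.val) := by
    intro k
    show φ₀ (e.symm (e (PresentedGroup.of k))) = _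
    rw [e.symm_apply_apply, hφ₀]
  -- the fibre product
  let E : Subgroup (A × Rˣ) :=
    MonoidHom.eqLocus (ψ.comp (MonoidHom.fst A Rˣ))
      ((QuotientGroup.mk' Z).comp (MonoidHom.snd A Rˣ))
  have hE : ∀ p : A × Rˣ, p ∈ E ↔ ψ p.1 = QuotientGroup.mk p.2 := fun p => Iff.rfl
  let σ : E →* A := (MonoidHom.fst A Rˣ).comp E.subtype
  have hσ : ∀ x : E, σ x = x.1.1 := fun x => rfl
  have hsurj : Function.Surjective σ := by
    intro g
    obtain ⟨u, hu⟩ := QuotientGroup.mk_surjective (s := Z) (ψ g)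
    exact ⟨⟨(g, u), (hE _).2 hu.symm⟩, rfl⟩
  have hker : ∀ x : E, x ∈ σ.ker ↔ x.1.1 = 1 := fun x => MonoidHom.mem_ker
  have hker2 : ∀ x : E, x ∈ σ.ker → x.1.2 ∈ Z := by
    intro x hx
    have h1 : x.1.1 = 1 := (hker x).1 hx
    have h2 := (hE x.1).1 x.2
    rw [h1, map_one] at h2
    exact (QuotientGroup.eq_one_iff _).1 h2.symm
  -- the central involution
  have hzE : ((1, -1) : A × Rˣ) ∈ E := by
    rw [hE]
    show ψ 1 = QuotientGroup.mk (-1)
    rw [map_one, hm1]
  let z : E := ⟨_, hzE⟩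
  have hzc : z ∈ Subgroup.center E := by
    rw [Subgroup.mem_center_iff]
    intro y
    apply Subtype.ext
    apply Prod.ext
    · show y.1.1 * 1 = 1 * y.1.1
      rw [one_mul, mul_one]
    · show y.1.2 * (-1) = (-1) * y.1.2
      rw [neg_one_mul, mul_neg_one]
  have hz2 : z ^ 2 = 1 := by
    apply Subtype.ext
    apply Prod.ext
    · show (1 : A) ^ 2 = 1
      rw [one_pow]
    · show (-1 : Rˣ) ^ 2 = 1
      rw [neg_one_sq]
  have hz1 : z ≠ 1 := by
    intro hz
    have : (-1 : Rˣ) = 1 := congrArg (fun x : E => x.1.2) hz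
    exact hne this
  have hord : orderOf z = 2 := by
    haveI : Fact (Nat.Prime 2) := ⟨Nat.prime_two⟩
    exact orderOf_eq_prime hz2 hz1
  -- the kernel of the projection
  have hkerz : Subgroup.zpowers z = σ.ker := by
    apply le_antisymm
    · rw [Subgroup.zpowers_le, hker]
    · intro x hx
      obtain ⟨k, hk⟩ := Subgroup.mem_zpowers_iff.1 (hker2 x hx)
      rw [Subgroup.mem_zpowers_iff]
      refine ⟨k, ?_⟩
      apply Subtype.ext
      apply Prod.ext
      · show ((z ^ k : E) : A × Rˣ).1 = x.1.1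
        rw [(hker x).1 hx]
        simp [z]
      · show ((z ^ k : E) : A × Rˣ).2 = x.1.2
        rw [← hk]
        simp [z]
  haveI hnorm : (Subgroup.zpowers z).Normal := normal_zpowers_of_mem_center hzc
  let iso : E ⧸ Subgroup.zpowers z ≃* A :=
    (QuotientGroup.quotientMulEquivOfEq hkerz).trans
      (QuotientGroup.quotientKerEquivOfSurjective σ hsurj)
  -- finiteness
  haveI : Finite (Subgroup.zpowers z) :=
    (IsOfFinOrder.finite_zpowers (isOfFinOrder_iff_pow_eq_one.2 ⟨2, by norm_num, hz2⟩)).to_subtype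
  haveI : Finite (E ⧸ Subgroup.zpowers z) := Finite.of_equiv A iso.symm.toEquiv
  haveI hfin : Finite E := Finite.of_subgroup_quotient (Subgroup.zpowers z)
  -- `z` is a commutator
  have hn2 : 1 < n - 2 := by omega
  let k0 : Fin (n - 2) := ⟨0, by omega⟩
  let k1 : Fin (n - 2) := ⟨1, hn2⟩
  have hgE : ((e (PresentedGroup.of k0), X ε 0) : A × Rˣ) ∈ E := by
    rw [hE]; exact hψ k0
  have haE : ((e (PresentedGroup.of k1), X ε 1) : A × Rˣ) ∈ E := by
    rw [hE]; exact hψ k1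
  let γg : E := ⟨_, hgE⟩
  let γa : E := ⟨_, haE⟩
  have hr1 : (PresentedGroup.of k0 : PresentedGroup (mooreRels n)) ^ 3 = 1 := by
    show PresentedGroup.mk (mooreRels n) (FreeGroup.of k0 ^ 3) = 1
    exact PresentedGroup.one_of_mem (Or.inl (Or.inl (Or.inl ⟨k0, rfl, rfl⟩)))
  have hr2 : (PresentedGroup.of k1 : PresentedGroup (mooreRels n)) ^ 2 = 1 := by
    show PresentedGroup.mk (mooreRels n) (FreeGroup.of k1 ^ 2) = 1
    exact PresentedGroup.one_of_mem (Or.inl (Or.inl (Or.inr ⟨k1, le_rfl, rfl⟩)))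
  have hr3 : ((PresentedGroup.of k0 : PresentedGroup (mooreRels n)) * PresentedGroup.of k1) ^ 3
      = 1 := by
    show PresentedGroup.mk (mooreRels n) ((FreeGroup.of k0 * FreeGroup.of k1) ^ 3) = 1
    exact PresentedGroup.one_of_mem (Or.inl (Or.inr ⟨k0, k1, rfl, rfl⟩))
  have hcomm : γa * (γg * γa * γg⁻¹) * γa⁻¹ * (γg * γa * γg⁻¹)⁻¹ = z := by
    apply Subtype.ext
    apply Prod.ext
    · show e (PresentedGroup.of k1) * (e (PresentedGroup.of k0) * e (PresentedGroup.of k1) *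
        (e (PresentedGroup.of k0))⁻¹) * (e (PresentedGroup.of k1))⁻¹ *
        (e (PresentedGroup.of k0) * e (PresentedGroup.of k1) * (e (PresentedGroup.of k0))⁻¹)⁻¹ = 1
      apply commutator_eq_of_rel 1 1
      · intro x; rw [one_mul, mul_one]
      · intro x; rw [one_mul, mul_one]
      · rw [one_mul]
      · rw [one_mul]
      · rw [← map_mul, ← pow_two, hr2, map_one]
      · rw [← map_mul, ← map_mul, ← pow_two, ← pow_succ, hr1, map_one]
      · rw [← map_mul, ← map_mul, ← map_mul, ← pow_two, ← pow_succ, hr3, map_one]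
    · exact comm_rel h hn
  have hzcomm : z ∈ commutator E := by
    rw [← hcomm]
    have : γa * (γg * γa * γg⁻¹) * γa⁻¹ * (γg * γa * γg⁻¹)⁻¹ = ⁅γa, γg * γa * γg⁻¹⁆ :=
      (commutatorElement_def _ _).symm
    rw [this]
    exact Subgroup.commutator_mem_commutator (Subgroup.mem_top _) (Subgroup.mem_top _)
  let ρ : E →* Rˣ := (MonoidHom.snd A Rˣ).comp E.subtype
  refine ⟨E, inferInstance, hfin, σ, ρ, z, hsurj, hkerz.symm, hord, hzc, hzcomm, rfl, ?_, ?_⟩
  · intro γ γ' h1 h2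
    apply Subtype.ext
    exact Prod.ext h1 h2
  · intro k
    exact ⟨⟨(e (PresentedGroup.of k), X ε k.val), (hE _).2 (hψ k)⟩, rfl, rfl⟩


end Cfsg.Agent.Lib.Helper53.Spin
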