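import Mathlib
import Cfsg.Agent.Lib.Helper53.SpinRing

/-!
A non-central involution in the spin double cover of `A_n`, `n ≥ 8` (helper53): the lift of
`(0 1)(2 3)(4 5)(6 7)`.
-/

set_option autoImplicit false

namespace Cfsg.Agent.Lib.Helper53.Spin

section ring

variable {R : Type*} [Ring R]

/-- an element anticommuting with two elements commutes with their product -/
theorem comm_of_anticomm2 {x y z : R} (hxy : x * y + y * x = 0) (hxz : x * z + z * x = 0) :
    x * (y * z) = (y * z) * x := by
  have h1 : x * y = -(y * x) := eq_neg_of_add_eq_zero_left hxy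
  have h2 : x * z = -(z * x) := eq_neg_of_add_eq_zero_left hxz
  calc x * (y * z) = (x * y) * z := (mul_assoc _ _ _).symm
    _ = -(y * (x * z)) := by rw [h1, neg_mul, mul_assoc]
    _ = y * z * x := by rw [h2, mul_neg, neg_neg, mul_assoc]

/-- the product of four pairwise anticommuting involutions is an involution -/
theorem four_mul_self {a b u c : R} (ha : a * a = 1) (hb : b * b = 1) (hu : u * u = 1)
    (hc : c * c = 1) (hab : a * b + b * a = 0) (hau : a * u + u * a = 0) (hac : a * c + c * a = 0)
    (hbu : b * u + u * b = 0) (hbc : b * c + c * b = 0) (huc : u * c + c * u = 0) :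
    (a * b * (u * c)) * (a * b * (u * c)) = 1 := by
  have hua : u * a + a * u = 0 := by rw [add_comm]; exact hau
  have hub : u * b + b * u = 0 := by rw [add_comm]; exact hbu
  have hca : c * a + a * c = 0 := by rw [add_comm]; exact hac
  have hcb : c * b + b * c = 0 := by rw [add_comm]; exact hbc
  have h1 : u * (a * b) = (a * b) * u := comm_of_anticomm2 hua hub
  have h2 : c * (a * b) = (a * b) * c := comm_of_anticomm2 hca hcb
  have h3 : (u * c) * (a * b) = (a * b) * (u * c) := by
    rw [mul_assoc, h2, ← mul_assoc, h1, mul_assoc]
  have h4 : (a * b) * (a * b) = -1 := sq_of_anticomm ha hb hab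
  have h5 : (u * c) * (u * c) = -1 := sq_of_anticomm hu hc huc
  calc a * b * (u * c) * (a * b * (u * c))
      = (a * b) * ((u * c) * (a * b)) * (u * c) := by simp only [mul_assoc]
    _ = ((a * b) * (a * b)) * ((u * c) * (u * c)) := by rw [h3]; simp only [mul_assoc]
    _ = 1 := by rw [h4, h5, neg_mul_neg, one_mul]

/-- `a` anticommutes with `a b u c` -/
theorem anticomm_four {a b u c : R} (hab : a * b + b * a = 0) (hau : a * u + u * a = 0)
    (hac : a * c + c * a = 0) : a * (a * b * (u * c)) = -((a * b * (u * c)) * a) := by
  have h1 : a * b = -(b * a) := eq_neg_of_add_eq_zero_left hab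
  have h2 : a * (u * c) = (u * c) * a := comm_of_anticomm2 hau hac
  calc a * (a * b * (u * c)) = a * (a * b) * (u * c) := by simp only [mul_assoc]
    _ = -(a * b * a) * (u * c) := by
        congr 1
        calc a * (a * b) = a * (-(b * a)) := by rw [← h1]
          _ = -(a * b * a) := by rw [mul_neg, mul_assoc]
    _ = -((a * b) * (a * (u * c))) := by rw [neg_mul]; simp only [mul_assoc]
    _ = -((a * b * (u * c)) * a) := by rw [h2]; simp only [mul_assoc]

variable {n : ℕ} {ε : ℕ → R}

/-- the lift of `(0 1)(2 3)(4 5)(6 7)` -/
theorem X135_val (h : IsSpinFamily n ε) (hn : 8 ≤ n) :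
    ((X ε 1 * X ε 3 * X ε 5 : Rˣ) : R) = -(T ε 2 3 * T ε 4 5 * (T ε 0 1 * T ε 6 7)) := by
  rw [Units.val_mul, Units.val_mul, X_succ_val h (by norm_num) (by omega),
    X_succ_val h (by norm_num) (by omega), X_succ_val h (by norm_num) (by omega),
    mul_mul_of_anticomm _ (T_sq h (by omega) (by omega) (by omega))
      (T_anti h (by omega) (by omega) (by omega) (by omega) (by omega) (by omega) (by omega)
        (by omega)), neg_mul]

theorem X135_sq (h : IsSpinFamily n ε) (hn : 8 ≤ n) :
    (X ε 1 * X ε 3 * X ε 5) * (X ε 1 * X ε 3 * X ε 5) = 1 := by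
  apply Units.ext
  rw [Units.val_mul, X135_val h hn, neg_mul_neg, Units.val_one]
  exact four_mul_self (T_sq h (by omega) (by omega) (by omega))
    (T_sq h (by omega) (by omega) (by omega)) (T_sq h (by omega) (by omega) (by omega))
    (T_sq h (by omega) (by omega) (by omega))
    (T_anti h (by omega) (by omega) (by omega) (by omega) (by omega) (by omega) (by omega)
      (by omega))
    (T_anti h (by omega) (by omega) (by omega) (by omega) (by omega) (by omega) (by omega)
      (by omega))
    (T_anti h (by omega) (by omega) (by omega) (by omega) (by omega) (by omega) (by omega)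
      (by omega))
    (T_anti h (by omega) (by omega) (by omega) (by omega) (by omega) (by omega) (by omega)
      (by omega))
    (T_anti h (by omega) (by omega) (by omega) (by omega) (by omega) (by omega) (by omega)
      (by omega))
    (T_anti h (by omega) (by omega) (by omega) (by omega) (by omega) (by omega) (by omega)
      (by omega))

/-- the lift is not central -/
theorem X135_ne (h : IsSpinFamily n ε) (hn : 8 ≤ n) (hne : (-1 : Rˣ) ≠ 1) :
    X ε 1 * X ε 3 * X ε 5 ≠ 1 ∧ X ε 1 * X ε 3 * X ε 5 ≠ -1 := by
  have hne' : (-1 : R) ≠ 1 := fun h1 => hne (Units.ext (by simpa using h1))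
  set a := T ε 2 3 with ha
  have haa : a * a = 1 := T_sq h (by omega) (by omega) (by omega)
  have hanti : a * (a * T ε 4 5 * (T ε 0 1 * T ε 6 7)) = -((a * T ε 4 5 * (T ε 0 1 * T ε 6 7)) * a) :=
    anticomm_four
      (T_anti h (by omega) (by omega) (by omega) (by omega) (by omega) (by omega) (by omega)
        (by omega))
      (T_anti h (by omega) (by omega) (by omega) (by omega) (by omega) (by omega) (by omega)
        (by omega))
      (T_anti h (by omega) (by omega) (by omega) (by omega) (by omega) (by omega) (by omega)
        (by omega))
  have key : ∀ s : R, a * T ε 4 5 * (T ε 0 1 * T ε 6 7) = s → (∀ x : R, s * x = x * s) → False := by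
    intro s hs hcs
    rw [hs, hcs a, ← sub_eq_zero, sub_neg_eq_add] at hanti
    -- `a s + a s = 0`
    have h2 : a * (a * s + a * s) = 0 := by rw [hanti, mul_zero]
    rw [mul_add, ← mul_assoc, haa, one_mul] at h2
    -- `s + s = 0`, `s * s = 1`
    have hss : s * s = 1 := by
      rw [← hs]
      exact four_mul_self haa (T_sq h (by omega) (by omega) (by omega))
        (T_sq h (by omega) (by omega) (by omega)) (T_sq h (by omega) (by omega) (by omega))
        (T_anti h (by omega) (by omega) (by omega) (by omega) (by omega) (by omega) (by omega)
          (by omega))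
        (T_anti h (by omega) (by omega) (by omega) (by omega) (by omega) (by omega) (by omega)
          (by omega))
        (T_anti h (by omega) (by omega) (by omega) (by omega) (by omega) (by omega) (by omega)
          (by omega))
        (T_anti h (by omega) (by omega) (by omega) (by omega) (by omega) (by omega) (by omega)
          (by omega))
        (T_anti h (by omega) (by omega) (by omega) (by omega) (by omega) (by omega) (by omega)
          (by omega))
        (T_anti h (by omega) (by omega) (by omega) (by omega) (by omega) (by omega) (by omega)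
          (by omega))
    have h3 : s * (s + s) = 0 := by rw [h2, mul_zero]
    rw [mul_add, hss] at h3
    exact hne' (eq_neg_of_add_eq_zero_left h3).symm
  constructor
  · intro h1
    have := congrArg Units.val h1
    rw [X135_val h hn, Units.val_one] at this
    refine key (-1) (neg_eq_iff_eq_neg.1 this) (fun x => by rw [neg_one_mul, mul_neg_one])
  · intro h1
    have := congrArg Units.val h1
    rw [X135_val h hn, Units.val_neg, Units.val_one, neg_inj] at this
    exact key 1 this (fun x => by rw [one_mul, mul_one])

end ring

end Cfsg.Agent.Lib.Helper53.Spin
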