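import Mathlib
import Cfsg.Prelude.Def_SporadicB
import Cfsg.Agent.Lib.Helper53.SpinCover2
import Cfsg.Agent.Lib.Helper53.SpinInvolution
import Cfsg.Agent.Lib.Helper53.SpinClifford

/-!
The spin double cover of `A₈` is non-split and has a non-central involution (helper53).
-/

set_option autoImplicit false

namespace Cfsg.Agent.Lib.Helper53.Spin

open scoped commutatorElement

/-- A central extension by a subgroup of order two inside the commutator subgroup, of a group with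
trivial centre, is a non-split double cover. -/
theorem nonsplit_of_struct {Γ A : Type} [Group Γ] [Group A] (π : Γ →* A) (z : Γ)
    (hsurj : Function.Surjective π) (hker : π.ker = Subgroup.zpowers z) (hord : orderOf z = 2)
    (hzc : z ∈ Subgroup.center Γ) (hzcomm : z ∈ commutator Γ) (hA : Subgroup.center A = ⊥) :
    Cfsg.IsNonsplitDoubleCover Γ A := by
  have hcen : Subgroup.center Γ = Subgroup.zpowers z := by
    apply le_antisymm
    · intro γ hγ
      rw [← hker, MonoidHom.mem_ker]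
      have : π γ ∈ Subgroup.center A := by
        rw [Subgroup.mem_center_iff]
        intro a
        obtain ⟨g, rfl⟩ := hsurj a
        rw [← map_mul, ← map_mul, Subgroup.mem_center_iff.1 hγ g]
      rw [hA] at this
      exact this
    · exact Subgroup.zpowers_le.2 hzc
  refine ⟨?_, ?_, ?_⟩
  · rw [hcen, Nat.card_zpowers, hord]
  · exact ⟨(QuotientGroup.quotientMulEquivOfEq (hcen.trans hker.symm)).trans
      (QuotientGroup.quotientKerEquivOfSurjective π hsurj)⟩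
  · intro L hL
    have hdisj : Disjoint (Subgroup.center Γ) L := hL.disjoint
    have hcomm : commutator Γ ≤ L := by
      rw [commutator_def, Subgroup.commutator_le]
      intro g₁ _ g₂ _
      obtain ⟨⟨⟨c₁, hc₁⟩, ⟨l₁, hl₁⟩⟩, h1, _⟩ := (Subgroup.isComplement'_def.1 hL).existsUnique g₁
      obtain ⟨⟨⟨c₂, hc₂⟩, ⟨l₂, hl₂⟩⟩, h2, _⟩ := (Subgroup.isComplement'_def.1 hL).existsUnique g₂
      simp only at h1 h2
      have hc1 : ∀ x, x * c₁ = c₁ * x := Subgroup.mem_center_iff.1 hc₁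
      have hc2 : ∀ x, x * c₂ = c₂ * x := Subgroup.mem_center_iff.1 hc₂
      have : ⁅g₁, g₂⁆ = ⁅l₁, l₂⁆ := by
        rw [← h1, ← h2, commutatorElement_def, commutatorElement_def]
        calc c₁ * l₁ * (c₂ * l₂) * (c₁ * l₁)⁻¹ * (c₂ * l₂)⁻¹
            = c₁ * (l₁ * c₂) * l₂ * l₁⁻¹ * c₁⁻¹ * (l₂⁻¹ * c₂⁻¹) := by group
          _ = c₁ * (c₂ * l₁) * l₂ * l₁⁻¹ * c₁⁻¹ * (l₂⁻¹ * c₂⁻¹) := by rw [hc2 l₁]
          _ = c₁ * (c₂ * (l₁ * l₂ * l₁⁻¹ * (c₁⁻¹ * l₂⁻¹))) * c₂⁻¹ := by group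
          _ = c₁ * ((l₁ * l₂ * l₁⁻¹ * (c₁⁻¹ * l₂⁻¹)) * c₂) * c₂⁻¹ := by
              rw [← hc2 (l₁ * l₂ * l₁⁻¹ * (c₁⁻¹ * l₂⁻¹))]
          _ = c₁ * (l₁ * l₂ * l₁⁻¹ * c₁⁻¹) * l₂⁻¹ := by group
          _ = (l₁ * l₂ * l₁⁻¹ * c₁⁻¹) * c₁ * l₂⁻¹ := by rw [← hc1 (l₁ * l₂ * l₁⁻¹ * c₁⁻¹)]
          _ = l₁ * l₂ * l₁⁻¹ * l₂⁻¹ := by group
      rw [this]
      exact Subgroup.commutator_le_self L (Subgroup.commutator_mem_commutator hl₁ hl₂)
    have hz1 : z ∈ Subgroup.center Γ ⊓ L := ⟨hzc, hcomm hzcomm⟩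
    rw [hdisj.eq_bot, Subgroup.mem_bot] at hz1
    rw [hz1, orderOf_one] at hord
    omega

/-- two involutions whose product is an involution commute -/
theorem comm_of_sq {G : Type*} [Group G] (s t : G) (hs : s * s = 1) (ht : t * t = 1)
    (hst : (s * t) * (s * t) = 1) : s * t = t * s := by
  have hsinv : s⁻¹ = s := inv_eq_of_mul_eq_one_right hs
  have htinv : t⁻¹ = t := inv_eq_of_mul_eq_one_right ht
  calc s * t = s⁻¹ * t⁻¹ := by rw [hsinv, htinv]
    _ = s⁻¹ * 1 * t⁻¹ := by group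
    _ = s⁻¹ * ((s * t) * (s * t)) * t⁻¹ := by rw [hst]
    _ = t * s := by group

/-- The spin double cover of `A₈`: non-split, with two distinct involutions. -/
theorem exists_nonsplit_A8 (e : PresentedGroup (mooreRels 8) ≃* alternatingGroup (Fin 8)) :
    ∃ (H : Type) (_ : Group H) (_ : Finite H),
      Cfsg.IsNonsplitDoubleCover H (alternatingGroup (Fin 8)) ∧
        ∃ x y : H, x ≠ y ∧ orderOf x = 2 ∧ orderOf y = 2 := by
  have hspin := gen_spin 8
  have hne := neg_one_ne_one 8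
  obtain ⟨Γ, i1, i2, π, ρ, z, hsurj, hker, hord, hzc, hzcomm, hρz, hinj, hgen⟩ :=
    exists_double_cover_struct (by norm_num) hspin hne e
  have hA : Subgroup.center (alternatingGroup (Fin 8)) = ⊥ :=
    alternatingGroup.center_eq_bot (by simp)
  refine ⟨Γ, i1, i2, nonsplit_of_struct π z hsurj hker hord hzc hzcomm hA, ?_⟩
  let k1 : Fin (8 - 2) := ⟨1, by norm_num⟩
  let k3 : Fin (8 - 2) := ⟨3, by norm_num⟩
  let k5 : Fin (8 - 2) := ⟨5, by norm_num⟩
  obtain ⟨γ₁, hπ1, hρ1⟩ := hgen k1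
  obtain ⟨γ₃, hπ3, hρ3⟩ := hgen k3
  obtain ⟨γ₅, hπ5, hρ5⟩ := hgen k5
  let p1 : PresentedGroup (mooreRels 8) := PresentedGroup.of k1
  let p3 : PresentedGroup (mooreRels 8) := PresentedGroup.of k3
  let p5 : PresentedGroup (mooreRels 8) := PresentedGroup.of k5
  have hsq : ∀ k : Fin (8 - 2), 1 ≤ k.val →
      (PresentedGroup.of k : PresentedGroup (mooreRels 8)) * PresentedGroup.of k = 1 := by
    intro k hk
    show PresentedGroup.mk (mooreRels 8) (FreeGroup.of k * FreeGroup.of k) = 1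
    rw [← pow_two]
    exact PresentedGroup.one_of_mem (Or.inl (Or.inl (Or.inr ⟨k, hk, rfl⟩)))
  have hpair : ∀ k l : Fin (8 - 2), k.val + 1 < l.val →
      ((PresentedGroup.of k : PresentedGroup (mooreRels 8)) * PresentedGroup.of l) *
        (PresentedGroup.of k * PresentedGroup.of l) = 1 := by
    intro k l hkl
    show PresentedGroup.mk (mooreRels 8)
      ((FreeGroup.of k * FreeGroup.of l) * (FreeGroup.of k * FreeGroup.of l)) = 1
    rw [← pow_two]
    exact PresentedGroup.one_of_mem (Or.inr ⟨k, l, hkl, rfl⟩)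
  have h11 : p1 * p1 = 1 := hsq k1 (by show 1 ≤ 1; norm_num)
  have h33 : p3 * p3 = 1 := hsq k3 (by show 1 ≤ 3; norm_num)
  have h55 : p5 * p5 = 1 := hsq k5 (by show 1 ≤ 5; norm_num)
  have h13 : p1 * p3 = p3 * p1 := comm_of_sq p1 p3 h11 h33 (hpair k1 k3 (by show 1 + 1 < 3; norm_num))
  have h15 : p1 * p5 = p5 * p1 := comm_of_sq p1 p5 h11 h55 (hpair k1 k5 (by show 1 + 1 < 5; norm_num))
  have h35 : p3 * p5 = p5 * p3 := comm_of_sq p3 p5 h33 h55 (hpair k3 k5 (by show 3 + 1 < 5; norm_num))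
  have hP : (p1 * p3 * p5) * (p1 * p3 * p5) = 1 := by
    calc p1 * p3 * p5 * (p1 * p3 * p5) = p1 * p3 * (p5 * p1) * p3 * p5 := by group
      _ = p1 * (p3 * p1) * p5 * p3 * p5 := by rw [← h15]; group
      _ = (p1 * p1) * p3 * (p5 * p3) * p5 := by rw [← h13]; group
      _ = (p1 * p1) * (p3 * p3) * (p5 * p5) := by rw [← h35]; group
      _ = 1 := by rw [h11, h33, h55]; group
  set y : Γ := γ₁ * γ₃ * γ₅ with hy
  have hπy : π y = e (p1 * p3 * p5) := by
    rw [hy, map_mul, map_mul, hπ1, hπ3, hπ5, map_mul, map_mul]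
  have hρy : ρ y = X (gen 8) 1 * X (gen 8) 3 * X (gen 8) 5 := by
    rw [hy, map_mul, map_mul, hρ1, hρ3, hρ5]
  have hyy : y * y = 1 := by
    apply hinj
    · rw [map_mul, hπy, ← map_mul, hP, map_one, map_one]
    · rw [map_mul, hρy, map_one]
      exact X135_sq hspin le_rfl
  obtain ⟨hy1, hy2⟩ := X135_ne hspin le_rfl hne
  have hyne1 : y ≠ 1 := by
    intro h
    apply hy1
    rw [← hρy, h, map_one]
  have hynez : z ≠ y := by
    intro h
    apply hy2
    rw [← hρy, ← h, hρz]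
  refine ⟨z, y, hynez, hord, ?_⟩
  haveI : Fact (Nat.Prime 2) := ⟨Nat.prime_two⟩
  exact orderOf_eq_prime (by rw [pow_two]; exact hyy) hyne1

end Cfsg.Agent.Lib.Helper53.Spin
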