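import Mathlib
import Cfsg.Agent.Lib.Helper53.AltCentral

/-!
Normalising lifts of the first two Moore generators in a central extension (helper53).
-/

set_option autoImplicit false

namespace Cfsg.Agent.Lib.Helper53.AltMult

section pure

variable {G : Type*} [Group G]

/-- if `s` inverts `t` up to a central `η` and `a = t³` is central then `η³ = a²` -/
theorem cube_of_conj_inv {s t η a : G} (hη : ∀ g, Commute η g) (hat : t * t * t = a)
    (ha : ∀ g, Commute a g) (h : s * t * s⁻¹ = η * t⁻¹) : η * η * η = a * a := by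
  have h1 : (s * t * s⁻¹) * (s * t * s⁻¹) * (s * t * s⁻¹) = a := by
    calc (s * t * s⁻¹) * (s * t * s⁻¹) * (s * t * s⁻¹) = s * (t * t * t) * s⁻¹ := by group
      _ = a := by rw [hat, ← (ha s).eq]; group
  have e1 : t⁻¹ * η = η * t⁻¹ := (hη t⁻¹).eq.symm
  have h2 : (η * t⁻¹) * (η * t⁻¹) * (η * t⁻¹) = η * η * η * a⁻¹ := by
    calc (η * t⁻¹) * (η * t⁻¹) * (η * t⁻¹) = η * (t⁻¹ * η) * (t⁻¹ * η) * t⁻¹ := by group
      _ = η * (η * t⁻¹) * (η * t⁻¹) * t⁻¹ := by rw [e1]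
      _ = η * η * (t⁻¹ * η) * t⁻¹ * t⁻¹ := by group
      _ = η * η * (η * t⁻¹) * t⁻¹ * t⁻¹ := by rw [e1]
      _ = η * η * η * (t * t * t)⁻¹ := by group
      _ = η * η * η * a⁻¹ := by rw [hat]
  rw [h, h2] at h1
  calc η * η * η = η * η * η * a⁻¹ * a := by group
    _ = a * a := by rw [h1]

/-- two elements inverting `t` up to central elements whose product squares into the centraliser
of `t`: the central factors differ by an element of order at most two -/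
theorem sq_of_conj_inv_pair {s s' t η η' : G} (hη : ∀ g, Commute η g) (hη' : ∀ g, Commute η' g)
    (hq : Commute ((s * s') * (s * s')) t)
    (h : s * t * s⁻¹ = η * t⁻¹) (h' : s' * t * s'⁻¹ = η' * t⁻¹) :
    (η' * η⁻¹) * (η' * η⁻¹) = 1 := by
  have hθ : ∀ g, Commute (η' * η⁻¹) g := fun g => (hη' g).mul_left ((hη g).inv_left)
  have h1 : (s * s') * t * (s * s')⁻¹ = (η' * η⁻¹) * t := by
    calc (s * s') * t * (s * s')⁻¹ = s * (s' * t * s'⁻¹) * s⁻¹ := by group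
      _ = s * (η' * t⁻¹) * s⁻¹ := by rw [h']
      _ = η' * (s * t * s⁻¹)⁻¹ := by rw [← mul_assoc, ← (hη' s).eq]; group
      _ = η' * (η * t⁻¹)⁻¹ := by rw [h]
      _ = η' * (t * η⁻¹) := by rw [mul_inv_rev, inv_inv]
      _ = (η' * η⁻¹) * t := by rw [← ((hη t).inv_left).eq, mul_assoc]
  have h2 : ((s * s') * (s * s')) * t * ((s * s') * (s * s'))⁻¹ =
      (η' * η⁻¹) * (η' * η⁻¹) * t := by
    calc ((s * s') * (s * s')) * t * ((s * s') * (s * s'))⁻¹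
        = (s * s') * ((s * s') * t * (s * s')⁻¹) * (s * s')⁻¹ := by group
      _ = (s * s') * ((η' * η⁻¹) * t) * (s * s')⁻¹ := by rw [h1]
      _ = (η' * η⁻¹) * ((s * s') * t * (s * s')⁻¹) := by
          rw [← mul_assoc, ← (hθ (s * s')).eq]; group
      _ = (η' * η⁻¹) * (η' * η⁻¹) * t := by rw [h1, ← mul_assoc]
  have h3 : ((s * s') * (s * s')) * t * ((s * s') * (s * s'))⁻¹ = t := by
    rw [hq.eq]; group
  rw [h3] at h2
  exact (mul_eq_right.mp h2.symm)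

/-- the normalised lift of the first generator -/
theorem normalize_zero {t a η : G} (hat : t * t * t = a) (hac : ∀ g, Commute a g)
    (hη : ∀ g, Commute η g) (h3 : η * η * η = a * a) :
    (t * (a⁻¹ * η)) * (t * (a⁻¹ * η)) * (t * (a⁻¹ * η)) = 1 ∧
      ∀ s, s * t * s⁻¹ = η * t⁻¹ → s * (t * (a⁻¹ * η)) * s⁻¹ = (t * (a⁻¹ * η))⁻¹ := by
  have hν : ∀ g, Commute (a⁻¹ * η) g := fun g => ((hac g).inv_left).mul_left (hη g)
  have e1 : η * a⁻¹ = a⁻¹ * η := ((hac η).inv_left).eq.symm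
  have h4 : η * ((a⁻¹ * η) * (a⁻¹ * η)) = 1 := by
    calc η * ((a⁻¹ * η) * (a⁻¹ * η)) = (η * a⁻¹) * (η * a⁻¹) * η := by group
      _ = (a⁻¹ * η) * (a⁻¹ * η) * η := by rw [e1]
      _ = a⁻¹ * (η * a⁻¹) * η * η := by group
      _ = a⁻¹ * (a⁻¹ * η) * η * η := by rw [e1]
      _ = (a⁻¹ * a⁻¹) * (η * η * η) := by group
      _ = 1 := by rw [h3]; group
  have h5 : (a⁻¹ * η)⁻¹ = η * (a⁻¹ * η) := by
    apply inv_eq_of_mul_eq_one_left
    rw [mul_assoc]; exact h4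
  constructor
  · have e2 : (a⁻¹ * η) * t = t * (a⁻¹ * η) := (hν t).eq
    calc (t * (a⁻¹ * η)) * (t * (a⁻¹ * η)) * (t * (a⁻¹ * η))
        = t * ((a⁻¹ * η) * t) * ((a⁻¹ * η) * t) * (a⁻¹ * η) := by group
      _ = t * (t * (a⁻¹ * η)) * (t * (a⁻¹ * η)) * (a⁻¹ * η) := by rw [e2]
      _ = t * t * ((a⁻¹ * η) * t) * (a⁻¹ * η) * (a⁻¹ * η) := by group
      _ = t * t * (t * (a⁻¹ * η)) * (a⁻¹ * η) * (a⁻¹ * η) := by rw [e2]
      _ = (t * t * t) * a⁻¹ * (η * ((a⁻¹ * η) * (a⁻¹ * η))) := by group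
      _ = 1 := by rw [h4, hat]; group
  · intro s hs
    have e3 : s * (a⁻¹ * η) = (a⁻¹ * η) * s := (hν s).eq.symm
    have e4 : t⁻¹ * (a⁻¹ * η) = (a⁻¹ * η) * t⁻¹ := (hν t⁻¹).eq.symm
    calc s * (t * (a⁻¹ * η)) * s⁻¹ = (s * t * s⁻¹) * (s * (a⁻¹ * η)) * s⁻¹ := by group
      _ = (η * t⁻¹) * ((a⁻¹ * η) * s) * s⁻¹ := by rw [hs, e3]
      _ = η * (t⁻¹ * (a⁻¹ * η)) := by group
      _ = η * ((a⁻¹ * η) * t⁻¹) := by rw [e4]
      _ = (η * (a⁻¹ * η)) * t⁻¹ := by group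
      _ = (t * (a⁻¹ * η))⁻¹ := by rw [← h5, ← mul_inv_rev]

/-- the normalised lift of the second generator -/
theorem normalize_one {x t b c : G} (hx : x * x * x = 1) (hbt : t * t = b)
    (hct : (x * t) * (x * t) * (x * t) = c) (hb : ∀ g, Commute b g)
    (hcc : ∀ g, Commute c g) (hε : Commute t (x * t * x⁻¹)) :
    (t * (b * c⁻¹)) * (t * (b * c⁻¹)) = 1 ∧
      (x * (t * (b * c⁻¹))) * (x * (t * (b * c⁻¹))) * (x * (t * (b * c⁻¹))) = 1 := by
  obtain ⟨y, hy⟩ : ∃ y, y = x * t * x⁻¹ := ⟨_, rfl⟩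
  obtain ⟨w, hw⟩ : ∃ w, w = x * y * x⁻¹ := ⟨_, rfl⟩
  rw [← hy] at hε
  have hxw : x * w * x⁻¹ = t := by
    rw [hw, hy]
    calc x * (x * (x * t * x⁻¹) * x⁻¹) * x⁻¹ = (x * x * x) * t * (x * x * x)⁻¹ := by group
      _ = t := by rw [hx]; group
  have hyw : Commute y w := by
    show y * w = w * y
    have e1 : y * w = x * (t * y) * x⁻¹ := by rw [hw]; nth_rewrite 1 [hy]; group
    have e2 : w * y = x * (y * t) * x⁻¹ := by rw [hw]; nth_rewrite 2 [hy]; group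
    rw [e1, e2, hε.eq]
  have hwt : Commute w t := by
    show w * t = t * w
    have e1 : w * t = x * (y * w) * x⁻¹ := by rw [← hxw]; nth_rewrite 1 [hw]; group
    have e2 : t * w = x * (w * y) * x⁻¹ := by rw [← hxw]; nth_rewrite 2 [hw]; group
    rw [e1, e2, hyw.eq]
  have hc1 : c = y * w * t := by
    rw [← hct, hw, hy]
    calc (x * t) * (x * t) * (x * t)
        = x * t * x⁻¹ * (x * (x * t * x⁻¹) * x⁻¹) * ((x * x * x) * t) := by group
      _ = x * t * x⁻¹ * (x * (x * t * x⁻¹) * x⁻¹) * t := by rw [hx, one_mul]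
  have hxb : x * b * x⁻¹ = b := by rw [← (hb x).eq]; group
  have hyy : y * y = b := by
    rw [hy]
    calc x * t * x⁻¹ * (x * t * x⁻¹) = x * (t * t) * x⁻¹ := by group
      _ = b := by rw [hbt, hxb]
  have hww : w * w = b := by
    rw [hw]
    calc x * y * x⁻¹ * (x * y * x⁻¹) = x * (y * y) * x⁻¹ := by group
      _ = b := by rw [hyy, hxb]
  have hcc2 : c * c = b * b * b := by
    rw [hc1]
    calc y * w * t * (y * w * t) = y * w * (t * y) * w * t := by group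
      _ = y * w * (y * t) * w * t := by rw [hε.eq]
      _ = y * (w * y) * (t * w) * t := by group
      _ = y * (y * w) * (w * t) * t := by rw [hyw.eq, hwt.eq]
      _ = (y * y) * (w * w) * (t * t) := by group
      _ = b * b * b := by rw [hyy, hww, hbt]
  have hbc : Commute b c := hb c
  have hμ : ∀ g, Commute (b * c⁻¹) g := fun g => (hb g).mul_left ((hcc g).inv_left)
  have e1 : c⁻¹ * b = b * c⁻¹ := (hbc.inv_right).eq.symm
  have hμ2 : (b * c⁻¹) * (b * c⁻¹) = b * b * (c * c)⁻¹ := by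
    calc (b * c⁻¹) * (b * c⁻¹) = b * (c⁻¹ * b) * c⁻¹ := by group
      _ = b * (b * c⁻¹) * c⁻¹ := by rw [e1]
      _ = b * b * (c * c)⁻¹ := by group
  have hμ3 : (b * c⁻¹) * (b * c⁻¹) * (b * c⁻¹) = c⁻¹ := by
    calc (b * c⁻¹) * (b * c⁻¹) * (b * c⁻¹) = b * b * (c * c)⁻¹ * (b * c⁻¹) := by rw [hμ2]
      _ = b * b * c⁻¹ * (c⁻¹ * b) * c⁻¹ := by group
      _ = b * b * c⁻¹ * (b * c⁻¹) * c⁻¹ := by rw [e1]
      _ = b * b * (c⁻¹ * b) * c⁻¹ * c⁻¹ := by group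
      _ = b * b * (b * c⁻¹) * c⁻¹ * c⁻¹ := by rw [e1]
      _ = (b * b * b) * (c * c)⁻¹ * c⁻¹ := by group
      _ = c⁻¹ := by rw [← hcc2]; group
  constructor
  · calc t * (b * c⁻¹) * (t * (b * c⁻¹)) = t * ((b * c⁻¹) * t) * (b * c⁻¹) := by group
      _ = t * (t * (b * c⁻¹)) * (b * c⁻¹) := by rw [(hμ t).eq]
      _ = (t * t) * ((b * c⁻¹) * (b * c⁻¹)) := by group
      _ = 1 := by rw [hμ2, hcc2, hbt]; group
  · have e2 : (b * c⁻¹) * (x * t) = (x * t) * (b * c⁻¹) := (hμ (x * t)).eq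
    calc (x * (t * (b * c⁻¹))) * (x * (t * (b * c⁻¹))) * (x * (t * (b * c⁻¹)))
        = (x * t) * ((b * c⁻¹) * (x * t)) * ((b * c⁻¹) * (x * t)) * (b * c⁻¹) := by group
      _ = (x * t) * ((x * t) * (b * c⁻¹)) * ((x * t) * (b * c⁻¹)) * (b * c⁻¹) := by rw [e2]
      _ = (x * t) * (x * t) * ((b * c⁻¹) * (x * t)) * (b * c⁻¹) * (b * c⁻¹) := by group
      _ = (x * t) * (x * t) * ((x * t) * (b * c⁻¹)) * (b * c⁻¹) * (b * c⁻¹) := by rw [e2]
      _ = ((x * t) * (x * t) * (x * t)) * ((b * c⁻¹) * (b * c⁻¹) * (b * c⁻¹)) := by group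
      _ = 1 := by rw [hct, hμ3, mul_inv_cancel]

end pure

end Cfsg.Agent.Lib.Helper53.AltMult
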