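import Mathlib
import Cfsg.Agent.Lib.Helper55.CarmichaelAbstract
import Cfsg.Agent.Lib.Helper53.AltNormalize

/-!
A central extension of a group with Moore's (Carmichael's) presentation of the alternating group on
at least eight letters splits as soon as the lifts of the two commuting involutions `g 1` and
`g 0 * g 1 * (g 0)⁻¹` commute (helper53).
-/

set_option autoImplicit false

namespace Cfsg.Agent.Lib.Helper53.AltMult

open Cfsg.Agent.Lib.Helper55

section pure

variable {G : Type*} [Group G]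

theorem eq_of_cube_eq_of_sq {p q : G} (h : Commute p q) (h3 : p * p * p = q * q * q)
    (h2 : (p * q⁻¹) * (p * q⁻¹) = 1) : p = q := by
  have e : q⁻¹ * p = p * q⁻¹ := (h.inv_right).eq.symm
  have hθ3 : (p * q⁻¹) * (p * q⁻¹) * (p * q⁻¹) = 1 := by
    calc (p * q⁻¹) * (p * q⁻¹) * (p * q⁻¹) = p * (q⁻¹ * p) * (q⁻¹ * p) * q⁻¹ := by group
      _ = p * (p * q⁻¹) * (p * q⁻¹) * q⁻¹ := by rw [e]
      _ = p * p * (q⁻¹ * p) * q⁻¹ * q⁻¹ := by group
      _ = p * p * (p * q⁻¹) * q⁻¹ * q⁻¹ := by rw [e]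
      _ = (p * p * p) * (q * q * q)⁻¹ := by group
      _ = 1 := by rw [h3]; group
  have : p * q⁻¹ = 1 := by
    calc p * q⁻¹ = ((p * q⁻¹) * (p * q⁻¹) * (p * q⁻¹)) * ((p * q⁻¹) * (p * q⁻¹))⁻¹ := by group
      _ = 1 := by rw [hθ3, h2]; group
  exact mul_inv_eq_one.1 this

/-- the relation linking the two kinds of four-groups -/
theorem link_rel {g0 g1 g3 : G} (h0 : g0 * g0 * g0 = 1) (h1 : g1 * g1 = 1) (h3 : g3 * g3 = 1)
    (h01 : (g0 * g1) * (g0 * g1) * (g0 * g1) = 1) (h30 : g3 * g0 * g3⁻¹ = g0⁻¹)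
    (h31 : g3 * g1 = g1 * g3) :
    (g3 * (g0 * g1 * g0⁻¹)) * (g3 * (g0 * g1 * g0⁻¹)) = g1 := by
  have h3inv : g3⁻¹ = g3 := inv_eq_of_mul_eq_one_left h3
  have h1inv : g1⁻¹ = g1 := inv_eq_of_mul_eq_one_left h1
  have h0inv : g0⁻¹ = g0 * g0 := by
    apply inv_eq_of_mul_eq_one_left; exact h0
  have e1 : g3 * g1 * g3⁻¹ = g1 := by rw [h31]; group
  have e2 : g3 * (g0 * g1 * g0⁻¹) * g3⁻¹ = g0⁻¹ * g1 * g0 := by
    calc g3 * (g0 * g1 * g0⁻¹) * g3⁻¹
        = (g3 * g0 * g3⁻¹) * (g3 * g1 * g3⁻¹) * (g3 * g0 * g3⁻¹)⁻¹ := by group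
      _ = g0⁻¹ * g1 * g0 := by rw [h30, e1, inv_inv]
  have e3 : (g0⁻¹ * g1) * (g0⁻¹ * g1) * (g0⁻¹ * g1) = 1 := by
    have key : (g0⁻¹ * g1⁻¹) * (g0⁻¹ * g1⁻¹) * (g0⁻¹ * g1⁻¹) = 1 := by
      calc (g0⁻¹ * g1⁻¹) * (g0⁻¹ * g1⁻¹) * (g0⁻¹ * g1⁻¹)
          = (g1 * ((g0 * g1) * (g0 * g1) * (g0 * g1)) * g1⁻¹)⁻¹ := by group
        _ = 1 := by rw [h01]; group
    rw [h1inv] at key
    exact key
  calc (g3 * (g0 * g1 * g0⁻¹)) * (g3 * (g0 * g1 * g0⁻¹))
      = (g3 * (g0 * g1 * g0⁻¹) * g3⁻¹) * (g3 * g3) * (g0 * g1 * g0⁻¹) := by group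
    _ = g0⁻¹ * g1 * (g0 * g0) * g1 * g0⁻¹ := by rw [e2, h3]; group
    _ = ((g0⁻¹ * g1) * (g0⁻¹ * g1) * (g0⁻¹ * g1)) * g1⁻¹ := by rw [← h0inv]; group
    _ = g1 := by rw [e3, h1inv, one_mul]

/-- braid conjugation for two involutions whose product has order three -/
theorem braid_conj {a b : G} (ha : a * a = 1) (hb : b * b = 1)
    (h : (a * b) * (a * b) * (a * b) = 1) : (a * b) * a * (a * b)⁻¹ = b := by
  have hainv : a⁻¹ = a := inv_eq_of_mul_eq_one_left ha
  have hbinv : b⁻¹ = b := inv_eq_of_mul_eq_one_left hb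
  calc (a * b) * a * (a * b)⁻¹ = a * b * a * b⁻¹ * a⁻¹ := by group
    _ = a * b * a * b * a := by rw [hainv, hbinv]
    _ = ((a * b) * (a * b) * (a * b)) * b⁻¹ := by group
    _ = b := by rw [h, hbinv, one_mul]

end pure

variable {E A : Type*} [Group E] [Group A] (π : E →* A)

/-- the chain of lifts -/
def chainLift (x0 x1 : E) (s : ℕ → E) : ℕ → E
  | 0 => x0
  | 1 => x1
  | (i + 2) => (chainLift x0 x1 s (i + 1) * s (i + 2)) * chainLift x0 x1 s (i + 1) *
      (chainLift x0 x1 s (i + 1) * s (i + 2))⁻¹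

section

variable (hsurj : Function.Surjective π) (hc : π.ker ≤ Subgroup.center E)
  {g : ℕ → A} {m : ℕ} (hg : IsCarm g m)
include hsurj hc hg

theorem exists_lift_zero (hm : 6 ≤ m) :
    ∃ x0 : E, π x0 = g 0 ∧ x0 * x0 * x0 = 1 ∧
      ∀ j, 2 ≤ j → j < m → ∀ t : E, π t = g j → t * x0 * t⁻¹ = x0⁻¹ := by
  obtain ⟨t0, ht0⟩ := hsurj (g 0)
  choose s hs using fun j => hsurj (g j)
  have h03 : g 0 * g 0 * g 0 = 1 := by
    have := hg.r0 (by omega); rwa [pow_succ, pow_two] at this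
  have ha : π (t0 * t0 * t0) = 1 := by rw [map_mul, map_mul, ht0, h03]
  have hac := commute_of_map_eq_one π hc ha
  obtain ⟨η, hηdef⟩ : ∃ η : ℕ → E, ∀ j, η j = s j * t0 * (s j)⁻¹ * t0 := ⟨_, fun _ => rfl⟩
  have hη : ∀ j, 2 ≤ j → j < m → π (η j) = 1 := by
    intro j h2 hj
    rw [hηdef, map_mul, map_mul, map_mul, map_inv, hs, ht0, hg.conj_eq_inv (by omega) hj,
      inv_mul_cancel]
  have hconj : ∀ j, s j * t0 * (s j)⁻¹ = η j * t0⁻¹ := by
    intro j; rw [hηdef]; group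
  have hcube : ∀ j, 2 ≤ j → j < m → η j * η j * η j = (t0 * t0 * t0) * (t0 * t0 * t0) :=
    fun j h2 hj =>
      cube_of_conj_inv (commute_of_map_eq_one π hc (hη j h2 hj)) rfl hac (hconj j)
  have heq : ∀ j k, 2 ≤ j → j + 2 ≤ k → k < m → η k = η j := by
    intro j k h2 hjk hk
    have hηj := commute_of_map_eq_one π hc (hη j h2 (by omega))
    have hηk := commute_of_map_eq_one π hc (hη k (by omega) hk)
    have hq : Commute ((s j * s k) * (s j * s k)) t0 := by
      apply commute_of_map_eq_one π hc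
      rw [map_mul, map_mul, hs, hs]
      have := hg.r3 j k (by omega) hk
      rwa [pow_two] at this
    have hθ2 := sq_of_conj_inv_pair hηj hηk hq (hconj j) (hconj k)
    exact eq_of_cube_eq_of_sq (hηk (η j))
      ((hcube k (by omega) hk).trans (hcube j h2 (by omega)).symm) hθ2
  have hall : ∀ j, 2 ≤ j → j < m → η j = η 2 := by
    intro j h2 hj
    rcases (by omega : j = 2 ∨ j = 3 ∨ 4 ≤ j) with rfl | rfl | h4
    · rfl
    · rw [← heq 3 5 (by omega) (by omega) (by omega), heq 2 5 (by omega) (by omega) (by omega)]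
    · exact heq 2 j (by omega) (by omega) hj
  have hη2 := commute_of_map_eq_one π hc (hη 2 (by omega) (by omega))
  obtain ⟨hx3, hxinv⟩ := normalize_zero (t := t0) rfl hac hη2 (hcube 2 (by omega) (by omega))
  refine ⟨t0 * ((t0 * t0 * t0)⁻¹ * η 2), ?_, hx3, ?_⟩
  · rw [map_mul, map_mul, map_inv, ha, hη 2 (by omega) (by omega), ht0]; group
  · intro j h2 hj t ht
    rw [conj_eq_of_map_eq π hc (ht.trans (hs j).symm)]
    apply hxinv
    rw [hconj, hall j h2 hj]

theorem exists_lift_one (hm : 2 ≤ m) {x0 : E} (hx0 : π x0 = g 0) (h3 : x0 * x0 * x0 = 1)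
    (hε : LiftsCommute π (g 1) (g 0 * g 1 * (g 0)⁻¹)) :
    ∃ x1 : E, π x1 = g 1 ∧ x1 * x1 = 1 ∧ (x0 * x1) * (x0 * x1) * (x0 * x1) = 1 := by
  obtain ⟨t1, ht1⟩ := hsurj (g 1)
  have hb : π (t1 * t1) = 1 := by
    rw [map_mul, ht1]; exact hg.mul_self le_rfl (by omega)
  have hcπ : π ((x0 * t1) * (x0 * t1) * (x0 * t1)) = 1 := by
    rw [map_mul, map_mul, map_mul, hx0, ht1]
    have := hg.r2 0 (by omega)
    rwa [pow_succ, pow_two] at this
  have hcomm : Commute t1 (x0 * t1 * x0⁻¹) :=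
    hε _ _ ht1 (by rw [map_mul, map_mul, map_inv, hx0, ht1])
  obtain ⟨h1, h2⟩ := normalize_one h3 rfl rfl (commute_of_map_eq_one π hc hb)
    (commute_of_map_eq_one π hc hcπ) hcomm
  refine ⟨_, ?_, h1, h2⟩
  rw [map_mul, map_mul, map_inv, hb, hcπ, ht1]; group

end

theorem carm_comm {g : ℕ → A} {m : ℕ} (hg : IsCarm g m) {i j : ℕ} (h1 : 1 ≤ i) (hij : i + 2 ≤ j)
    (hj : j < m) : g i * g j = g j * g i := by
  have h := hg.r3 i j (by omega) hj
  rw [pow_two] at h
  have := eq_inv_of_mul_eq_one_left h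
  rw [mul_inv_rev, hg.inv_eq h1 (by omega), hg.inv_eq (by omega) hj] at this
  exact this

theorem carm_cube {g : ℕ → A} {m : ℕ} (hg : IsCarm g m) {i : ℕ} (hi : i + 1 < m) :
    (g i * g (i + 1)) * (g i * g (i + 1)) * (g i * g (i + 1)) = 1 := by
  have := hg.r2 i hi
  rwa [pow_succ, pow_two] at this

section chain

variable (hc : π.ker ≤ Subgroup.center E) {g : ℕ → A} {m : ℕ} (hg : IsCarm g m)
include hc hg

theorem chainLift_map {x0 x1 : E} {s : ℕ → E} (hs : ∀ j, π (s j) = g j) {i : ℕ} (hi : i + 2 < m)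
    (hπ : π (chainLift x0 x1 s (i + 1)) = g (i + 1)) :
    π ((chainLift x0 x1 s (i + 1) * s (i + 2)) * chainLift x0 x1 s (i + 1) *
      (chainLift x0 x1 s (i + 1) * s (i + 2))⁻¹) = π (s (i + 2)) := by
  rw [map_mul, map_mul, map_inv, map_mul, hπ, hs]
  exact braid_conj (hg.mul_self (by omega) (by omega)) (hg.mul_self (by omega) hi)
    (carm_cube hg (by omega))

theorem chainLift_spec {x0 x1 : E} {s : ℕ → E} (hs : ∀ j, π (s j) = g j) (h1 : π x1 = g 1)
    (h11 : x1 * x1 = 1) :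
    ∀ i, i + 1 < m → π (chainLift x0 x1 s (i + 1)) = g (i + 1) ∧
      chainLift x0 x1 s (i + 1) * chainLift x0 x1 s (i + 1) = 1 := by
  intro i
  induction i with
  | zero => intro _; exact ⟨h1, h11⟩
  | succ i ih =>
    intro hi
    obtain ⟨hπ, hsq⟩ := ih (by omega)
    have hπ' := chainLift_map π hc hg (x0 := x0) (x1 := x1) hs (i := i) (by omega) hπ
    have := chain_step π hc hsq hπ'
    exact ⟨hπ'.trans (hs _), this.1⟩

theorem chainLift_braid {x0 x1 : E} {s : ℕ → E} (hs : ∀ j, π (s j) = g j) (h1 : π x1 = g 1)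
    (h11 : x1 * x1 = 1) (i : ℕ) (hi : i + 2 < m) :
    (chainLift x0 x1 s (i + 1) * chainLift x0 x1 s (i + 2)) ^ 3 = 1 := by
  obtain ⟨hπ, hsq⟩ := chainLift_spec π hc hg (x0 := x0) hs h1 h11 i (by omega)
  have hπ' := chainLift_map π hc hg (x0 := x0) (x1 := x1) hs (i := i) hi hπ
  exact (chain_step π hc hsq hπ').2

end chain

section commuting

variable (hsurj : Function.Surjective π) (hc : π.ker ≤ Subgroup.center E)
  {g : ℕ → A} {m : ℕ} (hg : IsCarm g m)
include hsurj hc hg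

theorem liftsCommute_base (hm : 4 ≤ m)
    (hε : LiftsCommute π (g 1) (g 0 * g 1 * (g 0)⁻¹)) : LiftsCommute π (g 1) (g 3) := by
  intro u v hu hv
  obtain ⟨y, hy⟩ := hsurj (g 0 * g 1 * (g 0)⁻¹)
  have h1 : Commute u y := hε u y hu hy
  have h03 : g 0 * g 0 * g 0 = 1 := by
    have := hg.r0 (by omega); rwa [pow_succ, pow_two] at this
  have hρ : π ((v * y) * (v * y)) = g 1 := by
    rw [map_mul, map_mul, hv, hy]
    exact link_rel h03 (hg.mul_self le_rfl (by omega)) (hg.mul_self (by omega) (by omega))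
      (carm_cube hg (by omega)) (hg.conj_eq_inv (by omega) (by omega))
      (carm_comm hg le_rfl (by omega) (by omega)).symm
  have h2 : Commute u (v * y) := by
    have h3 : Commute ((v * y) * (v * y)) (v * y) :=
      (Commute.refl (v * y)).mul_left (Commute.refl (v * y))
    exact liftsCommute_of_commute π hc h3 u (v * y) (hu.trans hρ.symm) rfl
  have e : v = (v * y) * y⁻¹ := by group
  rw [e]
  exact h2.mul_right h1.inv_right

theorem liftsCommute_row (hm : 4 ≤ m)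
    (hε : LiftsCommute π (g 1) (g 0 * g 1 * (g 0)⁻¹)) :
    ∀ j, j + 3 < m → LiftsCommute π (g 1) (g (j + 3)) := by
  intro j
  induction j with
  | zero => intro _; exact liftsCommute_base π hsurj hc hg hm hε
  | succ j ih =>
    intro hj
    have h := (ih (by omega)).conj π hsurj (g (j + 3) * g (j + 4))
    have e1 : g (j + 3) * g (j + 4) * g 1 * (g (j + 3) * g (j + 4))⁻¹ = g 1 := by
      have c1 := carm_comm hg (i := 1) (j := j + 3) le_rfl (by omega) (by omega)
      have c2 := carm_comm hg (i := 1) (j := j + 4) le_rfl (by omega) (by omega)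
      calc g (j + 3) * g (j + 4) * g 1 * (g (j + 3) * g (j + 4))⁻¹
          = g (j + 3) * (g (j + 4) * g 1) * (g (j + 3) * g (j + 4))⁻¹ := by group
        _ = g (j + 3) * (g 1 * g (j + 4)) * (g (j + 3) * g (j + 4))⁻¹ := by rw [c2]
        _ = (g (j + 3) * g 1) * g (j + 4) * (g (j + 3) * g (j + 4))⁻¹ := by group
        _ = (g 1 * g (j + 3)) * g (j + 4) * (g (j + 3) * g (j + 4))⁻¹ := by rw [c1]
        _ = g 1 := by group
    have e2 : g (j + 3) * g (j + 4) * g (j + 3) * (g (j + 3) * g (j + 4))⁻¹ = g (j + 4) :=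
      braid_conj (hg.mul_self (by omega) (by omega)) (hg.mul_self (by omega) (by omega))
        (carm_cube hg (by omega))
    rw [e1, e2] at h
    exact h

theorem liftsCommute_all (hm : 4 ≤ m)
    (hε : LiftsCommute π (g 1) (g 0 * g 1 * (g 0)⁻¹)) :
    ∀ i j, j + i + 3 < m → LiftsCommute π (g (i + 1)) (g (j + i + 3)) := by
  intro i
  induction i with
  | zero => intro j hj; exact liftsCommute_row π hsurj hc hg hm hε j (by omega)
  | succ i ih =>
    intro j hj
    have h := (ih (j + 1) (by omega)).conj π hsurj (g (i + 1) * g (i + 2))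
    have hidx : j + 1 + i + 3 = j + (i + 1) + 3 := by omega
    rw [hidx] at h
    have e1 : g (i + 1) * g (i + 2) * g (i + 1) * (g (i + 1) * g (i + 2))⁻¹ = g (i + 2) :=
      braid_conj (hg.mul_self (by omega) (by omega)) (hg.mul_self (by omega) (by omega))
        (carm_cube hg (by omega))
    have e2 : g (i + 1) * g (i + 2) * g (j + (i + 1) + 3) * (g (i + 1) * g (i + 2))⁻¹ =
        g (j + (i + 1) + 3) := by
      have c1 := carm_comm hg (i := i + 1) (j := j + (i + 1) + 3) (by omega) (by omega) (by omega)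
      have c2 := carm_comm hg (i := i + 2) (j := j + (i + 1) + 3) (by omega) (by omega) (by omega)
      calc g (i + 1) * g (i + 2) * g (j + (i + 1) + 3) * (g (i + 1) * g (i + 2))⁻¹
          = g (i + 1) * (g (i + 2) * g (j + (i + 1) + 3)) * (g (i + 1) * g (i + 2))⁻¹ := by group
        _ = g (i + 1) * (g (j + (i + 1) + 3) * g (i + 2)) * (g (i + 1) * g (i + 2))⁻¹ := by
            rw [c2]
        _ = (g (i + 1) * g (j + (i + 1) + 3)) * g (i + 2) * (g (i + 1) * g (i + 2))⁻¹ := by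
            group
        _ = (g (j + (i + 1) + 3) * g (i + 1)) * g (i + 2) * (g (i + 1) * g (i + 2))⁻¹ := by
            rw [c1]
        _ = g (j + (i + 1) + 3) := by group
    rw [e1, e2] at h
    exact h

end commuting

open scoped commutatorElement in
/-- **Splitting.** A central extension of a group `A` of order at least `(m+2)!/2` generated by
elements with Moore's relations (`m ≥ 6`) in which the lifts of `g 1` and `g 0 * g 1 * (g 0)⁻¹`
commute has a complement to the kernel containing the commutator subgroup. -/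
theorem commutator_inf_ker_eq_bot [Finite A] (hsurj : Function.Surjective π)
    (hc : π.ker ≤ Subgroup.center E) {g : ℕ → A} {m : ℕ} (hg : IsCarm g m) (hm : 6 ≤ m)
    (hgen : carmH g m = ⊤) (hcard : (m + 2).factorial ≤ 2 * Nat.card A)
    (hε : LiftsCommute π (g 1) (g 0 * g 1 * (g 0)⁻¹)) :
    commutator E ⊓ π.ker = ⊥ := by
  obtain ⟨x0, hx0, hx03, hx0inv⟩ := exists_lift_zero π hsurj hc hg hm
  obtain ⟨x1, hx1, hx11, hx01⟩ := exists_lift_one π hsurj hc hg (by omega) hx0 hx03 hε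
  choose s hs using fun j => hsurj (g j)
  obtain ⟨X, hX⟩ : ∃ X : ℕ → E, X = chainLift x0 x1 s := ⟨_, rfl⟩
  have hX0 : X 0 = x0 := by rw [hX]; rfl
  have hX1 : X 1 = x1 := by rw [hX]; rfl
  have hspec := chainLift_spec π hc hg (x0 := x0) hs hx1 hx11
  rw [← hX] at hspec
  have hXπ : ∀ i, i < m → π (X i) = g i := by
    intro i hi
    rcases Nat.eq_zero_or_pos i with rfl | hpos
    · rw [hX0]; exact hx0
    · obtain ⟨k, rfl⟩ : ∃ k, i = k + 1 := ⟨i - 1, by omega⟩
      exact (hspec k hi).1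
  have hXsq : ∀ i, 1 ≤ i → i < m → X i * X i = 1 := by
    intro i h1 hi
    obtain ⟨k, rfl⟩ : ∃ k, i = k + 1 := ⟨i - 1, by omega⟩
    exact (hspec k hi).2
  have hcomm := liftsCommute_all π hsurj hc hg (by omega) hε
  have hXcarm : IsCarm X m := by
    refine ⟨?_, ?_, ?_, ?_⟩
    · intro _
      rw [hX0, pow_succ, pow_two]; exact hx03
    · intro i h1 hi
      rw [pow_two]; exact hXsq i h1 hi
    · intro i hi
      rcases Nat.eq_zero_or_pos i with rfl | hpos
      · rw [hX0, hX1, pow_succ, pow_two]; exact hx01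
      · obtain ⟨k, rfl⟩ : ∃ k, i = k + 1 := ⟨i - 1, by omega⟩
        rw [hX]
        exact chainLift_braid π hc hg hs hx1 hx11 k (by omega)
    · intro i j hij hj
      rcases Nat.eq_zero_or_pos i with rfl | hpos
      · have h1 := hx0inv j (by omega) hj (X j) (hXπ j hj)
        have h2 := hXsq j (by omega) hj
        have hinv : (X j)⁻¹ = X j := inv_eq_of_mul_eq_one_left h2
        rw [hinv] at h1
        rw [hX0, pow_two]
        calc x0 * X j * (x0 * X j) = x0 * (X j * x0 * X j) := by group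
          _ = 1 := by rw [h1, mul_inv_cancel]
      · obtain ⟨k, rfl⟩ : ∃ k, i = k + 1 := ⟨i - 1, by omega⟩
        obtain ⟨l, rfl⟩ : ∃ l, j = l + k + 3 := ⟨j - k - 3, by omega⟩
        have hcm : Commute (X (k + 1)) (X (l + k + 3)) :=
          hcomm k l hj _ _ (hXπ _ (by omega)) (hXπ _ hj)
        rw [pow_two]
        calc X (k + 1) * X (l + k + 3) * (X (k + 1) * X (l + k + 3))
            = X (k + 1) * (X (l + k + 3) * X (k + 1)) * X (l + k + 3) := by group
          _ = X (k + 1) * (X (k + 1) * X (l + k + 3)) * X (l + k + 3) := by rw [hcm.eq]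
          _ = (X (k + 1) * X (k + 1)) * (X (l + k + 3) * X (l + k + 3)) := by group
          _ = 1 := by rw [hXsq _ (by omega) (by omega), hXsq _ (by omega) hj, one_mul]
  -- the complement
  obtain ⟨hfin, hcardE0⟩ := hXcarm.card_bound m le_rfl
  obtain ⟨E0, hE0⟩ : ∃ E0 : Subgroup E, E0 = carmH X m := ⟨_, rfl⟩
  rw [← hE0] at hfin hcardE0
  have hmap : E0.map π = ⊤ := by
    rw [← hgen, hE0]
    unfold carmH
    rw [MonoidHom.map_closure]
    congr 1
    ext a
    constructor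
    · rintro ⟨_, ⟨i, hi, rfl⟩, rfl⟩
      exact ⟨i, hi, hXπ i hi⟩
    · rintro ⟨i, hi, rfl⟩
      exact ⟨X i, ⟨i, hi, rfl⟩, hXπ i hi⟩
  have hρsurj : Function.Surjective (π.comp E0.subtype) := by
    intro a
    have : a ∈ E0.map π := by rw [hmap]; trivial
    obtain ⟨e, he, rfl⟩ := this
    exact ⟨⟨e, he⟩, rfl⟩
  have hρbij : Function.Bijective (π.comp E0.subtype) :=
    Function.Surjective.bijective_of_nat_card_le hρsurj (by omega)
  have hdecomp : ∀ e : E, ∃ e0 ∈ E0, π e = π e0 := by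
    intro e
    obtain ⟨⟨e0, he0⟩, h⟩ := hρsurj (π e)
    exact ⟨e0, he0, h.symm⟩
  have hcomm_le : commutator E ≤ E0 := by
    rw [commutator_def, Subgroup.commutator_le]
    intro a _ b _
    obtain ⟨a0, ha0, ha⟩ := hdecomp a
    obtain ⟨b0, hb0, hb⟩ := hdecomp b
    have e : ⁅a, b⁆ = ⁅a0, b0⁆ := by
      rw [commutatorElement_def, commutatorElement_def, conj_eq_of_map_eq π hc ha b]
      calc a0 * b * a0⁻¹ * b⁻¹ = a0 * (b * a0⁻¹ * b⁻¹) := by group
        _ = a0 * (b0 * a0⁻¹ * b0⁻¹) := by rw [conj_eq_of_map_eq π hc hb a0⁻¹]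
        _ = a0 * b0 * a0⁻¹ * b0⁻¹ := by group
    rw [e, commutatorElement_def]
    exact E0.mul_mem (E0.mul_mem (E0.mul_mem ha0 hb0) (E0.inv_mem ha0)) (E0.inv_mem hb0)
  rw [eq_bot_iff]
  rintro x ⟨hx1', hx2⟩
  have hxE0 : x ∈ E0 := hcomm_le hx1'
  have hπx : π x = 1 := MonoidHom.mem_ker.1 hx2
  have : (⟨x, hxE0⟩ : E0) = 1 := by
    apply hρbij.1
    show π x = π 1
    rw [hπx, map_one]
  rw [Subgroup.mem_bot]
  exact congrArg Subtype.val this

end Cfsg.Agent.Lib.Helper53.AltMult
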