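import Mathlib
import Cfsg.Agent.Lib.Helper53.AltSplit

/-!
The kernel of a stem extension of a group with Moore's presentation of the alternating group on at
least eight letters has order at most two (helper53).
-/

set_option autoImplicit false

namespace Cfsg.Agent.Lib.Helper53.AltMult

open Cfsg.Agent.Lib.Helper55

section pure

variable {G : Type*} [Group G]

/-- in the group `⟨x, a | x³ = a² = (xa)³ = 1⟩` the involutions `a` and `x a x⁻¹` commute -/
theorem v4_comm {x a : G} (hx : x * x * x = 1) (ha : a * a = 1)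
    (h : (x * a) * (x * a) * (x * a) = 1) : a * (x * a * x⁻¹) = (x * a * x⁻¹) * a := by
  obtain ⟨b, hb⟩ : ∃ b, b = x * a * x⁻¹ := ⟨_, rfl⟩
  obtain ⟨c, hcdef⟩ : ∃ c, c = x * b * x⁻¹ := ⟨_, rfl⟩
  rw [← hb]
  have hbb : b * b = 1 := by
    rw [hb]
    calc x * a * x⁻¹ * (x * a * x⁻¹) = x * (a * a) * x⁻¹ := by group
      _ = 1 := by rw [ha]; group
  have hbca : b * c * a = 1 := by
    rw [← h, hcdef, hb]
    calc x * a * x⁻¹ * (x * (x * a * x⁻¹) * x⁻¹) * a
        = x * a * x⁻¹ * (x * (x * a * x⁻¹) * x⁻¹) * (1 * a) := by rw [one_mul]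
      _ = x * a * x⁻¹ * (x * (x * a * x⁻¹) * x⁻¹) * ((x * x * x) * a) := by rw [hx]
      _ = (x * a) * (x * a) * (x * a) := by group
  have hxc : x * c * x⁻¹ = a := by
    rw [hcdef, hb]
    calc x * (x * (x * a * x⁻¹) * x⁻¹) * x⁻¹ = (x * x * x) * a * (x * x * x)⁻¹ := by group
      _ = a := by rw [hx]; group
  have hcab : c * a * b = 1 := by
    calc c * a * b = (x * b * x⁻¹) * (x * c * x⁻¹) * (x * a * x⁻¹) := by
          rw [← hcdef, hxc, ← hb]
      _ = x * (b * c * a) * x⁻¹ := by group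
      _ = 1 := by rw [hbca]; group
  -- a b = c⁻¹ and b c = a⁻¹
  have h1 : a * b = c⁻¹ := by
    calc a * b = c⁻¹ * (c * a * b) := by group
      _ = c⁻¹ := by rw [hcab, mul_one]
  have h2 : b * c = a⁻¹ := by
    calc b * c = (b * c * a) * a⁻¹ := by group
      _ = a⁻¹ := by rw [hbca, one_mul]
  have hainv : a⁻¹ = a := inv_eq_of_mul_eq_one_left ha
  have hbinv : b⁻¹ = b := inv_eq_of_mul_eq_one_left hbb
  -- b a = b (b c)⁻¹... use a = (b c)⁻¹ = c⁻¹ b⁻¹
  have h3 : a = c⁻¹ * b := by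
    calc a = (a⁻¹)⁻¹ := by rw [inv_inv]
      _ = (b * c)⁻¹ := by rw [h2]
      _ = c⁻¹ * b := by rw [mul_inv_rev, hbinv]
  calc a * b = c⁻¹ := h1
    _ = c⁻¹ * (b * b) := by rw [hbb, mul_one]
    _ = (c⁻¹ * b) * b := by group
    _ = a * b := by rw [← h3]
    _ = c⁻¹ := h1
    _ = b * (b * c⁻¹) := by rw [← mul_assoc, hbb, one_mul]
    _ = b * a := by
        congr 1
        -- b c⁻¹ = a : from c a b = 1 → a b = c⁻¹ → ... use b c = a⁻¹ = a and c² = 1
        have hcc : c * c = 1 := by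
          rw [hcdef]
          calc x * b * x⁻¹ * (x * b * x⁻¹) = x * (b * b) * x⁻¹ := by group
            _ = 1 := by rw [hbb]; group
        have hcinv : c⁻¹ = c := inv_eq_of_mul_eq_one_left hcc
        rw [hcinv, h2, hainv]

/-- a central commutator with a central square has order at most two -/
theorem comm_sq {u y : G} (hb : Commute (u * u) y) (hε : ∀ g, Commute (u * y * u⁻¹ * y⁻¹) g) :
    (u * y * u⁻¹ * y⁻¹) * (u * y * u⁻¹ * y⁻¹) = 1 := by
  obtain ⟨ε, hεdef⟩ : ∃ ε, ε = u * y * u⁻¹ * y⁻¹ := ⟨_, rfl⟩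
  rw [← hεdef] at hε ⊢
  have h1 : u * y * u⁻¹ = ε * y := by rw [hεdef]; group
  have h2 : (u * u) * y * (u * u)⁻¹ = ε * ε * y := by
    calc (u * u) * y * (u * u)⁻¹ = u * (u * y * u⁻¹) * u⁻¹ := by group
      _ = u * (ε * y) * u⁻¹ := by rw [h1]
      _ = ε * (u * y * u⁻¹) := by rw [← mul_assoc, ← (hε u).eq]; group
      _ = ε * ε * y := by rw [h1, mul_assoc]
  have h3 : (u * u) * y * (u * u)⁻¹ = y := by rw [hb.eq]; group
  rw [h3] at h2
  exact mul_eq_right.mp h2.symm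

end pure

open scoped commutatorElement in
/-- **The bound.** -/
theorem card_ker_le_two {Γ A : Type*} [Group Γ] [Group A] [Finite A] (π : Γ →* A)
    (hsurj : Function.Surjective π) (hc : π.ker ≤ Subgroup.center Γ)
    (hd : π.ker ≤ commutator Γ) {g : ℕ → A} {m : ℕ} (hg : IsCarm g m) (hm : 6 ≤ m)
    (hgen : carmH g m = ⊤) (hcard : (m + 2).factorial ≤ 2 * Nat.card A) :
    Nat.card π.ker ≤ 2 := by
  obtain ⟨u0, hu0⟩ := hsurj (g 0)
  obtain ⟨u1, hu1⟩ := hsurj (g 1)
  obtain ⟨y, hy⟩ : ∃ y, y = u0 * u1 * u0⁻¹ := ⟨_, rfl⟩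
  obtain ⟨ε, hεdef⟩ : ∃ ε, ε = u1 * y * u1⁻¹ * y⁻¹ := ⟨_, rfl⟩
  have hπy : π y = g 0 * g 1 * (g 0)⁻¹ := by rw [hy, map_mul, map_mul, map_inv, hu0, hu1]
  have h03 : g 0 * g 0 * g 0 = 1 := by
    have := hg.r0 (by omega); rwa [pow_succ, pow_two] at this
  have hεπ : π ε = 1 := by
    rw [hεdef, map_mul, map_mul, map_mul, map_inv, map_inv, hu1, hπy,
      v4_comm h03 (hg.mul_self le_rfl (by omega)) (carm_cube hg (by omega))]
    group
  have hεc := commute_of_map_eq_one π hc hεπ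
  have hb : π (u1 * u1) = 1 := by rw [map_mul, hu1]; exact hg.mul_self le_rfl (by omega)
  have hε2 : ε * ε = 1 := by
    rw [hεdef] at hεc ⊢
    exact comm_sq (commute_of_map_eq_one π hc hb y) hεc
  -- the quotient
  have hεcen : ε ∈ Subgroup.center Γ := hc (MonoidHom.mem_ker.2 hεπ)
  have hZ1n : (Subgroup.zpowers ε).Normal := by
    refine ⟨fun x hx t => ?_⟩
    have hxc : x ∈ Subgroup.center Γ := (Subgroup.zpowers_le.2 hεcen) hx
    have : t * x * t⁻¹ = x := by
      rw [Subgroup.mem_center_iff] at hxc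
      rw [hxc t, mul_inv_cancel_right]
    rw [this]; exact hx
  have hZ1le : Subgroup.zpowers ε ≤ π.ker := Subgroup.zpowers_le.2 (MonoidHom.mem_ker.2 hεπ)
  let πbar : Γ ⧸ Subgroup.zpowers ε →* A := QuotientGroup.lift (Subgroup.zpowers ε) π hZ1le
  have hπbar : ∀ x : Γ, πbar (QuotientGroup.mk x) = π x := fun x => rfl
  have hsurjbar : Function.Surjective πbar := by
    intro a
    obtain ⟨x, rfl⟩ := hsurj a
    exact ⟨QuotientGroup.mk x, rfl⟩
  have hcbar : πbar.ker ≤ Subgroup.center (Γ ⧸ Subgroup.zpowers ε) := by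
    intro xb hxb
    obtain ⟨x, rfl⟩ := QuotientGroup.mk_surjective xb
    have hx : x ∈ Subgroup.center Γ := hc (MonoidHom.mem_ker.2 (MonoidHom.mem_ker.1 hxb))
    rw [Subgroup.mem_center_iff]
    intro tb
    obtain ⟨t, rfl⟩ := QuotientGroup.mk_surjective tb
    rw [← QuotientGroup.mk_mul, ← QuotientGroup.mk_mul, Subgroup.mem_center_iff.1 hx t]
  have hcommbar : Commute (QuotientGroup.mk u1 : Γ ⧸ Subgroup.zpowers ε) (QuotientGroup.mk y) := by
    show (QuotientGroup.mk u1 : Γ ⧸ Subgroup.zpowers ε) * QuotientGroup.mk y =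
      QuotientGroup.mk y * QuotientGroup.mk u1
    rw [← QuotientGroup.mk_mul, ← QuotientGroup.mk_mul, QuotientGroup.eq]
    have : (u1 * y)⁻¹ * (y * u1) =
        ((y * u1)⁻¹ * (u1 * y * u1⁻¹ * y⁻¹) * (y * u1))⁻¹ := by group
    rw [this, ← hεdef]
    have hcy := (hεc (y * u1)).eq
    have : (y * u1)⁻¹ * ε * (y * u1) = ε := by
      calc (y * u1)⁻¹ * ε * (y * u1) = (y * u1)⁻¹ * (ε * (y * u1)) := by group
        _ = (y * u1)⁻¹ * ((y * u1) * ε) := by rw [hcy]
        _ = ε := by group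
    rw [this]
    exact Subgroup.inv_mem _ (Subgroup.mem_zpowers ε)
  have hεbar : LiftsCommute πbar (g 1) (g 0 * g 1 * (g 0)⁻¹) := by
    have := liftsCommute_of_commute πbar hcbar hcommbar
    rwa [hπbar, hπbar, hu1, hπy] at this
  have hbot := commutator_inf_ker_eq_bot πbar hsurjbar hcbar hg hm hgen hcard hεbar
  have hle : π.ker ≤ Subgroup.zpowers ε := by
    intro z hz
    have h1 : (QuotientGroup.mk z : Γ ⧸ Subgroup.zpowers ε) ∈
        commutator (Γ ⧸ Subgroup.zpowers ε) := by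
      have h2 : (QuotientGroup.mk' (Subgroup.zpowers ε)) z ∈
          Subgroup.map (QuotientGroup.mk' (Subgroup.zpowers ε)) (commutator Γ) :=
        Subgroup.mem_map_of_mem _ (hd hz)
      rw [commutator_def, Subgroup.map_commutator] at h2
      rw [commutator_def]
      exact Subgroup.commutator_mono le_top le_top h2
    have h3 : (QuotientGroup.mk z : Γ ⧸ Subgroup.zpowers ε) ∈ πbar.ker := by
      rw [MonoidHom.mem_ker, hπbar]; exact MonoidHom.mem_ker.1 hz
    have h4 : (QuotientGroup.mk z : Γ ⧸ Subgroup.zpowers ε) ∈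
        commutator (Γ ⧸ Subgroup.zpowers ε) ⊓ πbar.ker := ⟨h1, h3⟩
    rw [hbot, Subgroup.mem_bot, QuotientGroup.eq_one_iff] at h4
    exact h4
  have hord : orderOf ε ∣ 2 := orderOf_dvd_of_pow_eq_one (by rw [pow_two]; exact hε2)
  have hpos : 0 < orderOf ε := Nat.pos_of_dvd_of_pos hord (by norm_num)
  haveI : Finite (Subgroup.zpowers ε) :=
    Nat.finite_of_card_ne_zero (by rw [Nat.card_zpowers]; omega)
  calc Nat.card π.ker ≤ Nat.card (Subgroup.zpowers ε) := Subgroup.card_le_of_le hle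
    _ = orderOf ε := Nat.card_zpowers ε
    _ ≤ 2 := Nat.le_of_dvd (by norm_num) hord

end Cfsg.Agent.Lib.Helper53.AltMult
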