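import Mathlib
import Cfsg.Agent.S3335
import Cfsg.Agent.Lib.Helper53.AltBound

/-!
Moore generators of the alternating group from its presentation, and the bound for the kernels of
the stem extensions of `A_n`, `n ≥ 8` (helper53).
-/

set_option autoImplicit false

namespace Cfsg.Agent.Lib.Helper53.AltMult

open Cfsg.Agent.Lib.Helper55

theorem isCarm_map {G H : Type*} [Group G] [Group H] (f : G →* H) {x : ℕ → G} {m : ℕ}
    (h : IsCarm x m) : IsCarm (fun i => f (x i)) m where
  r0 := fun hm => by rw [← map_pow, h.r0 hm, map_one]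
  r1 := fun i h1 hi => by rw [← map_pow, h.r1 i h1 hi, map_one]
  r2 := fun i hi => by rw [← map_mul, ← map_pow, h.r2 i hi, map_one]
  r3 := fun i j hij hj => by rw [← map_mul, ← map_pow, h.r3 i j hij hj, map_one]

/-- Moore generators of the alternating group -/
theorem exists_carm_alternating (n : ℕ) (hn : 3 ≤ n) :
    ∃ g : ℕ → alternatingGroup (Fin n), IsCarm g (n - 2) ∧ carmH g (n - 2) = ⊤ := by
  classical
  obtain ⟨e⟩ := Cfsg.Agent.S3335.result n hn
  set rels : Set (FreeGroup (Fin (n - 2))) :=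
      ({g : FreeGroup (Fin (n - 2)) | ∃ i : Fin (n - 2), i.val = 0 ∧ g = FreeGroup.of i ^ 3} ∪
       {g | ∃ i : Fin (n - 2), 1 ≤ i.val ∧ g = FreeGroup.of i ^ 2} ∪
       {g | ∃ i j : Fin (n - 2), j.val = i.val + 1 ∧ g = (FreeGroup.of i * FreeGroup.of j) ^ 3} ∪
       {g | ∃ i j : Fin (n - 2), i.val + 1 < j.val ∧ g = (FreeGroup.of i * FreeGroup.of j) ^ 2})
    with hrelsdef
  let x : ℕ → PresentedGroup rels := fun i =>
    if h : i < n - 2 then PresentedGroup.of ⟨i, h⟩ else 1
  have hxof : ∀ i : Fin (n - 2), x i.val = PresentedGroup.of i := by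
    intro i
    simp only [x, dif_pos i.isLt]
  have hmk : ∀ i : Fin (n - 2), PresentedGroup.mk rels (FreeGroup.of i) = x i.val := by
    intro i; rw [hxof]; rfl
  have hx : IsCarm x (n - 2) := by
    refine ⟨?_, ?_, ?_, ?_⟩
    · intro h0
      have hmem : (FreeGroup.of (⟨0, h0⟩ : Fin (n - 2))) ^ 3 ∈ rels :=
        Or.inl (Or.inl (Or.inl ⟨⟨0, h0⟩, rfl, rfl⟩))
      have := PresentedGroup.one_of_mem hmem
      rw [map_pow, hmk] at this
      exact this
    · intro i h1 hi
      have hmem : (FreeGroup.of (⟨i, hi⟩ : Fin (n - 2))) ^ 2 ∈ rels :=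
        Or.inl (Or.inl (Or.inr ⟨⟨i, hi⟩, h1, rfl⟩))
      have := PresentedGroup.one_of_mem hmem
      rw [map_pow, hmk] at this
      exact this
    · intro i hi
      have hmem : (FreeGroup.of (⟨i, by omega⟩ : Fin (n - 2)) *
          FreeGroup.of (⟨i + 1, hi⟩ : Fin (n - 2))) ^ 3
          ∈ rels := Or.inl (Or.inr ⟨⟨i, by omega⟩, ⟨i + 1, hi⟩, rfl, rfl⟩)
      have := PresentedGroup.one_of_mem hmem
      rw [map_pow, map_mul, hmk, hmk] at this
      exact this
    · intro i j hij hj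
      have hmem : (FreeGroup.of (⟨i, by omega⟩ : Fin (n - 2)) *
          FreeGroup.of (⟨j, hj⟩ : Fin (n - 2))) ^ 2
          ∈ rels := Or.inr ⟨⟨i, by omega⟩, ⟨j, hj⟩, hij, rfl⟩
      have := PresentedGroup.one_of_mem hmem
      rw [map_pow, map_mul, hmk, hmk] at this
      exact this
  have htop : carmH x (n - 2) = ⊤ := by
    rw [eq_top_iff, ← PresentedGroup.closure_range_of rels]
    apply Subgroup.closure_mono
    rintro _ ⟨i, rfl⟩
    exact ⟨i.val, i.isLt, (hxof i).symm⟩
  refine ⟨fun i => e.toMonoidHom (x i), isCarm_map e.toMonoidHom hx, ?_⟩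
  have hmap : carmH (fun i => e.toMonoidHom (x i)) (n - 2) =
      (carmH x (n - 2)).map e.toMonoidHom := by
    unfold carmH
    rw [MonoidHom.map_closure]
    congr 1
    ext a
    constructor
    · rintro ⟨i, hi, rfl⟩
      exact ⟨x i, ⟨i, hi, rfl⟩, rfl⟩
    · rintro ⟨_, ⟨i, hi, rfl⟩, rfl⟩
      exact ⟨i, hi, rfl⟩
  rw [hmap, htop, eq_top_iff]
  intro a _
  exact ⟨e.symm a, Subgroup.mem_top _, e.apply_symm_apply a⟩

/-- The kernel of a stem extension of `A_n`, `n ≥ 8`, has at most two elements. -/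
theorem card_ker_le_two_of_eight_le (n : ℕ) (hn : 8 ≤ n) {Γ : Type*} [Group Γ]
    (π : Γ →* alternatingGroup (Fin n)) (hsurj : Function.Surjective π)
    (hc : π.ker ≤ Subgroup.center Γ) (hd : π.ker ≤ commutator Γ) : Nat.card π.ker ≤ 2 := by
  obtain ⟨g, hg, hgen⟩ := exists_carm_alternating n (by omega)
  refine card_ker_le_two π hsurj hc hd hg (by omega) hgen ?_
  haveI : Nontrivial (Fin n) := Fin.nontrivial_iff_two_le.mpr (by omega)
  have hA : 2 * Nat.card (alternatingGroup (Fin n)) = n.factorial := by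
    rw [two_mul_nat_card_alternatingGroup, Nat.card_eq_fintype_card, Fintype.card_perm,
      Fintype.card_fin]
  have hn2 : n - 2 + 2 = n := by omega
  rw [hn2, hA]

end Cfsg.Agent.Lib.Helper53.AltMult
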