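import Mathlib
import Cfsg.Prelude.Def_KGroupFacts
import Cfsg.Agent.Lib.Helper66.SchurBasic
import Cfsg.Agent.Lib.Helper66.UCE

/-!
The Schur multiplier of a central quotient of a perfect group with trivial multiplier (helper53):
if `G` is finite, perfect, with trivial Schur multiplier, and `Z` is a central subgroup, then the
Schur multiplier of `G ⧸ Z` is `Z`.
-/

set_option autoImplicit false

namespace Cfsg.Agent.Lib.Helper53.CQuot

open scoped commutatorElement
open Cfsg.Agent.Lib.Helper66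

universe u

variable {G : Type u} [Group G]

/-- Every finite stem extension of `G ⧸ Z` is covered by `G`. -/
theorem exists_cover [Finite G] [Group.IsPerfect G] (hG : Cfsg.HasCyclicSchurMultiplier G 1)
    (Z : Subgroup G) [Z.Normal]
    (Γ : Type u) [Group Γ] [Finite Γ] (σ : Γ →* G ⧸ Z) (hσ : Cfsg.IsStemExtension σ) :
    ∃ ψ : G →* Γ, Function.Surjective ψ ∧ ∀ g, σ (ψ g) = QuotientGroup.mk' Z g := by
  classical
  -- the pullback
  obtain ⟨P, hP⟩ : ∃ P : Subgroup (Γ × G), ∀ x, x ∈ P ↔ σ x.1 = QuotientGroup.mk' Z x.2 :=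
    ⟨(σ.comp (MonoidHom.fst Γ G)).eqLocus ((QuotientGroup.mk' Z).comp (MonoidHom.snd Γ G)),
      fun x => Iff.rfl⟩
  obtain ⟨p₂, hp₂⟩ : ∃ p₂ : P →* G, ∀ x : P, p₂ x = (x : Γ × G).2 :=
    ⟨(MonoidHom.snd Γ G).comp P.subtype, fun x => rfl⟩
  have hp₂surj : Function.Surjective p₂ := by
    intro g
    obtain ⟨γ, hγ⟩ := hσ.1 (QuotientGroup.mk' Z g)
    exact ⟨⟨(γ, g), (hP _).mpr hγ⟩, hp₂ _⟩
  have hp₂ker : p₂.ker ≤ Subgroup.center P := by
    intro x hx
    rw [MonoidHom.mem_ker, hp₂] at hx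
    have hx1 : (x : Γ × G).1 ∈ σ.ker := by
      rw [MonoidHom.mem_ker, (hP _).mp x.2, hx, map_one]
    have hcen := Subgroup.mem_center_iff.mp (hσ.2.1 hx1)
    rw [Subgroup.mem_center_iff]
    intro y
    apply Subtype.ext
    apply Prod.ext
    · exact hcen (y : Γ × G).1
    · show (y : Γ × G).2 * (x : Γ × G).2 = (x : Γ × G).2 * (y : Γ × G).2
      rw [hx, mul_one, one_mul]
  -- the commutator subgroup of the pullback maps isomorphically onto `G`
  have : Group.IsPerfect ↥(commutator P) := isPerfect_commutator_of_central p₂ hp₂surj hp₂ker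
  have hfsurj : Function.Surjective (p₂.comp (commutator P).subtype) :=
    commutator_restrict_surjective p₂ hp₂surj
  have hfker : (p₂.comp (commutator P).subtype).ker ≤ Subgroup.center ↥(commutator P) :=
    commutator_restrict_ker_le_center p₂ hp₂ker
  have hfstem : Cfsg.IsStemExtension (p₂.comp (commutator P).subtype) := by
    refine ⟨hfsurj, hfker, ?_⟩
    intro x _
    exact Group.IsPerfect.mem_commutator
  have hfinj : Function.Injective (p₂.comp (commutator P).subtype) := by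
    have := ker_eq_bot_of_hasCyclicSchurMultiplier_one hG ↥(commutator P)
      (p₂.comp (commutator P).subtype) hfstem
    exact (MonoidHom.ker_eq_bot_iff _).mp this
  obtain ⟨e, he⟩ : ∃ e : ↥(commutator P) ≃* G, ∀ x, e x = p₂ (x : P) :=
    ⟨MulEquiv.ofBijective _ ⟨hfinj, hfsurj⟩, fun x => rfl⟩
  obtain ⟨ψ, hψ⟩ : ∃ ψ : G →* Γ, ∀ g, ψ g = ((e.symm g : P) : Γ × G).1 :=
    ⟨(MonoidHom.fst Γ G).comp (P.subtype.comp ((commutator P).subtype.comp e.symm.toMonoidHom)),
      fun g => rfl⟩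
  have hσψ : ∀ g, σ (ψ g) = QuotientGroup.mk' Z g := by
    intro g
    rw [hψ, (hP _).mp (e.symm g : P).2, ← hp₂, ← he, MulEquiv.apply_symm_apply]
  have : Group.IsPerfect Γ := isPerfect_of_isStemExtension σ hσ
  refine ⟨ψ, ?_, hσψ⟩
  rw [← MonoidHom.range_eq_top, eq_top_iff, ← Group.IsPerfect.commutator_eq_top (G := Γ),
    commutator_eq_closure, Subgroup.closure_le]
  rintro _ ⟨a, b, rfl⟩
  obtain ⟨ga, hga⟩ := QuotientGroup.mk'_surjective Z (σ a)
  obtain ⟨gb, hgb⟩ := QuotientGroup.mk'_surjective Z (σ b)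
  have hpa : (a, ga) ∈ P := (hP _).mpr hga.symm
  have hpb : (b, gb) ∈ P := (hP _).mpr hgb.symm
  have hx : ⁅(⟨(a, ga), hpa⟩ : P), ⟨(b, gb), hpb⟩⁆ ∈ commutator P :=
    Subgroup.commutator_mem_commutator (Subgroup.mem_top _) (Subgroup.mem_top _)
  refine ⟨e ⟨_, hx⟩, ?_⟩
  rw [hψ, MulEquiv.symm_apply_apply]
  rfl

/-- The Schur multiplier of a central quotient of a perfect group with trivial multiplier. -/
theorem hasSchurMultiplier_quotient [Finite G] [Group.IsPerfect G]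
    (hG : Cfsg.HasCyclicSchurMultiplier G 1) (Z : Subgroup G) [Z.Normal]
    (hZ : Z ≤ Subgroup.center G) {A : Type*} [CommGroup A] (eA : Z ≃* A) :
    Cfsg.HasSchurMultiplier (G ⧸ Z) A := by
  refine ⟨⟨G, inferInstance, inferInstance, QuotientGroup.mk' Z, ⟨?_, ?_, ?_⟩, ?_⟩, ?_⟩
  · exact QuotientGroup.mk'_surjective Z
  · rw [QuotientGroup.ker_mk']
    exact hZ
  · intro x _
    exact Group.IsPerfect.mem_commutator
  · exact ⟨(MulEquiv.subgroupCongr (QuotientGroup.ker_mk' Z)).trans eA⟩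
  · intro Γ _ _ σ hσ
    obtain ⟨ψ, hψs, hψ⟩ := exists_cover hG Z Γ σ hσ
    have hmem : ∀ z : Z, ψ (z : G) ∈ σ.ker := by
      intro z
      rw [MonoidHom.mem_ker, hψ]
      exact (QuotientGroup.eq_one_iff _).mpr z.2
    refine ⟨((ψ.comp Z.subtype).codRestrict σ.ker hmem).comp eA.symm.toMonoidHom, ?_⟩
    intro k
    obtain ⟨g, hg⟩ := hψs (k : Γ)
    have hgZ : g ∈ Z := by
      have h1 : σ (ψ g) = 1 := by rw [hg]; exact MonoidHom.mem_ker.mp k.2
      rw [hψ] at h1
      exact (QuotientGroup.eq_one_iff _).mp h1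
    refine ⟨eA ⟨g, hgZ⟩, ?_⟩
    apply Subtype.ext
    show ψ ((eA.symm (eA ⟨g, hgZ⟩) : Z) : G) = (k : Γ)
    rw [MulEquiv.symm_apply_apply]
    exact hg

end Cfsg.Agent.Lib.Helper53.CQuot
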