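import Mathlib

/-!
In a finite field with other than four elements the cubes span the field additively (helper53).
Consequence: a biadditive map balanced with respect to cubes is balanced.
-/

set_option autoImplicit false

namespace Cfsg.Agent.Lib.Helper53.CubeSpan

variable {K : Type*} [Field K] [Fintype K]

theorem subring_eq_top_of_cubes (h4 : Fintype.card K ≠ 4) (A : Subring K)
    (hA : ∀ x : K, x ^ 3 ∈ A) : A = ⊤ := by
  classical
  by_contra hne
  obtain ⟨x, hx⟩ : ∃ x, x ∉ A := by
    by_contra h
    push Not at h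
    exact hne (eq_top_iff.mpr fun y _ => h y)
  have hinv : ∀ y ∈ A, y⁻¹ ∈ A := by
    intro y hy
    by_cases hy0 : y = 0
    · rw [hy0, inv_zero]; exact A.zero_mem
    · have : y⁻¹ = (y⁻¹) ^ 3 * y ^ 2 := by field_simp
      rw [this]
      exact A.mul_mem (hA _) (A.pow_mem hy 2)
  have hφ : Function.Injective (fun p : A × A => (p.1 : K) + x * (p.2 : K)) := by
    rintro ⟨a₁, a₂⟩ ⟨b₁, b₂⟩ h
    simp only at h
    by_cases h2 : a₂ = b₂
    · subst h2
      have : (a₁ : K) = b₁ := add_right_cancel h
      rw [Subtype.ext this]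
    · exfalso
      apply hx
      have hne2 : (a₂ : K) - b₂ ≠ 0 := by
        intro h0
        exact h2 (Subtype.ext (sub_eq_zero.mp h0))
      have hx' : x = ((b₁ : K) - a₁) * ((a₂ : K) - b₂)⁻¹ := by
        field_simp
        linear_combination h
      rw [hx']
      exact A.mul_mem (A.sub_mem b₁.2 a₁.2) (hinv _ (A.sub_mem a₂.2 b₂.2))
  have hcard : Fintype.card A * Fintype.card A ≤ Fintype.card K := by
    rw [← Fintype.card_prod]
    exact Fintype.card_le_of_injective _ hφ
  -- count the cubes
  have hS : (Finset.univ.filter (fun y : K => y ∈ A)).card = Fintype.card A := by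
    rw [Fintype.card_subtype]
  have hcount : ((Finset.univ : Finset K).erase 0).card ≤
      3 * ((Finset.univ.filter (fun y : K => y ∈ A)).erase 0).card := by
    refine le_trans (Finset.card_le_mul_card_image (f := fun y : K => y ^ 3) _ 3 ?_) ?_
    · intro a _
      refine le_trans (Finset.card_le_card (t := (Polynomial.nthRoots 3 a).toFinset) ?_) ?_
      · intro y hy
        rw [Finset.mem_filter] at hy
        rw [Multiset.mem_toFinset, Polynomial.mem_nthRoots (by norm_num)]
        exact hy.2
      · exact le_trans (Multiset.toFinset_card_le _) (Polynomial.card_nthRoots 3 a)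
    · apply Nat.mul_le_mul_left
      apply Finset.card_le_card
      intro y hy
      rw [Finset.mem_image] at hy
      obtain ⟨z, hz, rfl⟩ := hy
      rw [Finset.mem_erase] at hz ⊢
      refine ⟨pow_ne_zero 3 hz.1, ?_⟩
      rw [Finset.mem_filter]
      exact ⟨Finset.mem_univ _, hA z⟩
  rw [Finset.card_erase_of_mem (Finset.mem_univ _), Finset.card_erase_of_mem
    (by rw [Finset.mem_filter]; exact ⟨Finset.mem_univ _, A.zero_mem⟩), hS, Finset.card_univ]
    at hcount
  have hq : 2 ≤ Fintype.card K := Fintype.one_lt_card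
  have ha1 : 1 ≤ Fintype.card A := Fintype.card_pos_iff.mpr ⟨⟨0, A.zero_mem⟩⟩
  obtain ⟨a, ha⟩ : ∃ a, a = Fintype.card A := ⟨_, rfl⟩
  obtain ⟨q, hq'⟩ : ∃ q, q = Fintype.card K := ⟨_, rfl⟩
  rw [← ha, ← hq'] at hcount hcard
  rw [← hq'] at hq h4
  rw [← ha] at ha1
  have ha2 : a ≤ 2 := by
    by_contra hlt
    push Not at hlt
    have : 3 * a ≤ a * a := Nat.mul_le_mul_right a hlt
    omega
  interval_cases a <;> omega

/-- A biadditive map balanced with respect to cubes is balanced. -/
theorem balanced_of_cubes (h4 : Fintype.card K ≠ 4) {M : Type*} [Group M] (F : K → K → M)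
    (hl : ∀ t t' u, F (t + t') u = F t u * F t' u) (hr : ∀ t u u', F t (u + u') = F t u * F t u')
    (hcube : ∀ e : K, e ≠ 0 → ∀ t u, F (e ^ 3 * t) u = F t (e ^ 3 * u)) :
    ∀ t u, F t u = F (t * u) 1 := by
  have hl0 : ∀ u, F 0 u = 1 := by
    intro u
    have := hl 0 0 u
    rw [add_zero] at this
    exact mul_left_cancel (a := F 0 u) (by rw [← this, mul_one])
  have hr0 : ∀ t, F t 0 = 1 := by
    intro t
    have := hr t 0 0
    rw [add_zero] at this
    exact mul_left_cancel (a := F t 0) (by rw [← this, mul_one])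
  have hlneg : ∀ t u, F (-t) u = (F t u)⁻¹ := by
    intro t u
    have := hl t (-t) u
    rw [add_neg_cancel, hl0] at this
    exact (inv_eq_of_mul_eq_one_right this.symm).symm
  have hrneg : ∀ t u, F t (-u) = (F t u)⁻¹ := by
    intro t u
    have := hr t u (-u)
    rw [add_neg_cancel, hr0] at this
    exact (inv_eq_of_mul_eq_one_right this.symm).symm
  let A : Subring K :=
    { carrier := {c | ∀ t u, F (c * t) u = F t (c * u)}
      mul_mem' := by
        intro c c' hc hc' t u
        rw [mul_assoc, hc, hc', ← mul_assoc, mul_comm c' c]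
      one_mem' := by
        intro t u
        rw [one_mul, one_mul]
      add_mem' := by
        intro c c' hc hc' t u
        rw [add_mul, add_mul, hl, hr, hc, hc']
      zero_mem' := by
        intro t u
        rw [zero_mul, zero_mul, hl0, hr0]
      neg_mem' := by
        intro c hc t u
        rw [neg_mul, neg_mul, hlneg, hrneg, hc] }
  have hA : ∀ x : K, x ^ 3 ∈ A := by
    intro x
    by_cases hx : x = 0
    · rw [hx]
      have : (0 : K) ^ 3 = 0 := by norm_num
      rw [this]
      exact A.zero_mem
    · exact hcube x hx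
  have htop := subring_eq_top_of_cubes h4 A hA
  intro t u
  have hu : u ∈ A := by rw [htop]; exact Subring.mem_top u
  have := hu t 1
  rw [mul_one] at this
  rw [← this, mul_comm]

end Cfsg.Agent.Lib.Helper53.CubeSpan
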