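/-
helper53: FH MODULE HECKE-D (for helper19's S1142 Feit–Higman project): a common eigenfunction of
all Hecke matrices `T_s` (`s ∈ S`) for the eigenvalues `q_s` is constant.
-/
import Cfsg.Agent.Lib.Helper19.FHHeckeDefs

set_option autoImplicit false
set_option linter.unusedSectionVars false

namespace Cfsg.Agent.Lib.Helper53.FH

open Matrix Cfsg Cfsg.Agent.Lib.Helper6 Cfsg.Agent.Lib.Helper19.FH

variable {G : Type*} [Group G] (P : Cfsg.BNPair G) [Fintype (G ⧸ P.B)] [DecidableEq (G ⧸ P.B)]

/-- entries of a Hecke matrix are `0` or `1` -/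
theorem heckeMat_apply_eq (g : G) (x y : G ⧸ P.B) :
    heckeMat P g x y = 0 ∨ heckeMat P g x y = 1 := by
  classical
  unfold heckeMat
  split_ifs
  · right; rfl
  · left; rfl

theorem heckeMat_nonneg (g : G) (x y : G ⧸ P.B) : 0 ≤ heckeMat P g x y := by
  rcases heckeMat_apply_eq P g x y with h | h <;> rw [h]
  exact zero_le_one

/-- symmetry of `T_s` for `s ∈ S` (private copy of a HECKE-A fact) -/
theorem heckeMat_symm_S {s : G} (hs : s ∈ P.S) (x y : G ⧸ P.B) :
    heckeMat P s x y = heckeMat P s y x := by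
  classical
  have key : ∀ a b : G ⧸ P.B, InDC P s (a.out⁻¹ * b.out) → InDC P s (b.out⁻¹ * a.out) := by
    intro a b h
    have h1 := inDC_inv P h
    have h2 : (a.out⁻¹ * b.out)⁻¹ = b.out⁻¹ * a.out := by group
    rw [h2] at h1
    exact inDC_trans P (inDC_S_inv P hs) h1
  unfold heckeMat
  by_cases h : InDC P s (x.out⁻¹ * y.out)
  · rw [if_pos h, if_pos (key x y h)]
  · rw [if_neg h, if_neg (fun h' => h (key y x h'))]

/-- row sums of a Hecke matrix (private copy of a HECKE-A fact) -/
theorem heckeMat_row_sum (g : G) (x : G ⧸ P.B) : ∑ y, heckeMat P g x y = (qIdx P g : ℝ) := by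
  classical
  unfold qIdx
  rw [Nat.card_eq_fintype_card, Fintype.card_subtype]
  have h1 : ∀ y : G ⧸ P.B, heckeMat P g x y = if InDC P g (x.out⁻¹ * y.out) then 1 else 0 :=
    fun y => rfl
  simp_rw [h1]
  rw [Finset.sum_boole]
  congr 1
  -- the translation bijection
  refine Finset.card_bij (fun y _ => (x.out⁻¹ • y : G ⧸ P.B)) ?_ ?_ ?_
  · intro y hy
    rw [Finset.mem_filter] at hy ⊢
    refine ⟨Finset.mem_univ _, ?_⟩
    have hy2 := hy.2
    have e : (x.out⁻¹ • y : G ⧸ P.B) = QuotientGroup.mk (x.out⁻¹ * y.out) := by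
      conv_lhs => rw [← QuotientGroup.out_eq' y]
      rfl
    rw [e]
    have h3 := (inDC_out_iff P g 1 (x.out⁻¹ * y.out)).mpr (by simpa using hy2)
    have h4 : (QuotientGroup.mk (1 : G) : G ⧸ P.B).out ∈ P.B := by
      have := QuotientGroup.mk_out_eq_mul P.B (1 : G)
      obtain ⟨b, hb⟩ := this
      rw [hb, one_mul]
      exact b.2
    have e2 : (QuotientGroup.mk (x.out⁻¹ * y.out) : G ⧸ P.B).out =
        (QuotientGroup.mk (1 : G) : G ⧸ P.B).out *
          ((QuotientGroup.mk (1 : G) : G ⧸ P.B).out⁻¹ *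
            (QuotientGroup.mk (x.out⁻¹ * y.out) : G ⧸ P.B).out) := by group
    rw [e2]
    exact inDC_mul_left P h4 h3
  · intro a _ b _ hab
    exact (MulAction.injective (x.out⁻¹)) hab
  · intro z hz
    rw [Finset.mem_filter] at hz
    refine ⟨x.out • z, ?_, by simp⟩
    rw [Finset.mem_filter]
    refine ⟨Finset.mem_univ _, ?_⟩
    have e : (x.out • z : G ⧸ P.B) = QuotientGroup.mk (x.out * z.out) := by
      conv_lhs => rw [← QuotientGroup.out_eq' z]
      rfl
    rw [e]
    have h3 := (inDC_out_iff P g x.out (x.out * z.out)).mpr (by simpa using hz.2)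
    have e3 : (QuotientGroup.mk x.out : G ⧸ P.B) = x := QuotientGroup.out_eq' x
    rw [e3] at h3
    exact h3

theorem heckeMat_col_sum {s : G} (hs : s ∈ P.S) (y : G ⧸ P.B) :
    ∑ x, heckeMat P s x y = (qIdx P s : ℝ) := by
  rw [← heckeMat_row_sum P s y]
  exact Finset.sum_congr rfl (fun x _ => heckeMat_symm_S P hs x y)

/-- an eigenfunction of `T_s` for the eigenvalue `q_s` is constant along the edges of `T_s` -/
theorem eq_of_heckeMat_eq_one {s : G} (hs : s ∈ P.S) (f : G ⧸ P.B → ℝ)
    (hf : (heckeMat P s).mulVec f = (qIdx P s : ℝ) • f) (x y : G ⧸ P.B)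
    (hxy : heckeMat P s x y = 1) : f x = f y := by
  classical
  set T := heckeMat P s with hT
  set q : ℝ := (qIdx P s : ℝ) with hq
  have hTf : ∀ x, ∑ y, T x y * f y = q * f x := by
    intro x
    have := congrFun hf x
    simpa [Matrix.mulVec, dotProduct] using this
  have hsum : ∑ x, ∑ y, T x y * (f x - f y) ^ 2 = 0 := by
    have e : ∀ x y, T x y * (f x - f y) ^ 2 =
        f x ^ 2 * T x y - 2 * f x * (T x y * f y) + f y ^ 2 * T x y := by
      intro x y; ring
    simp_rw [e, Finset.sum_add_distrib, Finset.sum_sub_distrib, ← Finset.mul_sum]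
    have h1 : ∑ x, f x ^ 2 * ∑ y, T x y = q * ∑ x, f x ^ 2 := by
      rw [Finset.mul_sum]
      refine Finset.sum_congr rfl (fun x _ => ?_)
      rw [heckeMat_row_sum P s x]; ring
    have h2 : ∑ x, 2 * f x * ∑ y, T x y * f y = 2 * q * ∑ x, f x ^ 2 := by
      rw [Finset.mul_sum]
      refine Finset.sum_congr rfl (fun x _ => ?_)
      rw [hTf x]; ring
    have h3 : ∑ x, ∑ y, f y ^ 2 * T x y = q * ∑ x, f x ^ 2 := by
      rw [Finset.sum_comm, Finset.mul_sum]
      refine Finset.sum_congr rfl (fun y _ => ?_)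
      rw [← Finset.mul_sum, heckeMat_col_sum P hs y]; ring
    rw [h1, h2, h3]; ring
  have hnn : ∀ x y, 0 ≤ T x y * (f x - f y) ^ 2 := fun x y =>
    mul_nonneg (heckeMat_nonneg P s x y) (sq_nonneg _)
  have h1 : ∀ x ∈ Finset.univ, ∑ y, T x y * (f x - f y) ^ 2 = 0 :=
    (Finset.sum_eq_zero_iff_of_nonneg (fun x _ => Finset.sum_nonneg (fun y _ => hnn x y))).mp hsum
  have h2 : ∀ y ∈ Finset.univ, T x y * (f x - f y) ^ 2 = 0 :=
    (Finset.sum_eq_zero_iff_of_nonneg (fun y _ => hnn x y)).mp (h1 x (Finset.mem_univ x))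
  have h3 := h2 y (Finset.mem_univ y)
  rw [hxy, one_mul] at h3
  have h4 : f x - f y = 0 := by
    rcases sq_eq_zero_iff.mp h3 with h
    exact h
  linarith

theorem heckeMat_const (f : G ⧸ P.B → ℝ)
    (hf : ∀ s ∈ P.S, (heckeMat P s).mulVec f = (qIdx P s : ℝ) • f) : ∀ i j, f i = f j := by
  classical
  -- the subgroup of right translations preserving `f`
  let H : Subgroup G :=
    { carrier := {h | ∀ g : G, f (QuotientGroup.mk (g * h)) = f (QuotientGroup.mk g)}
      mul_mem' := by
        intro a b ha hb g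
        rw [← mul_assoc, hb (g * a), ha g]
      one_mem' := by intro g; rw [mul_one]
      inv_mem' := by
        intro a ha g
        have := ha (g * a⁻¹)
        rw [inv_mul_cancel_right] at this
        exact this.symm }
  have hB : P.B ≤ H := by
    intro b hb g
    congr 1
    rw [QuotientGroup.eq]
    simpa using hb
  have hS : P.S ⊆ (H : Set G) := by
    intro s hs g
    symm
    apply eq_of_heckeMat_eq_one P hs f (hf s hs)
    rw [heckeMat_mk, if_pos]
    have : g⁻¹ * (g * s) = s := by group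
    rw [this]
    exact inDC_self P s
  have htop : H = ⊤ := by
    rw [eq_top_iff, ← P.sup_eq_top]
    refine sup_le hB ?_
    rw [← P.closure_sup]
    refine sup_le ((Subgroup.closure_le H).mpr hS) (inf_le_left.trans hB)
  have hall : ∀ h : G, f (QuotientGroup.mk h) = f (QuotientGroup.mk (1 : G)) := by
    intro h
    have hh : h ∈ H := by rw [htop]; exact Subgroup.mem_top h
    have := hh 1
    rwa [one_mul] at this
  intro i j
  obtain ⟨a, rfl⟩ := QuotientGroup.mk_surjective i
  obtain ⟨b, rfl⟩ := QuotientGroup.mk_surjective j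
  rw [hall a, hall b]

end Cfsg.Agent.Lib.Helper53.FH
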