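import Mathlib
import Cfsg.Agent.Lib.Helper53.HalfTrans
import Cfsg.Agent.Lib.Helper20.QuasiDihedral
import Cfsg.Agent.S3381
import Cfsg.Agent.S3370

/-!
Half-transitive linear `p`-groups (Passman): the dihedral and quasi-dihedral cases (helper53).
-/

set_option autoImplicit false

namespace Cfsg.Agent.Lib.Helper53.HalfTrans

section dihedralCount

open DihedralGroup

theorem dih_r_central {n : ℕ} {i : ZMod n} (hi : i + i = 0) :
    (r i : DihedralGroup n) ∈ Subgroup.center (DihedralGroup n) := by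
  rw [Subgroup.mem_center_iff]
  intro g
  cases g with
  | r j => rw [r_mul_r, r_mul_r, add_comm]
  | sr j =>
    rw [sr_mul_r, r_mul_sr]
    congr 1
    rw [eq_sub_iff_add_eq, add_assoc, hi, add_zero]

theorem dih_sr_not_central {n : ℕ} (hn : 3 ≤ n) (i : ZMod n) :
    (sr i : DihedralGroup n) ∉ Subgroup.center (DihedralGroup n) := by
  intro h
  have h1 := Subgroup.mem_center_iff.mp h (r 1)
  rw [r_mul_sr, sr_mul_r] at h1
  have h2 : i - 1 = i + 1 := by injection h1
  have h3 : (2 : ZMod n) = 0 := by linear_combination -h2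
  have h4 : ((2 : ℕ) : ZMod n) = 0 := by exact_mod_cast h3
  have h5 := (ZMod.natCast_eq_zero_iff 2 n).mp h4
  have h6 := Nat.le_of_dvd (by norm_num) h5
  omega

theorem card_noncentral_involutions_dihedral {n : ℕ} (hn : 3 ≤ n) :
    Nat.card {g : DihedralGroup n // orderOf g = 2 ∧ g ∉ Subgroup.center (DihedralGroup n)} = n := by
  have : NeZero n := ⟨by omega⟩
  have e : ZMod n ≃
      {g : DihedralGroup n // orderOf g = 2 ∧ g ∉ Subgroup.center (DihedralGroup n)} :=
    Equiv.ofBijective (fun i => ⟨sr i, orderOf_sr i, dih_sr_not_central hn i⟩) (by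
      constructor
      · intro i j hij
        have h1 : (sr i : DihedralGroup n) = sr j := congrArg Subtype.val hij
        injection h1
      · rintro ⟨g, ho, hc⟩
        cases g with
        | r i =>
          exfalso
          apply hc
          apply dih_r_central
          have h1 : (r i : DihedralGroup n) ^ 2 = 1 := by rw [← ho]; exact pow_orderOf_eq_one _
          rw [pow_two, r_mul_r, one_def] at h1
          injection h1
        | sr i => exact ⟨i, rfl⟩)
  rw [← Nat.card_congr e, Nat.card_zmod]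

end dihedralCount

theorem mem_center_map_iff {G H : Type*} [Group G] [Group H] (e : G ≃* H) (g : G) :
    e g ∈ Subgroup.center H ↔ g ∈ Subgroup.center G := by
  rw [Subgroup.mem_center_iff, Subgroup.mem_center_iff]
  constructor
  · intro h x
    apply e.injective
    rw [map_mul, map_mul]
    exact h (e x)
  · intro h y
    obtain ⟨x, rfl⟩ := e.surjective y
    rw [← map_mul, ← map_mul, h x]

theorem card_noncentral_involutions_congr {G H : Type*} [Group G] [Group H] (e : G ≃* H) :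
    Nat.card {g : G // orderOf g = 2 ∧ g ∉ Subgroup.center G} =
      Nat.card {h : H // orderOf h = 2 ∧ h ∉ Subgroup.center H} := by
  apply Nat.card_congr
  refine e.toEquiv.subtypeEquiv (fun g => ?_)
  have h1 : orderOf (e g) = orderOf g := MulEquiv.orderOf_eq e g
  have h2 := mem_center_map_iff e g
  show (orderOf g = 2 ∧ g ∉ Subgroup.center G) ↔ (orderOf (e g) = 2 ∧ e g ∉ Subgroup.center H)
  rw [h1, h2]

section qdCount

open Cfsg.Agent.Lib.Helper20.QD

variable {S : Type*} [Group S] [Finite S] {n : ℕ} {x y : S}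

theorem qd_fhf_central (d : Data S n x y) : f x n (hf n) ∈ Subgroup.center S := by
  rw [Subgroup.mem_center_iff]
  intro g
  rcases normal_form d g with ⟨i, rfl⟩ | ⟨i, rfl⟩
  · rw [← f_add d, ← f_add d, add_comm]
  · rw [mul_assoc, fhf_comm_y d, ← mul_assoc, ← mul_assoc, ← f_add d, ← f_add d, add_comm]

theorem qd_fy_not_central (d : Data S n x y) (i : ZMod (2 ^ n)) :
    f x n i * y ∉ Subgroup.center S := by
  intro h
  have hn := d.hn
  have h1 := Subgroup.mem_center_iff.mp h (f x n 1)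
  rw [f_mul_fy d, fy_mul_f d] at h1
  have h2 : f x n (1 + i) = f x n (i + ep n * 1) := mul_right_cancel h1
  have h3 := f_injective d h2
  have h4 : hf n = 2 := by
    have := ep_add_one (n := n)
    linear_combination (-1 : ZMod (2 ^ n)) * this - h3
  have h5 := two_mul_hf (n := n) (by omega)
  rw [h4] at h5
  have h6 : ((4 : ℕ) : ZMod (2 ^ n)) = 0 := by
    push_cast
    linear_combination h5
  have h7 := (ZMod.natCast_eq_zero_iff 4 (2 ^ n)).mp h6
  have h8 := Nat.le_of_dvd (by norm_num) h7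
  have h9 : 2 ^ 3 ≤ 2 ^ n := Nat.pow_le_pow_right (by norm_num) hn
  omega

theorem card_noncentral_involutions_qd (d : Data S n x y) :
    Nat.card {g : S // orderOf g = 2 ∧ g ∉ Subgroup.center S} = 2 ^ (n - 1) := by
  have hn := d.hn
  have hpow : 2 ^ n = 2 * 2 ^ (n - 1) := by
    rw [← pow_succ']; congr 1; omega
  have e : Fin (2 ^ (n - 1)) ≃ {g : S // orderOf g = 2 ∧ g ∉ Subgroup.center S} :=
    Equiv.ofBijective
      (fun k => ⟨f x n (2 * ((k.val : ℕ) : ZMod (2 ^ n))) * y, orderOf_fy_even d _,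
        qd_fy_not_central d _⟩) (by
      constructor
      · intro k k' hkk
        have h1 : f x n (2 * ((k.val : ℕ) : ZMod (2 ^ n))) * y =
            f x n (2 * ((k'.val : ℕ) : ZMod (2 ^ n))) * y := congrArg Subtype.val hkk
        have h2 := f_injective d (mul_right_cancel h1)
        have h3 : ((2 * k.val : ℕ) : ZMod (2 ^ n)) = ((2 * k'.val : ℕ) : ZMod (2 ^ n)) := by
          push_cast; exact h2
        rw [ZMod.natCast_eq_natCast_iff'] at h3
        have hk := k.2
        have hk' := k'.2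
        rw [Nat.mod_eq_of_lt (by omega), Nat.mod_eq_of_lt (by omega)] at h3
        exact Fin.ext (by omega)
      · rintro ⟨g, ho, hc⟩
        rcases normal_form d g with ⟨i, rfl⟩ | ⟨i, rfl⟩
        · exfalso
          rw [orderOf_f_eq_two_iff d] at ho
          rw [ho] at hc
          exact hc (qd_fhf_central d)
        · rcases even_or_odd i with ⟨j, rfl⟩ | ⟨j, rfl⟩
          · have hpos : 0 < 2 ^ (n - 1) := by positivity
            refine ⟨⟨j.val % 2 ^ (n - 1), Nat.mod_lt _ hpos⟩, ?_⟩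
            apply Subtype.ext
            show f x n (2 * ((j.val % 2 ^ (n - 1) : ℕ) : ZMod (2 ^ n))) * y = f x n (2 * j) * y
            congr 2
            have h1 : ((j.val : ℕ) : ZMod (2 ^ n)) = j := ZMod.natCast_zmod_val j
            have h2 := Nat.div_add_mod j.val (2 ^ (n - 1))
            have h3 : ((2 ^ n : ℕ) : ZMod (2 ^ n)) = 0 := ZMod.natCast_self _
            have h4 : (2 : ZMod (2 ^ n)) * ((2 ^ (n - 1) : ℕ) : ZMod (2 ^ n)) = 0 := by
              rw [← h3, hpow]; push_cast; ring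
            have h5 : (j : ZMod (2 ^ n)) = ((2 ^ (n - 1) : ℕ) : ZMod (2 ^ n)) *
                ((j.val / 2 ^ (n - 1) : ℕ) : ZMod (2 ^ n)) +
                ((j.val % 2 ^ (n - 1) : ℕ) : ZMod (2 ^ n)) := by
              rw [← Nat.cast_mul, ← Nat.cast_add, h2, h1]
            linear_combination (-2 : ZMod (2 ^ n)) * h5 -
              ((j.val / 2 ^ (n - 1) : ℕ) : ZMod (2 ^ n)) * h4
          · exfalso
            rw [orderOf_fy_odd d] at ho
            omega)
  rw [← Nat.card_congr e, Nat.card_fin]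

end qdCount

section caseC

variable {q : ℕ} [hq : Fact q.Prime] {V : Type*} [AddCommGroup V] [Module (ZMod q) V] [Finite V]
  [Nontrivial V] {G : Type*} [Group G] [Finite G] (ρ : G →* (V ≃ₗ[ZMod q] V))

/-- If `G` has a cyclic subgroup `⟨x⟩` of index two whose involution is central and
fixed-point-free, every non-trivial point stabilizer has order two. -/
theorem card_stab_eq_two_of_cyclic_index_two
    (hfpf : ∀ z ∈ Subgroup.center G, z ≠ 1 → ∀ v : V, ρ z v = v → v = 0)
    (x : G) (n : ℕ) (hn : 1 ≤ n) (hx : orderOf x = 2 ^ n) (hcard : Nat.card G = 2 ^ (n + 1))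
    (hzc : x ^ (2 ^ (n - 1)) ∈ Subgroup.center G)
    {v : V} (hv : v ≠ 0) (hnt : stab ρ v ≠ ⊥) : Nat.card (stab ρ v) = 2 := by
  have hpow : 2 ^ n = 2 * 2 ^ (n - 1) := by
    rw [← pow_succ']; congr 1; omega
  have hzo : orderOf (x ^ (2 ^ (n - 1))) = 2 := by
    rw [orderOf_pow_of_dvd (by positivity) (by rw [hx, hpow]; exact dvd_mul_left _ _), hx, hpow]
    exact Nat.mul_div_cancel _ (by positivity)
  have hz1 : x ^ (2 ^ (n - 1)) ≠ 1 := by
    intro h
    rw [h, orderOf_one] at hzo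
    omega
  have hCcard : Nat.card (Subgroup.zpowers x) = 2 ^ n := by rw [Nat.card_zpowers, hx]
  have hidx : (Subgroup.zpowers x).index = 2 := by
    have := (Subgroup.zpowers x).card_mul_index
    rw [hCcard, hcard, pow_succ] at this
    exact Nat.eq_of_mul_eq_mul_left (by positivity) this
  have hinf : stab ρ v ⊓ Subgroup.zpowers x = ⊥ := by
    rw [eq_bot_iff]
    intro g hg
    obtain ⟨hgs, hgC⟩ := Subgroup.mem_inf.mp hg
    rw [Subgroup.mem_bot]
    by_contra hg1
    -- the order of g is a nontrivial power of two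
    have hgo : orderOf g ∣ 2 ^ n := by
      rw [← hCcard]
      have := orderOf_dvd_natCard (⟨g, hgC⟩ : Subgroup.zpowers x)
      rwa [Subgroup.orderOf_mk] at this
    obtain ⟨j, hj, hgj⟩ := (Nat.dvd_prime_pow Nat.prime_two).mp hgo
    have hj0 : j ≠ 0 := by
      intro h
      rw [h, pow_zero] at hgj
      exact hg1 (orderOf_eq_one_iff.mp hgj)
    have hjpow : 2 ^ j = 2 ^ (j - 1) * 2 := by
      rw [← pow_succ]; congr 1; omega
    have hyo : orderOf (g ^ (2 ^ (j - 1))) = 2 := by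
      rw [orderOf_pow_of_dvd (by positivity) (by rw [hgj, hjpow]; exact dvd_mul_right _ _), hgj,
        hjpow]
      exact Nat.mul_div_cancel_left _ (by positivity)
    have hyC : Subgroup.zpowers (g ^ (2 ^ (j - 1))) ≤ Subgroup.zpowers x :=
      Subgroup.zpowers_le.mpr (Subgroup.pow_mem _ hgC _)
    have hzC : Subgroup.zpowers (x ^ (2 ^ (n - 1))) ≤ Subgroup.zpowers x :=
      Subgroup.zpowers_le.mpr (Subgroup.pow_mem _ (Subgroup.mem_zpowers x) _)
    have heq := eq_of_card_eq_of_le_isCyclic' (B := Subgroup.zpowers x) inferInstance hzC hyC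
      (by rw [Nat.card_zpowers, Nat.card_zpowers, hzo, hyo])
    have hzmem : x ^ (2 ^ (n - 1)) ∈ Subgroup.zpowers (g ^ (2 ^ (j - 1))) :=
      heq ▸ Subgroup.mem_zpowers _
    have hle : Subgroup.zpowers (g ^ (2 ^ (j - 1))) ≤ stab ρ v :=
      Subgroup.zpowers_le.mpr (Subgroup.pow_mem _ hgs _)
    exact hv (hfpf _ hzc hz1 v (hle hzmem))
  have h1 := card_le_two_mul_card_inf hidx (stab ρ v)
  rw [hinf, Subgroup.card_bot] at h1
  have h2 : 1 < Nat.card (stab ρ v) := (Subgroup.one_lt_card_iff_ne_bot _).mpr hnt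
  omega

theorem all_stab_ne_bot
    (hst : ∀ v w : V, v ≠ 0 → w ≠ 0 → Nat.card (stab ρ v) = Nat.card (stab ρ w))
    (hns : ∃ v : V, v ≠ 0 ∧ ∃ g : G, g ≠ 1 ∧ ρ g v = v) :
    ∀ v : V, v ≠ 0 → stab ρ v ≠ ⊥ := by
  obtain ⟨v₀, hv₀, g, hg1, hgv⟩ := hns
  intro v hv h
  have h1 : Nat.card (stab ρ v₀) = 1 := by rw [hst v₀ v hv₀ hv, h, Subgroup.card_bot]
  have h2 : stab ρ v₀ = ⊥ := Subgroup.card_eq_one.mp h1
  have h3 : g ∈ (⊥ : Subgroup G) := h2 ▸ hgv
  exact hg1 (Subgroup.mem_bot.mp h3)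

theorem not_comm_of_not_semiregular
    (hfpf : ∀ z ∈ Subgroup.center G, z ≠ 1 → ∀ v : V, ρ z v = v → v = 0)
    (hns : ∃ v : V, v ≠ 0 ∧ ∃ g : G, g ≠ 1 ∧ ρ g v = v) :
    ¬ ∀ a b : G, a * b = b * a := by
  intro hc
  obtain ⟨v, hv, g, hg1, hgv⟩ := hns
  exact hv (hfpf g (Subgroup.mem_center_iff.mpr (fun h => hc h g)) hg1 v hgv)

/-- Common core of the dihedral and quasi-dihedral cases. -/
theorem core_case (hρ : Function.Injective ρ)
    (hst : ∀ v w : V, v ≠ 0 → w ≠ 0 → Nat.card (stab ρ v) = Nat.card (stab ρ w))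
    (hfpf : ∀ z ∈ Subgroup.center G, z ≠ 1 → ∀ v : V, ρ z v = v → v = 0)
    (hns : ∃ v : V, v ≠ 0 ∧ ∃ g : G, g ≠ 1 ∧ ρ g v = v)
    (x : G) (n : ℕ) (hn : 1 ≤ n) (hx : orderOf x = 2 ^ n) (hcard : Nat.card G = 2 ^ (n + 1))
    (hzc : x ^ (2 ^ (n - 1)) ∈ Subgroup.center G) (k : ℕ)
    (hN : Nat.card {g : G // orderOf g = 2 ∧ g ∉ Subgroup.center G} = 2 ^ k) :
    Nat.card V = q ^ 2 ∧ q = 2 ^ k - 1 := by
  have hpow : 2 ^ n = 2 * 2 ^ (n - 1) := by
    rw [← pow_succ']; congr 1; omega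
  have hzo : orderOf (x ^ (2 ^ (n - 1))) = 2 := by
    rw [orderOf_pow_of_dvd (by positivity) (by rw [hx, hpow]; exact dvd_mul_left _ _), hx, hpow]
    exact Nat.mul_div_cancel _ (by positivity)
  have hnb := all_stab_ne_bot ρ hst hns
  have hstab : ∀ v : V, v ≠ 0 → Nat.card {g : G // ρ g v = v} = 2 := by
    intro v hv
    exact card_stab_eq_two_of_cyclic_index_two ρ hfpf x n hn hx hcard hzc hv (hnb v hv)
  obtain ⟨r, hV, hNr⟩ := Cfsg.Agent.S3381.result q ρ hρ hstab _ hzo hzc
  rw [hN] at hNr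
  have hr : 1 ≤ r := by
    by_contra h
    have h0 : r = 0 := by omega
    rw [h0, mul_zero, pow_zero] at hV
    exact absurd hV (Finite.one_lt_card (α := V)).ne'
  have hr1 : r = 1 := Cfsg.Agent.S3370.nt1 hq.out.two_le hr hNr
  rw [hr1] at hV hNr
  rw [pow_one] at hNr
  exact ⟨by simpa using hV, by omega⟩

theorem dihedral_case (hρ : Function.Injective ρ) (p : ℕ) [hp : Fact p.Prime] (hG : IsPGroup p G)
    (hst : ∀ v w : V, v ≠ 0 → w ≠ 0 → Nat.card (stab ρ v) = Nat.card (stab ρ w))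
    (hfpf : ∀ z ∈ Subgroup.center G, z ≠ 1 → ∀ v : V, ρ z v = v → v = 0)
    (hns : ∃ v : V, v ≠ 0 ∧ ∃ g : G, g ≠ 1 ∧ ρ g v = v)
    {n : ℕ} (e : G ≃* DihedralGroup n) :
    Nat.card V = q ^ 2 ∧ ∃ m : ℕ, q = 2 ^ m - 1 ∧ Nonempty (G ≃* DihedralGroup (2 ^ m)) := by
  have hcardG : Nat.card G = 2 * n := by
    rw [Nat.card_congr e.toEquiv, DihedralGroup.nat_card]
  have hn0 : n ≠ 0 := by
    intro h
    rw [h, mul_zero] at hcardG
    exact (Nat.card_pos (α := G)).ne' hcardG
  have hnc := not_comm_of_not_semiregular ρ hfpf hns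
  have hn3 : 3 ≤ n := by
    by_contra h
    have h12 : n = 1 ∨ n = 2 := by omega
    have hcomm : IsMulCommutative (DihedralGroup n) := DihedralGroup.commutative_iff.mpr h12
    apply hnc
    intro a b
    apply e.injective
    rw [map_mul, map_mul]
    exact hcomm.is_comm.comm _ _
  -- p = 2 and n is a power of two
  obtain ⟨j, hj⟩ := hG.exists_card_eq
  have hp2 : p = 2 := by
    have h1 : 2 ∣ p ^ j := by rw [← hj, hcardG]; exact dvd_mul_right _ _
    exact ((Nat.prime_dvd_prime_iff_eq Nat.prime_two hp.out).mp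
      (Nat.prime_two.dvd_of_dvd_pow h1)).symm
  rw [hp2, hcardG] at hj
  have hj0 : j ≠ 0 := by
    intro h
    rw [h, pow_zero] at hj
    omega
  obtain ⟨k, rfl⟩ : ∃ k, j = k + 1 := ⟨j - 1, by omega⟩
  have hnk : n = 2 ^ k := by
    rw [pow_succ, mul_comm] at hj
    exact Nat.eq_of_mul_eq_mul_right (by norm_num) hj
  subst hnk
  have hk2 : 2 ≤ k := by
    by_contra h
    have : k = 0 ∨ k = 1 := by omega
    rcases this with rfl | rfl <;> norm_num at hn3
  have hpow : 2 ^ k = 2 * 2 ^ (k - 1) := by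
    rw [← pow_succ']; congr 1; omega
  have hx : orderOf (e.symm (DihedralGroup.r 1)) = 2 ^ k := by
    rw [MulEquiv.orderOf_eq, DihedralGroup.orderOf_r_one]
  have hzc : (e.symm (DihedralGroup.r 1)) ^ (2 ^ (k - 1)) ∈ Subgroup.center G := by
    rw [← map_pow, ← mem_center_map_iff e, MulEquiv.apply_symm_apply, DihedralGroup.r_one_pow]
    apply dih_r_central
    have h3 : ((2 ^ k : ℕ) : ZMod (2 ^ k)) = 0 := ZMod.natCast_self _
    rw [← h3, hpow]
    push_cast
    ring
  have hN : Nat.card {g : G // orderOf g = 2 ∧ g ∉ Subgroup.center G} = 2 ^ k := by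
    rw [card_noncentral_involutions_congr e, card_noncentral_involutions_dihedral hn3]
  have hcard' : Nat.card G = 2 ^ (k + 1) := by rw [hcardG, pow_succ, mul_comm]
  obtain ⟨hV, hqk⟩ := core_case ρ hρ hst hfpf hns _ k (by omega) hx hcard' hzc k hN
  exact ⟨hV, k, hqk, ⟨e⟩⟩

theorem qd_case (hρ : Function.Injective ρ)
    (hst : ∀ v w : V, v ≠ 0 → w ≠ 0 → Nat.card (stab ρ v) = Nat.card (stab ρ w))
    (hfpf : ∀ z ∈ Subgroup.center G, z ≠ 1 → ∀ v : V, ρ z v = v → v = 0)
    (hns : ∃ v : V, v ≠ 0 ∧ ∃ g : G, g ≠ 1 ∧ ρ g v = v)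
    (hqd : Cfsg.IsQuasiDihedral G) :
    Nat.card V = q ^ 2 ∧ ∃ m : ℕ, q = 2 ^ m - 1 ∧
      (Cfsg.IsQuasiDihedral G ∧ Nat.card G = 2 ^ (m + 2)) := by
  obtain ⟨n, x, y, d⟩ := Cfsg.Agent.Lib.Helper20.QD.exists_data hqd
  have hn := d.hn
  have hzc : x ^ (2 ^ (n - 1)) ∈ Subgroup.center G := by
    have := qd_fhf_central d
    rwa [Cfsg.Agent.Lib.Helper20.QD.hf, Cfsg.Agent.Lib.Helper20.QD.f_natCast d] at this
  have hN := card_noncentral_involutions_qd d
  obtain ⟨hV, hqk⟩ := core_case ρ hρ hst hfpf hns x n (by omega) d.ox d.card hzc (n - 1) hN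
  refine ⟨hV, n - 1, hqk, hqd, ?_⟩
  rw [d.card]
  congr 1
  omega

end caseC

end Cfsg.Agent.Lib.Helper53.HalfTrans
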