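import Mathlib
import Cfsg.Agent.Lib.Helper53.HalfTrans

/-!
Half-transitive linear `p`-groups (Passman): the imprimitive case for odd `p` is impossible
(helper53).
-/

set_option autoImplicit false

namespace Cfsg.Agent.Lib.Helper53.HalfTrans

theorem perm_no_fixed_of_order_prime {p : ℕ} [hp : Fact p.Prime] (σ : Equiv.Perm (Fin p))
    (hσ : orderOf σ = p) (i : Fin p) : σ i ≠ i := by
  have h1 : σ ^ p ^ 1 = 1 := by
    have h0 := pow_orderOf_eq_one σ
    rw [hσ] at h0
    rw [pow_one]; exact h0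
  have h2 := Equiv.Perm.card_compl_support_modEq h1
  rw [Fintype.card_fin] at h2
  have h3 : p ∣ σ.supportᶜ.card := (Nat.modEq_zero_iff_dvd.mp (h2.trans (by simp [Nat.ModEq])))
  have h4 : σ.supportᶜ.card ≤ p := by
    have := Finset.card_le_univ σ.supportᶜ
    rwa [Fintype.card_fin] at this
  have h5 : σ.supportᶜ.card = 0 ∨ σ.supportᶜ.card = p := by
    obtain ⟨c, hc⟩ := h3
    rcases Nat.eq_zero_or_pos c with h | h
    · left; rw [hc, h, mul_zero]
    · right
      have : p * c ≤ p := hc ▸ h4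
      have hp0 := hp.out.pos
      have hc1 : c = 1 := by
        by_contra hne
        have : 2 ≤ c := by omega
        nlinarith
      rw [hc, hc1, mul_one]
  rcases h5 with h | h
  · have h6 : σ.supportᶜ = ∅ := Finset.card_eq_zero.mp h
    have h7 : i ∈ σ.support := by
      by_contra hi
      have : i ∈ σ.supportᶜ := Finset.mem_compl.mpr hi
      rw [h6] at this
      exact absurd this (Finset.notMem_empty i)
    exact Equiv.Perm.mem_support.mp h7
  · exfalso
    have h6 : σ.supportᶜ = Finset.univ := by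
      apply Finset.eq_univ_of_card
      rw [h, Fintype.card_fin]
    have h7 : σ.support = ∅ := by
      rw [← compl_compl σ.support, h6]; simp
    rw [Equiv.Perm.support_eq_empty_iff] at h7
    rw [h7, orderOf_one] at hσ
    exact hp.out.one_lt.ne hσ

theorem perm_no_two_cycle_of_order_odd {p : ℕ} (hodd : Odd p) (σ : Equiv.Perm (Fin p))
    (hσ : orderOf σ = p) (i : Fin p) (h : σ (σ i) = i) : σ i = i := by
  obtain ⟨k, hk⟩ := hodd
  have h1 : ∀ m : ℕ, (σ ^ (2 * m)) i = i := by
    intro m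
    induction m with
    | zero => simp
    | succ m ih =>
      rw [Nat.mul_succ, pow_add, Equiv.Perm.mul_apply]
      have : (σ ^ 2) i = i := by rw [pow_two, Equiv.Perm.mul_apply]; exact h
      rw [this, ih]
  have h0 : σ ^ p = 1 := by
    have h0 := pow_orderOf_eq_one σ
    rw [hσ] at h0
    exact h0
  have h0' : σ ^ p = σ ^ (2 * k + 1) := congrArg (fun n => σ ^ n) hk
  have h2 : (σ ^ (2 * k + 1)) i = i := by
    rw [← h0', h0]; rfl
  rw [pow_succ, Equiv.Perm.mul_apply] at h2
  have h3 : (σ ^ (2 * k)) (σ i) = σ ((σ ^ (2 * k)) i) := by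
    rw [← Equiv.Perm.mul_apply, ← Equiv.Perm.mul_apply, ← pow_succ, ← pow_succ']
  rw [h3, h1 k] at h2
  exact h2

section odd

variable {q : ℕ} [hq : Fact q.Prime] {V : Type*} [AddCommGroup V] [Module (ZMod q) V]
  [Nontrivial V] {G : Type*} [Group G] [Finite G] (ρ : G →* (V ≃ₗ[ZMod q] V))

theorem imprimitive_odd_false {p : ℕ} [hp : Fact p.Prime] (hp2 : p ≠ 2)
    (hρ : Function.Injective ρ)
    (hst : ∀ v w : V, v ≠ 0 → w ≠ 0 → Nat.card (stab ρ v) = Nat.card (stab ρ w))
    (hns : ∃ v : V, v ≠ 0 ∧ ∃ g : G, g ≠ 1 ∧ ρ g v = v)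
    (H : Subgroup G) (W : Fin p → Submodule (ZMod q) V) (hidx : H.index = p)
    (hsup : iSup W = ⊤) (hind : iSupIndep W)
    (hH : ∀ h ∈ H, ∀ i, ∀ w ∈ W i, ρ h w ∈ W i)
    (hperm : ∀ g : G, g ∉ H → ∃ σ : Equiv.Perm (Fin p), orderOf σ = p ∧
      ∀ i, (W i).map (ρ g : V →ₗ[ZMod q] V) = W (σ i)) : False := by
  have hodd : Odd p := hp.out.odd_of_ne_two hp2
  -- an element outside H
  have hHtop : H ≠ ⊤ := by
    intro h
    rw [h, Subgroup.index_top] at hidx
    exact hp.out.one_lt.ne hidx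
  obtain ⟨t, -, ht⟩ := SetLike.exists_of_lt (lt_top_iff_ne_top.mpr hHtop)
  obtain ⟨σt, hσt, hWt⟩ := hperm t ht
  have hmapmem : ∀ (g : G) (σ : Equiv.Perm (Fin p)),
      (∀ i, (W i).map (ρ g : V →ₗ[ZMod q] V) = W (σ i)) → ∀ i, ∀ w ∈ W i, ρ g w ∈ W (σ i) := by
    intro g σ h i w hw
    rw [← h i]
    exact Submodule.mem_map_of_mem hw
  -- two distinct indices with nonzero blocks
  have hex : ∃ i, W i ≠ ⊥ := by
    by_contra h
    push Not at h
    have : iSup W = ⊥ := by simp [h]
    rw [hsup] at this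
    exact top_ne_bot this
  obtain ⟨i0, hi0⟩ := hex
  obtain ⟨w0, hw0W, hw0⟩ := (Submodule.ne_bot_iff _).mp hi0
  have hi1 : σt i0 ≠ i0 := perm_no_fixed_of_order_prime σt hσt i0
  have hw1W : ρ t w0 ∈ W (σt i0) := hmapmem t σt hWt i0 w0 hw0W
  have hw1 : ρ t w0 ≠ 0 := rne ρ t hw0
  -- key: stabilizers of vectors in different blocks agree
  have key : ∀ i j : Fin p, i ≠ j → ∀ vi ∈ W i, ∀ vj ∈ W j, vi ≠ 0 → vj ≠ 0 →
      stab ρ vi = stab ρ vj := by
    intro i j hij vi hvi vj hvj hvi0 hvj0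
    have hdisj : Disjoint (W i) (W j) := hind.pairwiseDisjoint hij
    have hsum : vi + vj ≠ 0 := by
      intro h
      have h1 : vi = -vj := eq_neg_of_add_eq_zero_left h
      have h2 : vi ∈ W j := h1 ▸ (W j).neg_mem hvj
      exact hvi0 (Submodule.disjoint_def.mp hdisj vi hvi h2)
    have hleH : stab ρ (vi + vj) ≤ H := by
      intro g hg
      by_contra hgH
      obtain ⟨σ, hσ, hWσ⟩ := hperm g hgH
      have hmm := hmapmem g σ hWσ
      have hfix : ρ g (vi + vj) = vi + vj := hg
      rw [map_add] at hfix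
      -- σ a ∈ {i, j} for a ∈ {i, j}
      have claim : ∀ a b : Fin p, a ≠ b → ∀ va ∈ W a, ∀ vb ∈ W b, va ≠ 0 →
          ρ g va + ρ g vb = va + vb → σ a = a ∨ σ a = b := by
        intro a b hab va hva vb hvb hva0 hfx
        by_contra hcon
        push Not at hcon
        obtain ⟨hma, hmb⟩ := hcon
        have hu : ρ g va = va + vb - ρ g vb := by rw [← hfx]; abel
        have hmem : ρ g va ∈ ⨆ (k : Fin p) (_ : k ≠ σ a), W k := by
          rw [hu]
          apply Submodule.sub_mem
          · apply Submodule.add_mem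
            · exact Submodule.mem_iSup_of_mem a (Submodule.mem_iSup_of_mem (Ne.symm hma) hva)
            · exact Submodule.mem_iSup_of_mem b (Submodule.mem_iSup_of_mem (Ne.symm hmb) hvb)
          · have hne : σ b ≠ σ a := fun h => hab (σ.injective h).symm
            exact Submodule.mem_iSup_of_mem (σ b)
              (Submodule.mem_iSup_of_mem hne (hmm b vb hvb))
        have h0 := Submodule.disjoint_def.mp (hind (σ a)) _ (hmm a va hva) hmem
        exact rne ρ g hva0 h0
      have c1 := claim i j hij vi hvi vj hvj hvi0 hfix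
      have c2 := claim j i (Ne.symm hij) vj hvj vi hvi hvj0 (by rw [add_comm, hfix, add_comm])
      have nf := perm_no_fixed_of_order_prime σ hσ
      rcases c1 with c1 | c1
      · exact nf i c1
      · rcases c2 with c2 | c2
        · exact nf j c2
        · apply nf i
          apply perm_no_two_cycle_of_order_odd hodd σ hσ i
          rw [c1, c2]
    have hsub : ∀ g ∈ stab ρ (vi + vj), ρ g vi = vi ∧ ρ g vj = vj := by
      intro g hg
      have hgH := hleH hg
      exact (fix_add_iff ρ hdisj hvi hvj (hH g hgH i vi hvi) (hH g hgH j vj hvj)).mp hg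
    have e1 : stab ρ (vi + vj) = stab ρ vi :=
      Subgroup.eq_of_le_of_card_ge (fun g hg => (hsub g hg).1) (hst vi (vi + vj) hvi0 hsum).le
    have e2 : stab ρ (vi + vj) = stab ρ vj :=
      Subgroup.eq_of_le_of_card_ge (fun g hg => (hsub g hg).2) (hst vj (vi + vj) hvj0 hsum).le
    rw [← e1, e2]
  -- all stabilizers of nonzero block vectors equal stab w0
  have hall : ∀ i, ∀ v ∈ W i, v ≠ 0 → stab ρ v = stab ρ w0 := by
    intro i v hv hv0
    by_cases hi : i = i0
    · subst hi
      rw [key i (σt i) (Ne.symm hi1) v hv (ρ t w0) hw1W hv0 hw1,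
        ← key i (σt i) (Ne.symm hi1) w0 hw0W (ρ t w0) hw1W hw0 hw1]
    · exact key i i0 hi v hv w0 hw0W hv0 hw0
  -- stab w0 fixes everything
  have hbot : stab ρ w0 = ⊥ := by
    rw [eq_bot_iff]
    intro g hg
    rw [Subgroup.mem_bot]
    apply eq_one_of_fix_all ρ hρ
    intro v
    have hle : iSup W ≤ LinearMap.eqLocus (ρ g : V →ₗ[ZMod q] V) LinearMap.id := by
      apply iSup_le
      intro i w hw
      rw [LinearMap.mem_eqLocus]
      by_cases hw0 : w = 0
      · rw [hw0, map_zero, map_zero]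
      · have : g ∈ stab ρ w := by rw [hall i w hw hw0]; exact hg
        exact this
    have hv : v ∈ iSup W := hsup ▸ Submodule.mem_top
    exact LinearMap.mem_eqLocus.mp (hle hv)
  obtain ⟨v, hv, g, hg1, hgv⟩ := hns
  have hc2 : Nat.card (stab ρ v) = 1 := by rw [hst v w0 hv hw0, hbot, Subgroup.card_bot]
  have hb2 : stab ρ v = ⊥ := Subgroup.card_eq_one.mp hc2
  have h3 : g ∈ (⊥ : Subgroup G) := hb2 ▸ hgv
  exact hg1 (Subgroup.mem_bot.mp h3)

end odd

end Cfsg.Agent.Lib.Helper53.HalfTrans
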