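import Mathlib
import Cfsg.Agent.Lib.Helper53.HalfTrans
import Cfsg.Agent.S0065

/-!
Half-transitive linear `p`-groups (Passman): the imprimitive case with two blocks, part 1
(helper53): the involutions `k0 = (1, -1)`, `k1 = (-1, 1)`, point stabilizers have order two,
the subgroup `H` is transitive on the non-zero vectors of each block.
-/

set_option autoImplicit false
set_option linter.unusedSectionVars false

namespace Cfsg.Agent.Lib.Helper53.HalfTrans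

section two

variable {q : ℕ} [hq : Fact q.Prime] {V : Type*} [AddCommGroup V] [Module (ZMod q) V]
  {G : Type*} [Group G] [Finite G]

/-- Raw data of the imprimitive case with two blocks. -/
structure Imp2 (ρ : G →* (V ≃ₗ[ZMod q] V)) (H : Subgroup G) (W0 W1 : Submodule (ZMod q) V) :
    Prop where
  hq2 : q ≠ 2
  inj : Function.Injective ρ
  hG : IsPGroup 2 G
  hst : ∀ v w : V, v ≠ 0 → w ≠ 0 → Nat.card (stab ρ v) = Nat.card (stab ρ w)
  hfpf : ∀ z ∈ Subgroup.center G, z ≠ 1 → ∀ v : V, ρ z v = v → v = 0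
  hidx : H.index = 2
  hc : IsCompl W0 W1
  hH0 : ∀ h ∈ H, ∀ w ∈ W0, ρ h w ∈ W0
  hH1 : ∀ h ∈ H, ∀ w ∈ W1, ρ h w ∈ W1
  hK0 : ∃ h ∈ H, h ≠ 1 ∧ ∀ w ∈ W0, ρ h w = w
  hK1 : ∃ h ∈ H, h ≠ 1 ∧ ∀ w ∈ W1, ρ h w = w
  hsw0 : ∀ g : G, g ∉ H → ∀ w ∈ W0, ρ g w ∈ W1
  hsw1 : ∀ g : G, g ∉ H → ∀ w ∈ W1, ρ g w ∈ W0

variable {ρ : G →* (V ≃ₗ[ZMod q] V)} {H : Subgroup G} {W0 W1 : Submodule (ZMod q) V}

theorem Imp2.symm (d : Imp2 ρ H W0 W1) : Imp2 ρ H W1 W0 :=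
  { hq2 := d.hq2, inj := d.inj, hG := d.hG, hst := d.hst, hfpf := d.hfpf, hidx := d.hidx,
    hc := d.hc.symm, hH0 := d.hH1, hH1 := d.hH0, hK0 := d.hK1, hK1 := d.hK0,
    hsw0 := d.hsw1, hsw1 := d.hsw0 }

theorem Imp2.exists_not_mem (d : Imp2 ρ H W0 W1) : ∃ t : G, t ∉ H := by
  have hHtop : H ≠ ⊤ := by
    intro h
    have := d.hidx
    rw [h, Subgroup.index_top] at this
    omega
  obtain ⟨t, -, ht⟩ := SetLike.exists_of_lt (lt_top_iff_ne_top.mpr hHtop)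
  exact ⟨t, ht⟩

theorem Imp2.normal (d : Imp2 ρ H W0 W1) : H.Normal := Subgroup.normal_of_index_eq_two d.hidx

theorem Imp2.mul_mem (d : Imp2 ρ H W0 W1) {a b : G} (ha : a ∉ H) (hb : b ∉ H) : a * b ∈ H :=
  (Subgroup.mul_mem_iff_of_index_two d.hidx).mpr ⟨fun h => absurd h ha, fun h => absurd h hb⟩

theorem Imp2.inv_not_mem (_d : Imp2 ρ H W0 W1) {a : G} (ha : a ∉ H) : a⁻¹ ∉ H :=
  fun h => ha (by simpa using H.inv_mem h)

theorem Imp2.decomp (d : Imp2 ρ H W0 W1) (v : V) : ∃ w0 ∈ W0, ∃ w1 ∈ W1, v = w0 + w1 := by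
  obtain ⟨w0, hw0, w1, hw1, h⟩ :=
    Submodule.mem_sup.mp (d.hc.sup_eq_top ▸ Submodule.mem_top : v ∈ W0 ⊔ W1)
  exact ⟨w0, hw0, w1, hw1, h.symm⟩

theorem Imp2.disj (d : Imp2 ρ H W0 W1) {v : V} (h0 : v ∈ W0) (h1 : v ∈ W1) : v = 0 :=
  Submodule.disjoint_def.mp d.hc.disjoint v h0 h1

theorem Imp2.eq_of_agree (d : Imp2 ρ H W0 W1) {g g' : G} (h0 : ∀ w ∈ W0, ρ g w = ρ g' w)
    (h1 : ∀ w ∈ W1, ρ g w = ρ g' w) : g = g' := by
  apply d.inj
  ext v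
  obtain ⟨w0, hw0, w1, hw1, rfl⟩ := d.decomp v
  rw [map_add, map_add, h0 w0 hw0, h1 w1 hw1]

theorem Imp2.double (d : Imp2 ρ H W0 W1) {u : V} (h : u + u = 0) : u = 0 := by
  have h1 : (2 : ZMod q) • u = 0 := by rw [two_smul]; exact h
  rcases smul_eq_zero.mp h1 with h2 | h2
  · exfalso
    have h3 : ((2 : ℕ) : ZMod q) = 0 := by simpa using h2
    have h4 := (ZMod.natCast_eq_zero_iff 2 q).mp h3
    exact d.hq2 ((Nat.prime_dvd_prime_iff_eq hq.out Nat.prime_two).mp h4)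
  · exact h2

theorem Imp2.neg_ne (d : Imp2 ρ H W0 W1) {u : V} (hu : u ≠ 0) : -u ≠ u := by
  intro h
  apply hu
  apply d.double
  nth_rewrite 1 [← h]
  exact neg_add_cancel u

theorem Imp2.W0_ne_bot [Nontrivial V] (d : Imp2 ρ H W0 W1) : ∃ w ∈ W0, w ≠ 0 := by
  by_contra hcon
  push Not at hcon
  obtain ⟨t, ht⟩ := d.exists_not_mem
  obtain ⟨v, hv⟩ := exists_ne (0 : V)
  apply hv
  obtain ⟨w0, hw0, w1, hw1, rfl⟩ := d.decomp v
  have h1 : w0 = 0 := hcon w0 hw0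
  have h2 : ρ t w1 = 0 := hcon _ (d.hsw1 t ht w1 hw1)
  have h3 : w1 = 0 := (ρ t).map_eq_zero_iff.mp h2
  rw [h1, h3, add_zero]

/-- Data with the two special involutions. -/
structure Imp2K (ρ : G →* (V ≃ₗ[ZMod q] V)) (H : Subgroup G) (W0 W1 : Submodule (ZMod q) V)
    (k0 k1 : G) : Prop extends Imp2 ρ H W0 W1 where
  k0H : k0 ∈ H
  k1H : k1 ∈ H
  k00 : ∀ w ∈ W0, ρ k0 w = w
  k01 : ∀ w ∈ W1, ρ k0 w = -w
  k10 : ∀ w ∈ W0, ρ k1 w = -w
  k11 : ∀ w ∈ W1, ρ k1 w = w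

theorem Imp2K.symm {k0 k1 : G} (e : Imp2K ρ H W0 W1 k0 k1) : Imp2K ρ H W1 W0 k1 k0 :=
  { toImp2 := e.toImp2.symm, k0H := e.k1H, k1H := e.k0H, k00 := e.k11, k01 := e.k10,
    k10 := e.k01, k11 := e.k00 }

theorem Imp2.exists_k (d : Imp2 ρ H W0 W1) : ∃ k0 k1 : G, Imp2K ρ H W0 W1 k0 k1 := by
  have hnorm := d.normal
  obtain ⟨t, ht⟩ := d.exists_not_mem
  let N : Subgroup H :=
    { carrier := {h | ∀ w ∈ W0, ρ (h : G) w = w}
      one_mem' := fun w _ => rone ρ w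
      mul_mem' := by
        intro a b ha hb w hw
        show ρ ((a : G) * (b : G)) w = w
        rw [rmul, hb w hw, ha w hw]
      inv_mem' := by
        intro a ha w hw
        show ρ ((a : G)⁻¹) w = w
        conv_lhs => rw [← ha w hw]
        exact rinv ρ _ w }
  have hNmem : ∀ h : H, h ∈ N ↔ ∀ w ∈ W0, ρ (h : G) w = w := fun h => Iff.rfl
  have hNn : N.Normal := by
    constructor
    intro n hn h
    rw [hNmem] at hn ⊢
    intro w hw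
    show ρ ((h : G) * (n : G) * (h : G)⁻¹) w = w
    rw [rmul, rmul, hn _ (d.hH0 _ (H.inv_mem h.2) w hw), rinv']
  have hNb : N ≠ ⊥ := by
    obtain ⟨h, hh, h1, hfix⟩ := d.hK0
    intro hb
    have h2 : (⟨h, hh⟩ : H) ∈ N := hfix
    rw [hb, Subgroup.mem_bot] at h2
    exact h1 (congrArg Subtype.val h2)
  have hnil : Group.IsNilpotent H := (d.hG.to_subgroup H).isNilpotent
  have hM := Cfsg.Agent.S0065.result N hNb
  have hMp : IsPGroup 2 (N ⊓ Subgroup.center H : Subgroup H) :=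
    (d.hG.to_subgroup H).to_subgroup _
  have hdvd : 2 ∣ Nat.card (N ⊓ Subgroup.center H : Subgroup H) := by
    rcases hMp.card_eq_or_dvd with h | h
    · exact absurd (Subgroup.card_eq_one.mp h) hM
    · exact h
  obtain ⟨c, hc⟩ := exists_prime_orderOf_dvd_card' (G := (N ⊓ Subgroup.center H : Subgroup H)) 2 hdvd
  obtain ⟨hcN, hcZ⟩ := Subgroup.mem_inf.mp c.2
  set k0 : G := ((c : H) : G) with hk0
  have hk0H : k0 ∈ H := (c : H).2
  have hk0fix : ∀ w ∈ W0, ρ k0 w = w := hcN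
  have hk0c : ∀ h ∈ H, h * k0 = k0 * h := fun h hh =>
    congrArg Subtype.val (Subgroup.mem_center_iff.mp hcZ ⟨h, hh⟩)
  have hk0o : orderOf k0 = 2 := by
    rw [hk0, Subgroup.orderOf_coe, Subgroup.orderOf_coe]; exact hc
  have hk0sq : k0 * k0 = 1 := by
    rw [← pow_two, ← hk0o]; exact pow_orderOf_eq_one k0
  have hk0ne : k0 ≠ 1 := by
    intro h
    rw [h, orderOf_one] at hk0o
    omega
  have hk0inv : k0⁻¹ = k0 := inv_eq_of_mul_eq_one_right hk0sq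
  have htinv := d.inv_not_mem ht
  set k1 : G := t * k0 * t⁻¹ with hk1
  have hk1H : k1 ∈ H := hnorm.conj_mem k0 hk0H t
  have hk1fix : ∀ w ∈ W1, ρ k1 w = w := by
    intro w hw
    rw [hk1, rmul, rmul, hk0fix _ (d.hsw1 _ htinv w hw), rinv']
  have hk1c : ∀ h ∈ H, h * k1 = k1 * h := by
    intro h hh
    have h' : t⁻¹ * h * t ∈ H := by
      have := hnorm.conj_mem h hh t⁻¹
      simpa using this
    have h1 := hk0c _ h'
    calc h * k1 = t * ((t⁻¹ * h * t) * k0) * t⁻¹ := by rw [hk1]; group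
      _ = t * (k0 * (t⁻¹ * h * t)) * t⁻¹ := by rw [h1]
      _ = k1 * h := by rw [hk1]; group
  have hk1sq : k1 * k1 = 1 := by
    calc k1 * k1 = t * (k0 * k0) * t⁻¹ := by rw [hk1]; group
      _ = 1 := by rw [hk0sq]; group
  have hcomm01 : k0 * k1 = k1 * k0 := (hk0c k1 hk1H).symm
  -- the central involution
  have hzH : ∀ h ∈ H, h * (k0 * k1) = (k0 * k1) * h := by
    intro h hh
    rw [← mul_assoc, hk0c h hh, mul_assoc, hk1c h hh, ← mul_assoc]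
  have htt : t * t ∈ H := d.mul_mem ht ht
  have htk1 : t * k1 * t⁻¹ = k0 := by
    have h1 := hk0c _ htt
    calc t * k1 * t⁻¹ = (t * t) * k0 * (t * t)⁻¹ := by rw [hk1]; group
      _ = k0 * (t * t) * (t * t)⁻¹ := by rw [h1]
      _ = k0 := by group
  have hzt : t * (k0 * k1) = (k0 * k1) * t := by
    calc t * (k0 * k1) = (t * k0 * t⁻¹) * (t * k1 * t⁻¹) * t := by group
      _ = k1 * k0 * t := by rw [htk1]
      _ = (k0 * k1) * t := by rw [hcomm01]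
  have hzc : k0 * k1 ∈ Subgroup.center G := by
    rw [Subgroup.mem_center_iff]
    intro g
    by_cases hg : g ∈ H
    · exact hzH g hg
    · have hh : t⁻¹ * g ∈ H := d.mul_mem htinv hg
      have h1 := hzH _ hh
      calc g * (k0 * k1) = t * ((t⁻¹ * g) * (k0 * k1)) := by group
        _ = t * ((k0 * k1) * (t⁻¹ * g)) := by rw [h1]
        _ = (t * (k0 * k1)) * (t⁻¹ * g) := by group
        _ = ((k0 * k1) * t) * (t⁻¹ * g) := by rw [hzt]
        _ = (k0 * k1) * g := by group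
  have hz1 : k0 * k1 ≠ 1 := by
    intro h
    have h1 : k1 = k0 := by
      have := eq_inv_of_mul_eq_one_right h
      rw [this, hk0inv]
    apply hk0ne
    apply eq_one_of_fix_all ρ d.inj
    intro v
    obtain ⟨w0, hw0, w1, hw1, rfl⟩ := d.decomp v
    rw [map_add, hk0fix w0 hw0]
    have := hk1fix w1 hw1
    rw [h1] at this
    rw [this]
  have hzz : (k0 * k1) * (k0 * k1) = 1 := by
    calc (k0 * k1) * (k0 * k1) = k0 * (k1 * k0) * k1 := by group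
      _ = k0 * (k0 * k1) * k1 := by rw [hcomm01]
      _ = (k0 * k0) * (k1 * k1) := by group
      _ = 1 := by rw [hk0sq, hk1sq, mul_one]
  have hneg : ∀ v : V, ρ (k0 * k1) v = -v :=
    neg_of_fpf_involution ρ hzz (fun v hv => d.hfpf _ hzc hz1 v hv)
  refine ⟨k0, k1, ⟨d, hk0H, hk1H, hk0fix, ?_, ?_, hk1fix⟩⟩
  · intro w hw
    have := hneg w
    rwa [rmul, hk1fix w hw] at this
  · intro w hw
    have := hneg w
    rwa [hcomm01, rmul, hk0fix w hw] at this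

theorem Imp2.pm_one_of_pointwise (d : Imp2 ρ H W0 W1) (U : Submodule (ZMod q) V)
    (f : V ≃ₗ[ZMod q] V) (h : ∀ w ∈ U, f w = w ∨ f w = -w) :
    (∀ w ∈ U, f w = w) ∨ (∀ w ∈ U, f w = -w) := by
  by_contra hcon
  push Not at hcon
  obtain ⟨⟨w1, hw1, h1⟩, ⟨w2, hw2, h2⟩⟩ := hcon
  have e1 : f w1 = -w1 := (h w1 hw1).resolve_left h1
  have e2 : f w2 = w2 := (h w2 hw2).resolve_right h2
  rcases h (w1 + w2) (U.add_mem hw1 hw2) with h3 | h3
  · rw [map_add, e1, e2] at h3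
    have h4 : w1 + w1 = 0 := by
      calc w1 + w1 = (w1 + w2) - (-w1 + w2) := by abel
        _ = 0 := by rw [h3, sub_self]
    have hw10 := d.double h4
    exact h1 (by rw [hw10, map_zero])
  · rw [map_add, e1, e2] at h3
    have h4 : w2 + w2 = 0 := by
      calc w2 + w2 = (-w1 + w2) - (-(w1 + w2)) := by abel
        _ = 0 := by rw [h3, sub_self]
    have hw20 := d.double h4
    exact h2 (by rw [hw20, map_zero, neg_zero])

variable {k0 k1 : G}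

theorem Imp2K.k0_sq (e : Imp2K ρ H W0 W1 k0 k1) : k0 * k0 = 1 := by
  apply e.toImp2.eq_of_agree
  · intro w hw
    rw [rmul, e.k00 w hw, e.k00 w hw, rone]
  · intro w hw
    rw [rmul, e.k01 w hw, map_neg, e.k01 w hw, neg_neg, rone]

theorem Imp2K.stab_le_H (e : Imp2K ρ H W0 W1 k0 k1) {v0 : V} (hv0 : v0 ∈ W0) (hv00 : v0 ≠ 0) :
    stab ρ v0 ≤ H := by
  intro g hg
  by_contra hgH
  have h1 : ρ g v0 ∈ W1 := e.hsw0 g hgH v0 hv0
  rw [(mem_stab ρ).mp hg] at h1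
  exact hv00 (e.toImp2.disj hv0 h1)

theorem Imp2K.sum_ne (e : Imp2K ρ H W0 W1 k0 k1) {v0 v1 : V} (hv0 : v0 ∈ W0) (hv00 : v0 ≠ 0)
    (hv1 : v1 ∈ W1) : v0 + v1 ≠ 0 := by
  intro h
  have h1 : v0 = -v1 := eq_neg_of_add_eq_zero_left h
  have h2 : v0 ∈ W1 := h1 ▸ W1.neg_mem hv1
  exact hv00 (e.toImp2.disj hv0 h2)

theorem Imp2K.pm_on_W1 (e : Imp2K ρ H W0 W1 k0 k1) {v0 : V} (hv0 : v0 ∈ W0) (hv00 : v0 ≠ 0)
    {g : G} (hg : g ∈ stab ρ v0) {v1 : V} (hv1 : v1 ∈ W1) : ρ g v1 = v1 ∨ ρ g v1 = -v1 := by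
  by_cases hv10 : v1 = 0
  · left; rw [hv10, map_zero]
  have hgH := e.stab_le_H hv0 hv00 hg
  have hsum := e.sum_ne hv0 hv00 hv1
  have hA : stab ρ (v0 + v1) ⊓ H ≤ stab ρ v0 ⊓ stab ρ v1 := by
    intro x hx
    obtain ⟨hx1, hx2⟩ := Subgroup.mem_inf.mp hx
    have := (fix_add_iff ρ e.hc.disjoint hv0 hv1 (e.hH0 x hx2 v0 hv0) (e.hH1 x hx2 v1 hv1)).mp hx1
    exact Subgroup.mem_inf.mpr this
  have hcard : Nat.card (stab ρ v0) ≤ 2 * Nat.card (stab ρ v0 ⊓ stab ρ v1 : Subgroup G) := by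
    calc Nat.card (stab ρ v0) = Nat.card (stab ρ (v0 + v1)) := e.hst v0 (v0 + v1) hv00 hsum
      _ ≤ 2 * Nat.card (stab ρ (v0 + v1) ⊓ H : Subgroup G) := card_le_two_mul_card_inf e.hidx _
      _ ≤ 2 * Nat.card (stab ρ v0 ⊓ stab ρ v1 : Subgroup G) :=
        Nat.mul_le_mul_left _ (Subgroup.card_le_of_le hA)
  have hk0B : k0 ∈ stab ρ v0 := e.k00 v0 hv0
  have hk0A : k0 ∉ stab ρ v0 ⊓ stab ρ v1 := by
    intro h
    have h1 : ρ k0 v1 = v1 := (Subgroup.mem_inf.mp h).2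
    rw [e.k01 v1 hv1] at h1
    exact e.toImp2.neg_ne hv10 h1
  rcases mem_or_mul_mem_of_card_le inf_le_left hcard hk0B hk0A hg with h | h
  · left; exact (Subgroup.mem_inf.mp h).2
  · right
    have h1 : ρ (k0 * g) v1 = v1 := (Subgroup.mem_inf.mp h).2
    rw [rmul, e.k01 _ (e.hH1 g hgH v1 hv1)] at h1
    exact neg_eq_iff_eq_neg.mp h1

theorem Imp2K.K0_eq [Nontrivial V] (e : Imp2K ρ H W0 W1 k0 k1) {g : G} (hgH : g ∈ H)
    (hfix : ∀ w ∈ W0, ρ g w = w) : g = 1 ∨ g = k0 := by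
  obtain ⟨v0, hv0, hv00⟩ := e.toImp2.W0_ne_bot
  have hg : g ∈ stab ρ v0 := hfix v0 hv0
  rcases e.toImp2.pm_one_of_pointwise W1 (ρ g) (fun w hw => e.pm_on_W1 hv0 hv00 hg hw) with h | h
  · left
    apply e.toImp2.eq_of_agree
    · intro w hw; rw [hfix w hw, rone]
    · intro w hw; rw [h w hw, rone]
  · right
    apply e.toImp2.eq_of_agree
    · intro w hw; rw [hfix w hw, e.k00 w hw]
    · intro w hw; rw [h w hw, e.k01 w hw]

theorem Imp2K.stab_W0 [Nontrivial V] (e : Imp2K ρ H W0 W1 k0 k1) {v0 : V} (hv0 : v0 ∈ W0)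
    (hv00 : v0 ≠ 0) {g : G} (hg : g ∈ stab ρ v0) : g = 1 ∨ g = k0 := by
  have hgH := e.stab_le_H hv0 hv00 hg
  rcases e.toImp2.pm_one_of_pointwise W1 (ρ g) (fun w hw => e.pm_on_W1 hv0 hv00 hg hw) with h | h
  · rcases e.symm.K0_eq hgH h with h1 | h1
    · left; exact h1
    · exfalso
      have h2 : ρ g v0 = v0 := hg
      rw [h1, e.k10 v0 hv0] at h2
      exact e.toImp2.neg_ne hv00 h2
  · have h2 : ∀ w ∈ W1, ρ (k0 * g) w = w := by
      intro w hw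
      rw [rmul, h w hw, map_neg, e.k01 w hw, neg_neg]
    rcases e.symm.K0_eq (H.mul_mem e.k0H hgH) h2 with h1 | h1
    · right
      have hk : k0 * k0 = 1 := e.k0_sq
      calc g = k0 * (k0 * g) := by rw [← mul_assoc, hk, one_mul]
        _ = k0 := by rw [h1, mul_one]
    · exfalso
      have h3 : ρ (k0 * g) v0 = v0 := by rw [rmul, (mem_stab ρ).mp hg, e.k00 v0 hv0]
      rw [h1, e.k10 v0 hv0] at h3
      exact e.toImp2.neg_ne hv00 h3

theorem Imp2K.exists_swap [Nontrivial V] (e : Imp2K ρ H W0 W1 k0 k1) {v0 v1 : V}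
    (hv0 : v0 ∈ W0) (hv00 : v0 ≠ 0) (hv1 : v1 ∈ W1) (hv10 : v1 ≠ 0) :
    ∃ t : G, t ∉ H ∧ ρ t v0 = v1 ∧ ρ t v1 = v0 := by
  have hsum := e.sum_ne hv0 hv00 hv1
  have hk0ne : k0 ≠ 1 := by
    intro h
    have h1 := e.k01 v1 hv1
    rw [h, rone] at h1
    exact e.toImp2.neg_ne hv10 h1.symm
  have hnb0 : stab ρ v0 ≠ ⊥ := by
    intro h
    have h1 : k0 ∈ (⊥ : Subgroup G) := h ▸ (e.k00 v0 hv0 : k0 ∈ stab ρ v0)
    exact hk0ne (Subgroup.mem_bot.mp h1)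
  have hnb : stab ρ (v0 + v1) ≠ ⊥ := by
    intro h
    have h1 : Nat.card (stab ρ v0) = 1 := by
      rw [e.hst v0 (v0 + v1) hv00 hsum, h, Subgroup.card_bot]
    exact hnb0 (Subgroup.card_eq_one.mp h1)
  obtain ⟨t, htS, ht1⟩ : ∃ t ∈ stab ρ (v0 + v1), t ≠ 1 := by
    rw [Subgroup.ne_bot_iff_exists_ne_one] at hnb
    obtain ⟨⟨t, ht⟩, h⟩ := hnb
    exact ⟨t, ht, fun h' => h (Subtype.ext h')⟩
  have htH : t ∉ H := by
    intro htH
    have h2 := (fix_add_iff ρ e.hc.disjoint hv0 hv1 (e.hH0 t htH v0 hv0)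
      (e.hH1 t htH v1 hv1)).mp htS
    rcases e.stab_W0 hv0 hv00 (g := t) h2.1 with h3 | h3
    · exact ht1 h3
    · have h4 := h2.2
      rw [h3, e.k01 v1 hv1] at h4
      exact e.toImp2.neg_ne hv10 h4
  refine ⟨t, htH, ?_⟩
  have ha : ρ t v0 ∈ W1 := e.hsw0 t htH v0 hv0
  have hb : ρ t v1 ∈ W0 := e.hsw1 t htH v1 hv1
  have hfix : ρ t v0 + ρ t v1 = v0 + v1 := by rw [← map_add]; exact htS
  have h1 : ρ t v1 - v0 = v1 - ρ t v0 := by
    rw [sub_eq_sub_iff_add_eq_add, add_comm, hfix, add_comm]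
  have h2 : ρ t v1 - v0 ∈ W0 := W0.sub_mem hb hv0
  have h3 : ρ t v1 - v0 ∈ W1 := h1 ▸ W1.sub_mem hv1 ha
  have h4 := e.toImp2.disj h2 h3
  have h5 : v1 - ρ t v0 = 0 := h1 ▸ h4
  exact ⟨(sub_eq_zero.mp h5).symm, sub_eq_zero.mp h4⟩

theorem Imp2K.trans0 [Nontrivial V] (e : Imp2K ρ H W0 W1 k0 k1) {v v' : V} (hv : v ∈ W0)
    (hv0 : v ≠ 0) (hv' : v' ∈ W0) (hv'0 : v' ≠ 0) : ∃ h ∈ H, ρ h v = v' := by
  obtain ⟨w, hw, hw0⟩ := e.symm.toImp2.W0_ne_bot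
  obtain ⟨t, htH, ht1, -⟩ := e.exists_swap hv hv0 hw hw0
  obtain ⟨t', ht'H, -, ht'2⟩ := e.exists_swap hv' hv'0 hw hw0
  exact ⟨t' * t, e.toImp2.mul_mem ht'H htH, by rw [rmul, ht1, ht'2]⟩

end two

end Cfsg.Agent.Lib.Helper53.HalfTrans
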