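import Mathlib
import Cfsg.Agent.Lib.Helper53.HalfTransTwo
import Cfsg.Agent.S3370

/-!
Half-transitive linear `p`-groups (Passman): the imprimitive case with two blocks, part 2
(helper53): the blocks have `q` or `9` elements (via S3370), and when they have `q` elements the
group is the full monomial group `T(q)` in suitable coordinates.
-/

set_option autoImplicit false
set_option linter.unusedSectionVars false

namespace Cfsg.Agent.Lib.Helper53.HalfTrans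

section twoB

variable {q : ℕ} [hq : Fact q.Prime] {V : Type*} [AddCommGroup V] [Module (ZMod q) V]
  {G : Type*} [Group G] [Finite G]
  {ρ : G →* (V ≃ₗ[ZMod q] V)} {H : Subgroup G} {W0 W1 : Submodule (ZMod q) V} {k0 k1 : G}

theorem Imp2.map_eq (d : Imp2 ρ H W0 W1) {h : G} (hh : h ∈ H) :
    W0.map ((ρ h : V ≃ₗ[ZMod q] V) : V →ₗ[ZMod q] V) = W0 := by
  apply le_antisymm
  · rintro _ ⟨w, hw, rfl⟩
    exact d.hH0 h hh w hw
  · intro w hw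
    exact ⟨ρ h⁻¹ w, d.hH0 _ (H.inv_mem hh) w hw, rinv' ρ h w⟩

/-- The action of `H` on the block `W0`. -/
noncomputable def Imp2.phi (d : Imp2 ρ H W0 W1) : H →* (W0 ≃ₗ[ZMod q] W0) where
  toFun h := (ρ (h : G)).ofSubmodules W0 W0 (d.map_eq h.2)
  map_one' := by
    ext w
    show ρ ((1 : H) : G) (w : V) = w
    exact rone ρ _
  map_mul' := by
    intro a b
    ext w
    show ρ ((a * b : H) : G) (w : V) = ρ (a : G) (ρ (b : G) (w : V))
    exact rmul ρ _ _ _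

theorem Imp2.phi_apply (d : Imp2 ρ H W0 W1) (h : H) (w : W0) :
    ((d.phi h w : W0) : V) = ρ (h : G) (w : V) := rfl

theorem Imp2K.block_card [Finite V] [Nontrivial V] (e : Imp2K ρ H W0 W1 k0 k1) :
    (Nat.card W0 = q ∧ ∃ m : ℕ, q = 2 ^ m + 1) ∨ (q = 3 ∧ Nat.card W0 = 9) := by
  obtain ⟨w0, hw0, hw00⟩ := e.toImp2.W0_ne_bot
  have hnt : Nontrivial W0 := ⟨⟨⟨w0, hw0⟩, 0, fun h => hw00 (congrArg Subtype.val h)⟩⟩
  have hfin : Finite e.toImp2.phi.range :=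
    Finite.of_surjective e.toImp2.phi.rangeRestrict e.toImp2.phi.rangeRestrict_surjective
  have hnt' : Nontrivial e.toImp2.phi.range := by
    refine ⟨⟨⟨e.toImp2.phi ⟨k1, e.k1H⟩, ⟨_, rfl⟩⟩, 1, ?_⟩⟩
    intro h
    have h1 : e.toImp2.phi ⟨k1, e.k1H⟩ = 1 := congrArg Subtype.val h
    have h2 : ((e.toImp2.phi ⟨k1, e.k1H⟩ ⟨w0, hw0⟩ : W0) : V) = w0 := by rw [h1]; rfl
    rw [e.toImp2.phi_apply] at h2
    have h3 : ρ k1 w0 = w0 := h2
    rw [e.k10 w0 hw0] at h3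
    exact e.toImp2.neg_ne hw00 h3
  have hG' : IsPGroup 2 e.toImp2.phi.range :=
    IsPGroup.of_surjective (e.hG.to_subgroup H) e.toImp2.phi.rangeRestrict
      e.toImp2.phi.rangeRestrict_surjective
  have hinj : Function.Injective e.toImp2.phi.range.subtype := Subgroup.subtype_injective _
  have htrans : ∀ v w : W0, v ≠ 0 → w ≠ 0 →
      ∃ g : e.toImp2.phi.range, e.toImp2.phi.range.subtype g v = w := by
    intro v w hv hw
    obtain ⟨h, hh, hvw⟩ := e.trans0 v.2 (fun h => hv (Subtype.ext h)) w.2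
      (fun h => hw (Subtype.ext h))
    exact ⟨⟨e.toImp2.phi ⟨h, hh⟩, ⟨_, rfl⟩⟩, Subtype.ext hvw⟩
  rcases Cfsg.Agent.S3370.result q 2 hG' e.toImp2.phi.range.subtype hinj htrans with h | h | h
  · exact absurd h.1 e.hq2
  · left
    obtain ⟨-, h1, ⟨m, hm, -⟩, -⟩ := h
    exact ⟨h1, m, hm⟩
  · right
    exact ⟨h.2.1, h.2.2.1⟩

theorem Imp2.card_V [Finite V] (d : Imp2 ρ H W0 W1) : Nat.card V = Nat.card W0 * Nat.card W1 := by
  rw [← Nat.card_prod]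
  exact (Nat.card_congr (Submodule.prodEquivOfIsCompl W0 W1 d.hc).toEquiv).symm

theorem Imp2.card_W1 [Finite V] (d : Imp2 ρ H W0 W1) : Nat.card W1 = Nat.card W0 := by
  obtain ⟨t, ht⟩ := d.exists_not_mem
  exact (Nat.card_congr
    { toFun := fun (w : W0) => (⟨ρ t w, d.hsw0 t ht w w.2⟩ : W1)
      invFun := fun (w : W1) => (⟨ρ t⁻¹ w, d.hsw1 t⁻¹ (d.inv_not_mem ht) w w.2⟩ : W0)
      left_inv := fun w => Subtype.ext (rinv ρ t w)
      right_inv := fun w => Subtype.ext (rinv' ρ t w) }).symm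

theorem Imp2.span_of_card [Finite V] (_d : Imp2 ρ H W0 W1) (hW0 : Nat.card W0 = q) {e0 : V}
    (he0 : e0 ∈ W0) (hne : e0 ≠ 0) : ∀ w ∈ W0, ∃ c : ZMod q, w = c • e0 := by
  have hinj : Function.Injective (fun c : ZMod q => (⟨c • e0, W0.smul_mem c he0⟩ : W0)) := by
    intro c c' h
    have h1 : c • e0 = c' • e0 := congrArg Subtype.val h
    have h2 : (c - c') • e0 = 0 := by rw [sub_smul, h1, sub_self]
    rcases smul_eq_zero.mp h2 with h3 | h3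
    · exact sub_eq_zero.mp h3
    · exact absurd h3 hne
  have hbij := hinj.bijective_of_nat_card_le (by rw [hW0, Nat.card_zmod])
  intro w hw
  obtain ⟨c, hc⟩ := hbij.2 ⟨w, hw⟩
  exact ⟨c, (congrArg Subtype.val hc).symm⟩

/-- Diagonal action in the basis `e0, e1`. -/
def Dg (ρ : G →* (V ≃ₗ[ZMod q] V)) (e0 e1 : V) (g : G) (a b : ZMod q) : Prop :=
  ρ g e0 = a • e0 ∧ ρ g e1 = b • e1

/-- Antidiagonal action in the basis `e0, e1`. -/
def Ag (ρ : G →* (V ≃ₗ[ZMod q] V)) (e0 e1 : V) (g : G) (a b : ZMod q) : Prop :=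
  ρ g e0 = a • e1 ∧ ρ g e1 = b • e0

/-- The coordinate map `(x, y) ↦ x e0 + y e1`. -/
noncomputable def coordMap (e0 e1 : V) : (Fin 2 → ZMod q) →ₗ[ZMod q] V :=
  (LinearMap.proj 0 : (Fin 2 → ZMod q) →ₗ[ZMod q] ZMod q).smulRight e0 +
    (LinearMap.proj 1 : (Fin 2 → ZMod q) →ₗ[ZMod q] ZMod q).smulRight e1

theorem coordMap_apply (e0 e1 : V) (x : Fin 2 → ZMod q) :
    coordMap e0 e1 x = x 0 • e0 + x 1 • e1 := rfl

theorem Imp2.coordMap_bijective [Finite V] (d : Imp2 ρ H W0 W1) (hW0 : Nat.card W0 = q)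
    {e0 e1 : V} (he0 : e0 ∈ W0) (hne0 : e0 ≠ 0) (he1 : e1 ∈ W1) (hne1 : e1 ≠ 0) :
    Function.Bijective (coordMap (q := q) e0 e1) := by
  constructor
  · rw [injective_iff_map_eq_zero]
    intro x hx
    rw [coordMap_apply] at hx
    have h1 : x 0 • e0 = -(x 1 • e1) := eq_neg_of_add_eq_zero_left hx
    have h2 : x 0 • e0 ∈ W1 := h1 ▸ W1.neg_mem (W1.smul_mem _ he1)
    have h3 := d.disj (W0.smul_mem _ he0) h2
    have h4 : x 1 • e1 = 0 := by rw [h3, zero_add] at hx; exact hx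
    have hx0 : x 0 = 0 := (smul_eq_zero.mp h3).resolve_right hne0
    have hx1 : x 1 = 0 := (smul_eq_zero.mp h4).resolve_right hne1
    ext i
    fin_cases i
    · exact hx0
    · exact hx1
  · intro v
    obtain ⟨w0, hw0, w1, hw1, rfl⟩ := d.decomp v
    obtain ⟨c0, rfl⟩ := d.span_of_card hW0 he0 hne0 w0 hw0
    obtain ⟨c1, rfl⟩ := d.symm.span_of_card (by rw [d.card_W1, hW0]) he1 hne1 w1 hw1
    exact ⟨![c0, c1], by simp [coordMap_apply]⟩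

theorem conj_iff (E : (Fin 2 → ZMod q) ≃ₗ[ZMod q] V) (g : G)
    (f : (Fin 2 → ZMod q) ≃ₗ[ZMod q] (Fin 2 → ZMod q)) :
    f = E.symm.symm.trans ((ρ g).trans E.symm) ↔ ∀ x, E (f x) = ρ g (E x) := by
  constructor
  · intro h x
    rw [h]
    simp
  · intro h
    apply LinearEquiv.ext
    intro x
    apply E.injective
    rw [h x]
    simp

theorem conj_iff_diag (E : (Fin 2 → ZMod q) ≃ₗ[ZMod q] V) {e0 e1 : V}
    (hE : ∀ x, E x = x 0 • e0 + x 1 • e1) {g : G} {a b : ZMod q} (hD : Dg ρ e0 e1 g a b)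
    (f : (Fin 2 → ZMod q) ≃ₗ[ZMod q] (Fin 2 → ZMod q)) :
    f = E.symm.symm.trans ((ρ g).trans E.symm) ↔ ∀ x, f x = ![a * x 0, b * x 1] := by
  rw [conj_iff]
  have key : ∀ x, ρ g (E x) = E ![a * x 0, b * x 1] := by
    intro x
    rw [hE, hE, map_add, map_smul, map_smul, hD.1, hD.2]
    simp [smul_smul, mul_comm]
  constructor
  · intro h x
    apply E.injective
    rw [h x, key x]
  · intro h x
    rw [h x, key x]

theorem conj_iff_antidiag (E : (Fin 2 → ZMod q) ≃ₗ[ZMod q] V) {e0 e1 : V}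
    (hE : ∀ x, E x = x 0 • e0 + x 1 • e1) {g : G} {a b : ZMod q} (hA : Ag ρ e0 e1 g a b)
    (f : (Fin 2 → ZMod q) ≃ₗ[ZMod q] (Fin 2 → ZMod q)) :
    f = E.symm.symm.trans ((ρ g).trans E.symm) ↔ ∀ x, f x = ![b * x 1, a * x 0] := by
  rw [conj_iff]
  have key : ∀ x, ρ g (E x) = E ![b * x 1, a * x 0] := by
    intro x
    rw [hE, hE, map_add, map_smul, map_smul, hA.1, hA.2]
    simp [smul_smul, mul_comm, add_comm]
  constructor
  · intro h x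
    apply E.injective
    rw [h x, key x]
  · intro h x
    rw [h x, key x]

section F

variable [Nontrivial V] (e : Imp2K ρ H W0 W1 k0 k1) {e0 e1 : V} {t1 : G}
  (he0 : e0 ∈ W0) (hne0 : e0 ≠ 0) (he1 : e1 ∈ W1) (hne1 : e1 ≠ 0) (ht1 : t1 ∉ H)
  (h01 : ρ t1 e0 = e1) (h10 : ρ t1 e1 = e0)

include e he0 hne0 he1 hne1 ht1 h01 h10

theorem Imp2K.exists_diag {a : ZMod q} (ha : a ≠ 0) : ∃ g ∈ H, Dg ρ e0 e1 g a a⁻¹ := by
  have hv1 : a • e1 ∈ W1 := W1.smul_mem a he1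
  have hv10 : a • e1 ≠ 0 := smul_ne_zero ha hne1
  obtain ⟨ta, hta, h1, h2⟩ := e.exists_swap he0 hne0 hv1 hv10
  have h3 : ρ ta e1 = a⁻¹ • e0 := by
    rw [map_smul] at h2
    rw [← h2, smul_smul, inv_mul_cancel₀ ha, one_smul]
  refine ⟨t1 * ta, e.toImp2.mul_mem ht1 hta, ?_, ?_⟩
  · rw [rmul, h1, map_smul, h10]
  · rw [rmul, h3, map_smul, h01]

theorem Imp2K.exists_diag' {a s : ZMod q} (ha : a ≠ 0) (hs : s = 1 ∨ s = -1) :
    ∃ g ∈ H, Dg ρ e0 e1 g a (s * a⁻¹) := by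
  obtain ⟨g, hg, hD1, hD2⟩ := e.exists_diag he0 hne0 he1 hne1 ht1 h01 h10 ha
  rcases hs with rfl | rfl
  · exact ⟨g, hg, hD1, by rw [one_mul]; exact hD2⟩
  · refine ⟨g * k0, H.mul_mem hg e.k0H, ?_, ?_⟩
    · rw [rmul, e.k00 e0 he0, hD1]
    · rw [rmul, e.k01 e1 he1, map_neg, hD2, neg_mul, one_mul, neg_smul]

theorem Imp2K.diag_of_mem [Finite V] (hW0 : Nat.card W0 = q) {g : G} (hg : g ∈ H) :
    ∃ a s : ZMod q, a ≠ 0 ∧ (s = 1 ∨ s = -1) ∧ Dg ρ e0 e1 g a (s * a⁻¹) := by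
  obtain ⟨a, ha⟩ := e.toImp2.span_of_card hW0 he0 hne0 (ρ g e0) (e.hH0 g hg e0 he0)
  have ha0 : a ≠ 0 := by
    intro h
    rw [h, zero_smul] at ha
    exact rne ρ g hne0 ha
  obtain ⟨d, hd, hD1, hD2⟩ := e.exists_diag he0 hne0 he1 hne1 ht1 h01 h10 ha0
  have hfix : d⁻¹ * g ∈ stab ρ e0 := by
    show ρ (d⁻¹ * g) e0 = e0
    rw [rmul, ha, ← hD1, rinv]
  rcases e.stab_W0 he0 hne0 hfix with h | h
  · have hgd : d = g := inv_mul_eq_one.mp h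
    refine ⟨a, 1, ha0, Or.inl rfl, ?_⟩
    rw [← hgd, one_mul]
    exact ⟨hD1, hD2⟩
  · have hgd : g = d * k0 := inv_mul_eq_iff_eq_mul.mp h
    refine ⟨a, -1, ha0, Or.inr rfl, ?_, ?_⟩
    · rw [hgd, rmul, e.k00 e0 he0, hD1]
    · rw [hgd, rmul, e.k01 e1 he1, map_neg, hD2, neg_mul, one_mul, neg_smul]

theorem Imp2K.antidiag_of_not_mem [Finite V] (hW0 : Nat.card W0 = q) {g : G} (hg : g ∉ H) :
    ∃ a s : ZMod q, a ≠ 0 ∧ (s = 1 ∨ s = -1) ∧ Ag ρ e0 e1 g a (s * a⁻¹) := by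
  have hh : t1⁻¹ * g ∈ H := e.toImp2.mul_mem (e.toImp2.inv_not_mem ht1) hg
  obtain ⟨a, s, ha, hs, hD1, hD2⟩ := e.diag_of_mem he0 hne0 he1 hne1 ht1 h01 h10 hW0 hh
  have hg' : g = t1 * (t1⁻¹ * g) := by group
  refine ⟨a, s, ha, hs, ?_, ?_⟩
  · rw [hg', rmul, hD1, map_smul, h01]
  · rw [hg', rmul, hD2, map_smul, h10]

theorem Imp2K.exists_antidiag {a s : ZMod q} (ha : a ≠ 0) (hs : s = 1 ∨ s = -1) :
    ∃ g : G, Ag ρ e0 e1 g a (s * a⁻¹) := by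
  obtain ⟨h, -, hD1, hD2⟩ := e.exists_diag' he0 hne0 he1 hne1 ht1 h01 h10 ha hs
  exact ⟨t1 * h, by rw [rmul, hD1, map_smul, h01], by rw [rmul, hD2, map_smul, h10]⟩

end F

theorem Imp2K.coords [Finite V] [Nontrivial V] (e : Imp2K ρ H W0 W1 k0 k1)
    (hW0 : Nat.card W0 = q) :
    ∃ ε : V ≃ₗ[ZMod q] (Fin 2 → ZMod q),
      ∀ f : (Fin 2 → ZMod q) ≃ₗ[ZMod q] (Fin 2 → ZMod q),
        (∃ g : G, f = ε.symm.trans ((ρ g).trans ε)) ↔
        ∃ a s : ZMod q, a ≠ 0 ∧ (s = 1 ∨ s = -1) ∧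
          ((∀ v, f v = ![a * v 0, s * a⁻¹ * v 1]) ∨ (∀ v, f v = ![s * a⁻¹ * v 1, a * v 0])) := by
  obtain ⟨e0, he0, hne0⟩ := e.toImp2.W0_ne_bot
  obtain ⟨e1, he1, hne1⟩ := e.symm.toImp2.W0_ne_bot
  obtain ⟨t1, ht1, h01, h10⟩ := e.exists_swap he0 hne0 he1 hne1
  have hbij := e.toImp2.coordMap_bijective hW0 he0 hne0 he1 hne1
  let E := LinearEquiv.ofBijective (coordMap (q := q) e0 e1) hbij
  have hE : ∀ x, E x = x 0 • e0 + x 1 • e1 := fun x => by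
    rw [LinearEquiv.ofBijective_apply, coordMap_apply]
  refine ⟨E.symm, fun f => ?_⟩
  constructor
  · rintro ⟨g, hg⟩
    by_cases hgH : g ∈ H
    · obtain ⟨a, s, ha, hs, hD⟩ := e.diag_of_mem he0 hne0 he1 hne1 ht1 h01 h10 hW0 hgH
      exact ⟨a, s, ha, hs, Or.inl ((conj_iff_diag E hE hD f).mp hg)⟩
    · obtain ⟨a, s, ha, hs, hA⟩ := e.antidiag_of_not_mem he0 hne0 he1 hne1 ht1 h01 h10 hW0 hgH
      exact ⟨a, s, ha, hs, Or.inr ((conj_iff_antidiag E hE hA f).mp hg)⟩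
  · rintro ⟨a, s, ha, hs, hf | hf⟩
    · obtain ⟨g, -, hD⟩ := e.exists_diag' he0 hne0 he1 hne1 ht1 h01 h10 ha hs
      exact ⟨g, (conj_iff_diag E hE hD f).mpr hf⟩
    · obtain ⟨g, hA⟩ := e.exists_antidiag he0 hne0 he1 hne1 ht1 h01 h10 ha hs
      exact ⟨g, (conj_iff_antidiag E hE hA f).mpr hf⟩

end twoB

end Cfsg.Agent.Lib.Helper53.HalfTrans
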