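import Mathlib

/-!
The monomial `2`-group of `GL(2, q)` consisting of the maps `(x, y) ↦ (a x, b y)` and
`(x, y) ↦ (b y, a x)` with `a b = ± 1`; odd-order automorphisms are trivial when `q = 2, 3`
or `q - 1` is a power of `2` at least `8`.
-/

set_option autoImplicit false
set_option linter.unusedSectionVars false
set_option linter.unusedVariables false

namespace Cfsg.Agent.Lib.Helper53.Monomial

/-- Stability principle: if `β g = g * n` with `n` a fixed `2`-element and `β` of odd order,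
then `β g = g`. -/
theorem fix_of_mul_fixed {G : Type*} [Group G] (β : MulAut G) (t : ℕ) (ht : Odd t)
    (hβ : β ^ t = 1) (g n : G) (hg : β g = g * n) (hn : β n = n) (j : ℕ)
    (hnj : n ^ (2 ^ j) = 1) : β g = g := by
  have key : ∀ k : ℕ, (β ^ k) g = g * n ^ k := by
    intro k
    induction k with
    | zero => simp
    | succ k ih =>
      rw [pow_succ', MulAut.mul_apply, ih, map_mul, map_pow, hg, hn, mul_assoc, ← pow_succ']
  have h1 : g * n ^ t = g := by rw [← key t, hβ]; rfl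
  have h2 : n ^ t = 1 := by simpa using h1
  have h3 : orderOf n ∣ Nat.gcd t (2 ^ j) :=
    Nat.dvd_gcd (orderOf_dvd_of_pow_eq_one h2) (orderOf_dvd_of_pow_eq_one hnj)
  have h4 : Nat.gcd t (2 ^ j) = 1 := by
    have : Nat.Coprime t 2 := Nat.coprime_two_right.mpr ht
    exact Nat.Coprime.pow_right j this
  rw [h4, Nat.dvd_one, orderOf_eq_one_iff] at h3
  rw [hg, h3, mul_one]

/-- The ambient group of linear automorphisms of `F_q²`. -/
abbrev Lq (q : ℕ) := (Fin 2 → ZMod q) ≃ₗ[ZMod q] (Fin 2 → ZMod q)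

section forms

variable {q : ℕ}

/-- `f` is the diagonal map `(x, y) ↦ (a x, b y)`. -/
def IsD (f : Lq q) (a b : ZMod q) : Prop := ∀ v, f v = ![a * v 0, b * v 1]

/-- `f` is the antidiagonal map `(x, y) ↦ (b y, a x)`. -/
def IsW (f : Lq q) (a b : ZMod q) : Prop := ∀ v, f v = ![b * v 1, a * v 0]

theorem IsD.mul {f g : Lq q} {a b c d : ZMod q} (hf : IsD f a b) (hg : IsD g c d) :
    IsD (f * g) (a * c) (b * d) := by
  intro v
  rw [LinearEquiv.mul_apply, hg, hf]
  ext i; fin_cases i <;> simp [mul_assoc]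

theorem IsD.mulW {f g : Lq q} {a b c d : ZMod q} (hf : IsD f a b) (hg : IsW g c d) :
    IsW (f * g) (b * c) (a * d) := by
  intro v
  rw [LinearEquiv.mul_apply, hg, hf]
  ext i; fin_cases i <;> simp [mul_assoc]

theorem IsW.mulD {f g : Lq q} {a b c d : ZMod q} (hf : IsW f a b) (hg : IsD g c d) :
    IsW (f * g) (a * c) (b * d) := by
  intro v
  rw [LinearEquiv.mul_apply, hg, hf]
  ext i; fin_cases i <;> simp [mul_assoc]

theorem IsW.mul {f g : Lq q} {a b c d : ZMod q} (hf : IsW f a b) (hg : IsW g c d) :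
    IsD (f * g) (b * c) (a * d) := by
  intro v
  rw [LinearEquiv.mul_apply, hg, hf]
  ext i; fin_cases i <;> simp [mul_assoc]

theorem IsD.one : IsD (1 : Lq q) 1 1 := by
  intro v
  ext i; fin_cases i <;> simp

theorem IsD.pow {f : Lq q} {a b : ZMod q} (hf : IsD f a b) (n : ℕ) :
    IsD (f ^ n) (a ^ n) (b ^ n) := by
  induction n with
  | zero => simpa using IsD.one
  | succ n ih => simpa [pow_succ] using ih.mul hf

theorem IsD.inv {f : Lq q} {a b a' b' : ZMod q} (hf : IsD f a b) (ha : a * a' = 1)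
    (hb : b * b' = 1) : IsD f⁻¹ a' b' := by
  intro v
  rw [LinearEquiv.coe_inv, LinearEquiv.symm_apply_eq, hf]
  ext i; fin_cases i
  · simp [← mul_assoc, ha]
  · simp [← mul_assoc, hb]

theorem IsW.inv {f : Lq q} {a b a' b' : ZMod q} (hf : IsW f a b) (ha : a * a' = 1)
    (hb : b * b' = 1) : IsW f⁻¹ b' a' := by
  intro v
  rw [LinearEquiv.coe_inv, LinearEquiv.symm_apply_eq, hf]
  ext i; fin_cases i
  · simp [← mul_assoc, hb]
  · simp [← mul_assoc, ha]

theorem IsD.ext {f g : Lq q} {a b : ZMod q} (hf : IsD f a b) (hg : IsD g a b) : f = g := by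
  apply LinearEquiv.ext
  intro v
  rw [hf, hg]

theorem IsW.ext {f g : Lq q} {a b : ZMod q} (hf : IsW f a b) (hg : IsW g a b) : f = g := by
  apply LinearEquiv.ext
  intro v
  rw [hf, hg]

theorem IsD.inj {f : Lq q} {a b c d : ZMod q} (hf : IsD f a b) (hg : IsD f c d) :
    a = c ∧ b = d := by
  constructor
  · have h := congrFun ((hf ![1, 0]).symm.trans (hg ![1, 0])) 0
    simpa using h
  · have h := congrFun ((hf ![0, 1]).symm.trans (hg ![0, 1])) 1
    simpa using h

theorem IsW.inj {f : Lq q} {a b c d : ZMod q} (hf : IsW f a b) (hg : IsW f c d) :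
    a = c ∧ b = d := by
  constructor
  · have h := congrFun ((hf ![1, 0]).symm.trans (hg ![1, 0])) 1
    simpa using h
  · have h := congrFun ((hf ![0, 1]).symm.trans (hg ![0, 1])) 0
    simpa using h

theorem IsD.not_isW {f : Lq q} {a b c d : ZMod q} (hf : IsD f a b) (hg : IsW f c d) :
    a = 0 := by
  have h := congrFun ((hf ![1, 0]).symm.trans (hg ![1, 0])) 0
  simpa using h

/-- The linear map `(x, y) ↦ (a x, b y)`. -/
def linD (a b : ZMod q) : (Fin 2 → ZMod q) →ₗ[ZMod q] (Fin 2 → ZMod q) where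
  toFun v := ![a * v 0, b * v 1]
  map_add' v w := by ext i; fin_cases i <;> simp [mul_add]
  map_smul' c v := by ext i; fin_cases i <;> simp [mul_left_comm]

/-- The linear map `(x, y) ↦ (b y, a x)`. -/
def linW (a b : ZMod q) : (Fin 2 → ZMod q) →ₗ[ZMod q] (Fin 2 → ZMod q) where
  toFun v := ![b * v 1, a * v 0]
  map_add' v w := by ext i; fin_cases i <;> simp [mul_add]
  map_smul' c v := by ext i; fin_cases i <;> simp [mul_left_comm]

theorem exists_isD (a b a' b' : ZMod q) (ha : a * a' = 1) (hb : b * b' = 1) :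
    ∃ f : Lq q, IsD f a b := by
  refine ⟨LinearEquiv.ofLinearMap (linD a b) (linD a' b') ?_ ?_, fun v => rfl⟩
  · ext v i; fin_cases i
    · simp [linD, ← mul_assoc, ha]
    · simp [linD, ← mul_assoc, hb]
  · ext v i; fin_cases i
    · simp [linD, ← mul_assoc, mul_comm a' a, ha]
    · simp [linD, ← mul_assoc, mul_comm b' b, hb]

theorem exists_isW (a b a' b' : ZMod q) (ha : a * a' = 1) (hb : b * b' = 1) :
    ∃ f : Lq q, IsW f a b := by
  refine ⟨LinearEquiv.ofLinearMap (linW a b) (linW b' a') ?_ ?_, fun v => rfl⟩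
  · ext v i; fin_cases i
    · simp [linW, ← mul_assoc, hb]
    · simp [linW, ← mul_assoc, ha]
  · ext v i; fin_cases i
    · simp [linW, ← mul_assoc, mul_comm a' a, ha]
    · simp [linW, ← mul_assoc, mul_comm b' b, hb]

end forms

theorem sign_ne_zero {q : ℕ} [Fact q.Prime] {a b : ZMod q} (h : a * b = 1 ∨ a * b = -1) :
    a ≠ 0 ∧ b ≠ 0 := by
  constructor
  · rintro rfl
    rcases h with h | h
    · simp at h
    · simp at h
  · rintro rfl
    rcases h with h | h
    · simp at h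
    · simp at h

section group

variable {q : ℕ} [Fact q.Prime] (T : Subgroup (Lq q))
  (hT : ∀ f : Lq q, f ∈ T ↔ ∃ a b : ZMod q, (a * b = 1 ∨ a * b = -1) ∧ (IsD f a b ∨ IsW f a b))

include hT

theorem T_cases (g : T) :
    ∃ a b : ZMod q, (a * b = 1 ∨ a * b = -1) ∧ (IsD (g : Lq q) a b ∨ IsW (g : Lq q) a b) :=
  (hT g).mp g.2

theorem exists_T_isD (a b : ZMod q) (h : a * b = 1 ∨ a * b = -1) :
    ∃ g : T, IsD (g : Lq q) a b := by
  obtain ⟨ha, hb⟩ := sign_ne_zero h
  obtain ⟨f, hf⟩ := exists_isD a b a⁻¹ b⁻¹ (mul_inv_cancel₀ ha) (mul_inv_cancel₀ hb)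
  exact ⟨⟨f, (hT f).mpr ⟨a, b, h, Or.inl hf⟩⟩, hf⟩

theorem exists_T_isW (a b : ZMod q) (h : a * b = 1 ∨ a * b = -1) :
    ∃ g : T, IsW (g : Lq q) a b := by
  obtain ⟨ha, hb⟩ := sign_ne_zero h
  obtain ⟨f, hf⟩ := exists_isW a b a⁻¹ b⁻¹ (mul_inv_cancel₀ ha) (mul_inv_cancel₀ hb)
  exact ⟨⟨f, (hT f).mpr ⟨a, b, h, Or.inr hf⟩⟩, hf⟩

omit hT in
theorem T_ext_D {g h : T} {a b : ZMod q} (hg : IsD (g : Lq q) a b) (hh : IsD (h : Lq q) a b) :
    g = h := Subtype.ext (hg.ext hh)

omit hT in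
theorem T_ext_W {g h : T} {a b : ZMod q} (hg : IsW (g : Lq q) a b) (hh : IsW (h : Lq q) a b) :
    g = h := Subtype.ext (hg.ext hh)

omit hT in
theorem T_eq_one {g : T} (hg : IsD (g : Lq q) 1 1) : g = 1 :=
  Subtype.ext (hg.ext IsD.one)

omit hT in
/-- antidiagonal elements have fourth power one -/
theorem W_pow_four {g : T} {a b : ZMod q} (hg : IsW (g : Lq q) a b) (h : a * b = 1 ∨ a * b = -1) :
    g ^ 4 = 1 := by
  have h1 : IsD ((g * g : T) : Lq q) (b * a) (a * b) := hg.mul hg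
  have h2 : IsD (((g * g) * (g * g) : T) : Lq q) (b * a * (b * a)) (a * b * (a * b)) := h1.mul h1
  have h3 : a * b * (a * b) = 1 := by
    rcases h with h | h <;> rw [h] <;> simp
  have h4 : b * a * (b * a) = 1 := by rw [mul_comm b a]; exact h3
  rw [h3, h4] at h2
  have h5 : g ^ 4 = (g * g) * (g * g) := by
    simp only [pow_succ, pow_zero, one_mul, mul_assoc]
  rw [h5]
  exact T_eq_one T h2

omit hT in
/-- the scalar `-1` is central -/
theorem z_central {z : T} (hz : IsD (z : Lq q) (-1) (-1)) (g : T) : z * g = g * z := by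
  apply Subtype.ext
  apply LinearEquiv.ext
  intro v
  have h1 : ∀ w : Fin 2 → ZMod q, (z : Lq q) w = -w := by
    intro w
    rw [hz]
    ext i; fin_cases i <;> simp
  rw [Subgroup.coe_mul, Subgroup.coe_mul, LinearEquiv.mul_apply, LinearEquiv.mul_apply, h1, h1,
    map_neg]

omit hT in
theorem sign_mul {a b c d : ZMod q} (h : a * b = 1 ∨ a * b = -1) (h' : c * d = 1 ∨ c * d = -1) :
    (a * c) * (b * d) = 1 ∨ (a * c) * (b * d) = -1 := by
  have e : a * c * (b * d) = (a * b) * (c * d) := by ring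
  rw [e]
  rcases h with h | h <;> rcases h' with h' | h' <;> rw [h, h'] <;> simp

omit hT in
theorem pm_one_cases {a b : ZMod q} (ha : a * a = 1) (hb : b * b = 1) (hab : a ≠ b) : b = -a := by
  rcases mul_self_eq_one_iff.mp ha with h | h <;> rcases mul_self_eq_one_iff.mp hb with h' | h'
  · exact absurd (h.trans h'.symm) hab
  · rw [h, h']
  · rw [h, h']; simp
  · exact absurd (h.trans h'.symm) hab

section large

variable (m : ℕ) (hpow : ∀ a : ZMod q, a ≠ 0 → a ^ (2 ^ m) = 1)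
  (h2 : (2 : ZMod q) ≠ 0) (h16 : (2 : ZMod q) ^ 4 ≠ 1)
  (β : MulAut T) (t : ℕ) (ht : Odd t) (hβ : β ^ t = 1)

include hpow h2 h16 ht hβ

theorem large_D_of_pow4 {d : T} {a b : ZMod q} (hd : IsD (d : Lq q) a b) (ha : a ^ 4 ≠ 1) :
    ∃ a' b', (a' * b' = 1 ∨ a' * b' = -1) ∧ IsD ((β d : T) : Lq q) a' b' := by
  obtain ⟨a', b', hs, h | h⟩ := T_cases T hT (β d)
  · exact ⟨a', b', hs, h⟩
  · exfalso
    have h4 : (β d) ^ 4 = 1 := W_pow_four T h hs
    rw [← map_pow] at h4
    have h5 : d ^ 4 = 1 := by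
      apply β.injective; rw [h4, map_one]
    have h6 : IsD ((d ^ 4 : T) : Lq q) (a ^ 4) (b ^ 4) := hd.pow 4
    rw [h5] at h6
    exact ha (h6.inj IsD.one).1

theorem large_D {d : T} {a b : ZMod q} (hd : IsD (d : Lq q) a b) :
    ∃ a' b', (a' * b' = 1 ∨ a' * b' = -1) ∧ IsD ((β d : T) : Lq q) a' b' := by
  by_cases ha : a ^ 4 = 1
  · obtain ⟨x0, hx0⟩ := exists_T_isD T hT 2 2⁻¹ (Or.inl (mul_inv_cancel₀ h2))
    have hx0i : IsD ((x0⁻¹ : T) : Lq q) 2⁻¹ 2 :=
      hx0.inv (mul_inv_cancel₀ h2) (inv_mul_cancel₀ h2)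
    have he : IsD ((d * x0⁻¹ : T) : Lq q) (a * 2⁻¹) (b * 2) := hd.mul hx0i
    have he4 : (a * 2⁻¹) ^ 4 ≠ 1 := by
      rw [mul_pow, ha, one_mul, inv_pow]
      intro h
      exact h16 (inv_eq_one.mp h)
    obtain ⟨a1, b1, hs1, h1⟩ := large_D_of_pow4 T hT m hpow h2 h16 β t ht hβ he he4
    obtain ⟨a2, b2, hs2, h2'⟩ := large_D_of_pow4 T hT m hpow h2 h16 β t ht hβ hx0 h16
    have e : β d = β (d * x0⁻¹) * β x0 := by rw [← map_mul]; simp
    refine ⟨a1 * a2, b1 * b2, sign_mul hs1 hs2, ?_⟩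
    rw [e]
    exact h1.mul h2'
  · exact large_D_of_pow4 T hT m hpow h2 h16 β t ht hβ hd ha

theorem large_z {z : T} (hz : IsD (z : Lq q) (-1) (-1)) : β z = z := by
  obtain ⟨a, b, hs, hy⟩ := large_D T hT m hpow h2 h16 β t ht hβ hz
  have hcen : ∀ g : T, β z * g = g * β z := by
    intro g
    have := congrArg β (z_central T hz (β.symm g))
    simpa using this
  obtain ⟨w0, hw0⟩ := exists_T_isW T hT 1 1 (Or.inl (by ring))
  have h1 : IsW ((β z * w0 : T) : Lq q) (b * 1) (a * 1) := hy.mulW hw0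
  have h2' : IsW ((w0 * β z : T) : Lq q) (1 * a) (1 * b) := hw0.mulD hy
  rw [hcen w0] at h1
  have hab : b = a := by simpa using (h1.inj h2').1
  subst hab
  have hzz : z * z = 1 := T_eq_one T (by simpa using hz.mul hz)
  have hyy : β z * β z = 1 := by rw [← map_mul, hzz, map_one]
  have h3 : IsD ((β z * β z : T) : Lq q) (b * b) (b * b) := hy.mul hy
  rw [hyy] at h3
  have haa : b * b = 1 := (h3.inj IsD.one).1
  rcases mul_self_eq_one_iff.mp haa with h | h
  · exfalso
    subst h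
    have e1 : β z = 1 := T_eq_one T hy
    have e2 : z = 1 := by apply β.injective; rw [e1, map_one]
    rw [e2] at hz
    have e3 : (-1 : ZMod q) = 1 := (hz.inj IsD.one).1
    apply h2
    linear_combination -e3
  · subst h
    exact T_ext_D T hy hz

theorem large_scalar {g : T} {a : ZMod q} (hg : IsD (g : Lq q) a a) (ha : a * a = 1) :
    β g = g := by
  rcases mul_self_eq_one_iff.mp ha with h | h
  · subst h; rw [T_eq_one T hg, map_one]
  · subst h; exact large_z T hT m hpow h2 h16 β t ht hβ hg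

theorem large_omega {ω : T} {a b : ZMod q} (hω : IsD (ω : Lq q) a b) (ha : a * a = 1)
    (hb : b * b = 1) : β ω = ω := by
  by_cases hab : a = b
  · subst hab; exact large_scalar T hT m hpow h2 h16 β t ht hβ hω ha
  · obtain ⟨a', b', hs', hω'⟩ := large_D T hT m hpow h2 h16 β t ht hβ hω
    have hsq : ω * ω = 1 := T_eq_one T (by have := hω.mul hω; rwa [ha, hb] at this)
    have hsq' : β ω * β ω = 1 := by rw [← map_mul, hsq, map_one]
    have h3 : IsD ((β ω * β ω : T) : Lq q) (a' * a') (b' * b') := hω'.mul hω'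
    rw [hsq'] at h3
    obtain ⟨ha', hb'⟩ := h3.inj IsD.one
    by_cases hab' : a' = b'
    · exfalso
      subst hab'
      have h4 : β (β ω) = β ω := large_scalar T hT m hpow h2 h16 β t ht hβ hω' ha'
      have h5 : β ω = ω := β.injective h4
      rw [h5] at hω'
      obtain ⟨e1, e2⟩ := hω.inj hω'
      exact hab (e1.trans e2.symm)
    · have hbe : b = -a := pm_one_cases ha hb hab
      have hbe' : b' = -a' := pm_one_cases ha' hb' hab'
      subst hbe; subst hbe'
      rcases mul_self_eq_one_iff.mp ha with h | h <;> rcases mul_self_eq_one_iff.mp ha' with h' | h'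
      · subst h; subst h'; exact T_ext_D T hω' hω
      · subst h; subst h'
        obtain ⟨z, hz⟩ := exists_T_isD T hT (-1) (-1) (Or.inl (by ring))
        have hωz : IsD ((ω * z : T) : Lq q) (1 * -1) (-1 * -1) := hω.mul hz
        have e : β ω = ω * z := T_ext_D T (by simpa using hω') (by simpa using hωz)
        have hzz : z ^ 2 ^ 1 = 1 := by
          rw [pow_one, pow_two]
          exact T_eq_one T (by simpa using hz.mul hz)
        exact fix_of_mul_fixed β t ht hβ ω z e (large_z T hT m hpow h2 h16 β t ht hβ hz) 1 hzz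
      · subst h; subst h'
        obtain ⟨z, hz⟩ := exists_T_isD T hT (-1) (-1) (Or.inl (by ring))
        have hωz : IsD ((ω * z : T) : Lq q) (-1 * -1) (- -1 * -1) := hω.mul hz
        have e : β ω = ω * z := T_ext_D T (by simpa using hω') (by simpa using hωz)
        have hzz : z ^ 2 ^ 1 = 1 := by
          rw [pow_one, pow_two]
          exact T_eq_one T (by simpa using hz.mul hz)
        exact fix_of_mul_fixed β t ht hβ ω z e (large_z T hT m hpow h2 h16 β t ht hβ hz) 1 hzz
      · subst h; subst h'; exact T_ext_D T hω' hω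

theorem large_D_pow {d : T} {a b : ZMod q} (hs : a * b = 1 ∨ a * b = -1)
    (hd : IsD (d : Lq q) a b) : d ^ (2 ^ m) = 1 := by
  obtain ⟨ha0, hb0⟩ := sign_ne_zero hs
  have h := hd.pow (2 ^ m)
  rw [hpow a ha0, hpow b hb0] at h
  exact T_eq_one T h

theorem large_Dfix : ∀ (k : ℕ) (d : T) (a b : ZMod q), (a * b = 1 ∨ a * b = -1) →
    IsD (d : Lq q) a b → d ^ (2 ^ k) = 1 → β d = d := by
  intro k
  induction k with
  | zero =>
    intro d a b _ _ h
    rw [pow_zero, pow_one] at h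
    rw [h, map_one]
  | succ k ih =>
    intro d a b hs hd h
    have hdd : IsD ((d * d : T) : Lq q) (a * a) (b * b) := hd.mul hd
    have hdd1 : (d * d) ^ (2 ^ k) = 1 := by
      rw [← pow_two, ← pow_mul, ← pow_succ']; exact h
    have hfix : β (d * d) = d * d := ih (d * d) (a * a) (b * b) (sign_mul hs hs) hdd hdd1
    obtain ⟨a', b', hs', hd'⟩ := large_D T hT m hpow h2 h16 β t ht hβ hd
    have h3 : IsD ((β d * β d : T) : Lq q) (a' * a') (b' * b') := hd'.mul hd'
    rw [← map_mul, hfix] at h3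
    obtain ⟨e1, e2⟩ := hdd.inj h3
    obtain ⟨ha0, hb0⟩ := sign_ne_zero hs
    have hdi : IsD ((d⁻¹ : T) : Lq q) a⁻¹ b⁻¹ :=
      hd.inv (mul_inv_cancel₀ ha0) (mul_inv_cancel₀ hb0)
    have hn : IsD ((d⁻¹ * β d : T) : Lq q) (a⁻¹ * a') (b⁻¹ * b') := hdi.mul hd'
    have hna : (a⁻¹ * a') * (a⁻¹ * a') = 1 := by
      have e : (a⁻¹ * a') * (a⁻¹ * a') = a⁻¹ * a⁻¹ * (a' * a') := by ring
      rw [e, ← e1]; field_simp
    have hnb : (b⁻¹ * b') * (b⁻¹ * b') = 1 := by
      have e : (b⁻¹ * b') * (b⁻¹ * b') = b⁻¹ * b⁻¹ * (b' * b') := by ring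
      rw [e, ← e2]; field_simp
    have hnfix : β (d⁻¹ * β d) = d⁻¹ * β d :=
      large_omega T hT m hpow h2 h16 β t ht hβ hn hna hnb
    have e : β d = d * (d⁻¹ * β d) := by group
    have hnn : (d⁻¹ * β d) ^ 2 ^ 1 = 1 := by
      rw [pow_one, pow_two]
      exact T_eq_one T (by have := hn.mul hn; rwa [hna, hnb] at this)
    exact fix_of_mul_fixed β t ht hβ d _ e hnfix 1 hnn

omit hT hpow h2 h16 ht hβ in
theorem sign_inv {a b : ZMod q} (h : a * b = 1 ∨ a * b = -1) :
    a⁻¹ * b⁻¹ = 1 ∨ a⁻¹ * b⁻¹ = -1 := by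
  rw [← mul_inv]
  rcases h with h | h <;> rw [h] <;> simp

theorem large_fix (g : T) : β g = g := by
  obtain ⟨a, b, hs, hg | hg⟩ := T_cases T hT g
  · exact large_Dfix T hT m hpow h2 h16 β t ht hβ m g a b hs hg
      (large_D_pow T hT m hpow h2 h16 β t ht hβ hs hg)
  · obtain ⟨a', b', hs', hg' | hg'⟩ := T_cases T hT (β g)
    · exfalso
      have h1 : β (β g) = β g := large_Dfix T hT m hpow h2 h16 β t ht hβ m (β g) a' b' hs' hg'
        (large_D_pow T hT m hpow h2 h16 β t ht hβ hs' hg')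
      have h2' : β g = g := β.injective h1
      rw [h2'] at hg'
      exact (sign_ne_zero hs').1 (hg'.not_isW hg)
    · obtain ⟨ha0, hb0⟩ := sign_ne_zero hs
      have hgi : IsW ((g⁻¹ : T) : Lq q) b⁻¹ a⁻¹ :=
        hg.inv (mul_inv_cancel₀ ha0) (mul_inv_cancel₀ hb0)
      have hn : IsD ((g⁻¹ * β g : T) : Lq q) (a⁻¹ * a') (b⁻¹ * b') := hgi.mul hg'
      have hsn : (a⁻¹ * a') * (b⁻¹ * b') = 1 ∨ (a⁻¹ * a') * (b⁻¹ * b') = -1 :=
        sign_mul (sign_inv hs) hs'
      have hnp := large_D_pow T hT m hpow h2 h16 β t ht hβ hsn hn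
      have hnfix := large_Dfix T hT m hpow h2 h16 β t ht hβ m _ _ _ hsn hn hnp
      have e : β g = g * (g⁻¹ * β g) := by group
      exact fix_of_mul_fixed β t ht hβ g _ e hnfix m hnp

end large

section small

variable (hpm : ∀ a : ZMod q, a ≠ 0 → a = 1 ∨ a = -1)

include hpm

/-- the case `q = 2` -/
theorem two_fix (h11 : (-1 : ZMod q) = 1) (β : MulAut T) (g : T) : β g = g := by
  have hone : ∀ a : ZMod q, a ≠ 0 → a = 1 := by
    intro a ha
    rcases hpm a ha with h | h
    · exact h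
    · rw [h, h11]
  obtain ⟨a, b, hs, hg | hg⟩ := T_cases T hT g
  · obtain ⟨ha0, hb0⟩ := sign_ne_zero hs
    rw [hone a ha0, hone b hb0] at hg
    rw [T_eq_one T hg, map_one]
  · obtain ⟨ha0, hb0⟩ := sign_ne_zero hs
    rw [hone a ha0, hone b hb0] at hg
    obtain ⟨a', b', hs', hg' | hg'⟩ := T_cases T hT (β g)
    · obtain ⟨ha0', hb0'⟩ := sign_ne_zero hs'
      rw [hone a' ha0', hone b' hb0'] at hg'
      have e1 : β g = 1 := T_eq_one T hg'
      have e2 : g = 1 := by apply β.injective; rw [e1, map_one]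
      rw [e2, map_one]
    · obtain ⟨ha0', hb0'⟩ := sign_ne_zero hs'
      rw [hone a' ha0', hone b' hb0'] at hg'
      exact T_ext_W T hg' hg

variable (h2 : (2 : ZMod q) ≠ 0) (β : MulAut T) (t : ℕ) (ht : Odd t) (hβ : β ^ t = 1)

include h2 ht hβ

theorem small_z {z : T} (hz : IsD (z : Lq q) (-1) (-1)) : β z = z := by
  have hcen : ∀ g : T, β z * g = g * β z := by
    intro g
    have := congrArg β (z_central T hz (β.symm g))
    simpa using this
  obtain ⟨w0, hw0⟩ := exists_T_isW T hT 1 1 (Or.inl (by ring))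
  obtain ⟨c, hc⟩ := exists_T_isD T hT 1 (-1) (Or.inr (by ring))
  have hzz : z * z = 1 := T_eq_one T (by simpa using hz.mul hz)
  have hyy : β z * β z = 1 := by rw [← map_mul, hzz, map_one]
  obtain ⟨a, b, hs, hy | hy⟩ := T_cases T hT (β z)
  · have h1 : IsW ((β z * w0 : T) : Lq q) (b * 1) (a * 1) := hy.mulW hw0
    have h2' : IsW ((w0 * β z : T) : Lq q) (1 * a) (1 * b) := hw0.mulD hy
    rw [hcen w0] at h1
    have hab : b = a := by simpa using (h1.inj h2').1
    subst hab
    obtain ⟨hb0, -⟩ := sign_ne_zero hs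
    rcases hpm b hb0 with h | h
    · exfalso
      subst h
      have e1 : β z = 1 := T_eq_one T hy
      have e2 : z = 1 := by apply β.injective; rw [e1, map_one]
      rw [e2] at hz
      have e3 : (-1 : ZMod q) = 1 := (hz.inj IsD.one).1
      apply h2
      linear_combination -e3
    · subst h
      exact T_ext_D T hy hz
  · exfalso
    have h1 : IsD ((β z * w0 : T) : Lq q) (b * 1) (a * 1) := hy.mul hw0
    have h2' : IsD ((w0 * β z : T) : Lq q) (1 * a) (1 * b) := hw0.mul hy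
    rw [hcen w0] at h1
    have hab : b = a := by simpa using (h1.inj h2').1
    subst hab
    have h3 : IsW ((β z * c : T) : Lq q) (b * 1) (b * -1) := hy.mulD hc
    have h4 : IsW ((c * β z : T) : Lq q) (-1 * b) (1 * b) := hc.mulW hy
    rw [hcen c] at h3
    have h5 : b * 1 = -1 * b := (h3.inj h4).1
    obtain ⟨hb0, -⟩ := sign_ne_zero hs
    have h6 : (2 : ZMod q) * b = 0 := by linear_combination h5
    rcases mul_eq_zero.mp h6 with h | h
    · exact h2 h
    · exact hb0 h

theorem small_scalar {g : T} {a : ZMod q} (hg : IsD (g : Lq q) a a) (ha : a * a = 1) :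
    β g = g := by
  rcases mul_self_eq_one_iff.mp ha with h | h
  · subst h; rw [T_eq_one T hg, map_one]
  · subst h; exact small_z T hT hpm h2 β t ht hβ hg

theorem small_W4 {g : T} {a b : ZMod q} (hg : IsW (g : Lq q) a b) (hab : a * b = -1) :
    β g = g := by
  have hgg : IsD ((g * g : T) : Lq q) (-1) (-1) := by
    have := hg.mul hg
    rwa [mul_comm b a, hab] at this
  have hfix : β (g * g) = g * g := small_z T hT hpm h2 β t ht hβ hgg
  have hne : (-1 : ZMod q) ≠ 1 := by
    intro e3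
    apply h2
    linear_combination -e3
  obtain ⟨a', b', hs', hg' | hg'⟩ := T_cases T hT (β g)
  · exfalso
    obtain ⟨ha0', hb0'⟩ := sign_ne_zero hs'
    have h3 : IsD ((β g * β g : T) : Lq q) (a' * a') (b' * b') := hg'.mul hg'
    rw [← map_mul, hfix] at h3
    have h4 : a' * a' = 1 := by
      rcases hpm a' ha0' with h | h <;> rw [h] <;> simp
    exact hne ((hgg.inj h3).1.trans h4)
  · have h3 : IsD ((β g * β g : T) : Lq q) (b' * a') (a' * b') := hg'.mul hg'
    rw [← map_mul, hfix] at h3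
    have hab' : a' * b' = -1 := ((hgg.inj h3).2).symm
    obtain ⟨ha0, hb0⟩ := sign_ne_zero (Or.inr hab)
    obtain ⟨ha0', hb0'⟩ := sign_ne_zero hs'
    have hcase : a' = a ∨ a' = -a := by
      rcases hpm a ha0 with h | h <;> rcases hpm a' ha0' with h' | h' <;> rw [h, h'] <;> simp
    rcases hcase with h | h
    · subst h
      have hb : b' = b := by
        apply mul_left_cancel₀ ha0'
        rw [hab, hab']
      subst hb
      exact T_ext_W T hg' hg
    · have hb : b' = -b := by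
        apply mul_left_cancel₀ ha0'
        rw [hab', h]
        linear_combination -hab
      have h5 : IsW ((g * (g * g) : T) : Lq q) (a * -1) (b * -1) := hg.mulD hgg
      have e : β g = g * (g * g) := by
        apply T_ext_W T _ h5
        rw [h, hb] at hg'
        simpa using hg'
      have hnn : (g * g) ^ 2 ^ 1 = 1 := by
        rw [pow_one, pow_two]
        exact T_eq_one T (by simpa using hgg.mul hgg)
      exact fix_of_mul_fixed β t ht hβ g _ e hfix 1 hnn

/-- the "determinant one" part -/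
def IsN (g : T) : Prop :=
  (∃ a b : ZMod q, a * b = 1 ∧ IsD (g : Lq q) a b) ∨ (∃ a b : ZMod q, a * b = -1 ∧ IsW (g : Lq q) a b)

theorem small_N {g : T} (hg : IsN T g) : β g = g := by
  rcases hg with ⟨a, b, hab, hg⟩ | ⟨a, b, hab, hg⟩
  · obtain ⟨ha0, hb0⟩ := sign_ne_zero (Or.inl hab)
    have hba : b = a := by
      rcases hpm a ha0 with h | h
      · rw [h, one_mul] at hab; rw [h, hab]
      · rw [h] at hab; rw [h]; linear_combination -hab
    subst hba
    exact small_scalar T hT hpm h2 β t ht hβ hg hab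
  · exact small_W4 T hT hpm h2 β t ht hβ hg hab

omit hpm h2 ht hβ in
theorem small_N_mul {g h : T} (hg : ¬ IsN T g) (hh : ¬ IsN T h) : IsN T (g⁻¹ * h) := by
  obtain ⟨a, b, hs, hg' | hg'⟩ := T_cases T hT g
  · have hab : a * b = -1 := by
      rcases hs with h1 | h1
      · exact absurd (Or.inl ⟨a, b, h1, hg'⟩) hg
      · exact h1
    obtain ⟨ha0, hb0⟩ := sign_ne_zero hs
    have hgi : IsD ((g⁻¹ : T) : Lq q) a⁻¹ b⁻¹ :=
      hg'.inv (mul_inv_cancel₀ ha0) (mul_inv_cancel₀ hb0)
    have hi : a⁻¹ * b⁻¹ = -1 := by rw [← mul_inv, hab]; simp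
    obtain ⟨c, d, hs', hh' | hh'⟩ := T_cases T hT h
    · have hcd : c * d = -1 := by
        rcases hs' with h1 | h1
        · exact absurd (Or.inl ⟨c, d, h1, hh'⟩) hh
        · exact h1
      left
      refine ⟨a⁻¹ * c, b⁻¹ * d, ?_, hgi.mul hh'⟩
      have e : a⁻¹ * c * (b⁻¹ * d) = (a⁻¹ * b⁻¹) * (c * d) := by ring
      rw [e, hi, hcd]; simp
    · have hcd : c * d = 1 := by
        rcases hs' with h1 | h1
        · exact h1
        · exact absurd (Or.inr ⟨c, d, h1, hh'⟩) hh
      right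
      refine ⟨b⁻¹ * c, a⁻¹ * d, ?_, hgi.mulW hh'⟩
      have e : b⁻¹ * c * (a⁻¹ * d) = (a⁻¹ * b⁻¹) * (c * d) := by ring
      rw [e, hi, hcd]; simp
  · have hab : a * b = 1 := by
      rcases hs with h1 | h1
      · exact h1
      · exact absurd (Or.inr ⟨a, b, h1, hg'⟩) hg
    obtain ⟨ha0, hb0⟩ := sign_ne_zero hs
    have hgi : IsW ((g⁻¹ : T) : Lq q) b⁻¹ a⁻¹ :=
      hg'.inv (mul_inv_cancel₀ ha0) (mul_inv_cancel₀ hb0)
    have hi : a⁻¹ * b⁻¹ = 1 := by rw [← mul_inv, hab]; simp
    obtain ⟨c, d, hs', hh' | hh'⟩ := T_cases T hT h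
    · have hcd : c * d = -1 := by
        rcases hs' with h1 | h1
        · exact absurd (Or.inl ⟨c, d, h1, hh'⟩) hh
        · exact h1
      right
      refine ⟨b⁻¹ * c, a⁻¹ * d, ?_, hgi.mulD hh'⟩
      have e : b⁻¹ * c * (a⁻¹ * d) = (a⁻¹ * b⁻¹) * (c * d) := by ring
      rw [e, hi, hcd]; simp
    · have hcd : c * d = 1 := by
        rcases hs' with h1 | h1
        · exact h1
        · exact absurd (Or.inr ⟨c, d, h1, hh'⟩) hh
      left
      refine ⟨a⁻¹ * c, b⁻¹ * d, ?_, hgi.mul hh'⟩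
      have e : a⁻¹ * c * (b⁻¹ * d) = (a⁻¹ * b⁻¹) * (c * d) := by ring
      rw [e, hi, hcd]; simp

omit h2 ht hβ in
theorem small_pow4 (g : T) : g ^ 2 ^ 2 = 1 := by
  have e4 : (2 : ℕ) ^ 2 = 4 := by norm_num
  rw [e4]
  obtain ⟨a, b, hs, hg | hg⟩ := T_cases T hT g
  · obtain ⟨ha0, hb0⟩ := sign_ne_zero hs
    have h := hg.pow 4
    have ha4 : a ^ 4 = 1 := by
      rcases hpm a ha0 with h | h <;> rw [h] <;> norm_num
    have hb4 : b ^ 4 = 1 := by
      rcases hpm b hb0 with h | h <;> rw [h] <;> norm_num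
    rw [ha4, hb4] at h
    exact T_eq_one T h
  · exact W_pow_four T hg hs

theorem small_fix (g : T) : β g = g := by
  by_cases hN : IsN T g
  · exact small_N T hT hpm h2 β t ht hβ hN
  · have hN' : ¬ IsN T (β g) := by
      intro h
      have h1 : β (β g) = β g := small_N T hT hpm h2 β t ht hβ h
      have h2' : β g = g := β.injective h1
      rw [h2'] at h
      exact hN h
    have hn : IsN T (g⁻¹ * β g) := small_N_mul T hT hN hN'
    have hnfix := small_N T hT hpm h2 β t ht hβ hn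
    have e : β g = g * (g⁻¹ * β g) := by group
    exact fix_of_mul_fixed β t ht hβ g _ e hnfix 2 (small_pow4 T hT hpm _)

end small

end group

end Cfsg.Agent.Lib.Helper53.Monomial
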