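import Mathlib

/-!
Explicit elements of `SL₃(𝔽₂)` (helper53): a dihedral subgroup of order `8`, elements of order
`3` and `7`, and a pair of elements satisfying the rank-one Steinberg relations over `𝔽₇`.
Everything here is checked by `decide`.
-/

set_option autoImplicit false

namespace Cfsg.Agent.Lib.Helper53.SL32

open Matrix

/-- `SL₃(𝔽₂)`. -/
abbrev G0 := Matrix.SpecialLinearGroup (Fin 3) (ZMod 2)

def xm : Matrix (Fin 3) (Fin 3) (ZMod 2) := !![0,0,1;0,1,1;1,1,0]
def ym : Matrix (Fin 3) (Fin 3) (ZMod 2) := !![0,1,0;0,0,1;1,1,0]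
def am : Matrix (Fin 3) (Fin 3) (ZMod 2) := !![1,1,0;0,1,1;0,0,1]
def bm : Matrix (Fin 3) (Fin 3) (ZMod 2) := !![1,1,0;0,1,0;0,0,1]
def cm : Matrix (Fin 3) (Fin 3) (ZMod 2) := !![0,1,0;0,0,1;1,0,0]

theorem xm_det : xm.det = 1 := by rw [Matrix.det_fin_three]; decide
theorem ym_det : ym.det = 1 := by rw [Matrix.det_fin_three]; decide
theorem am_det : am.det = 1 := by rw [Matrix.det_fin_three]; decide
theorem bm_det : bm.det = 1 := by rw [Matrix.det_fin_three]; decide
theorem cm_det : cm.det = 1 := by rw [Matrix.det_fin_three]; decide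

/-- image of `(1 1; 0 1)` -/
def x0 : G0 := ⟨xm, xm_det⟩
/-- image of `(1 0; 1 1)` -/
def y0 : G0 := ⟨ym, ym_det⟩
/-- an element of order `4` -/
def a0 : G0 := ⟨am, am_det⟩
/-- an involution inverting `a0` -/
def b0 : G0 := ⟨bm, bm_det⟩
/-- an element of order `3` -/
def c0 : G0 := ⟨cm, cm_det⟩

def X' (t : ZMod 7) : G0 := x0 ^ t.val
def Y' (t : ZMod 7) : G0 := y0 ^ t.val

set_option maxRecDepth 100000 in
theorem X'_add : ∀ t u : ZMod 7, X' t * X' u = X' (t + u) := by decide

set_option maxRecDepth 100000 in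
theorem Y'_add : ∀ t u : ZMod 7, Y' t * Y' u = Y' (t + u) := by decide

set_option maxRecDepth 100000 in
theorem X'_rel : ∀ t s u : ZMod 7, t * s = 1 →
    (X' t * Y' (-s) * X' t) * X' u = Y' (-(s ^ 2 * u)) * (X' t * Y' (-s) * X' t) := by
  decide

set_option maxRecDepth 100000 in
theorem Y'_rel : ∀ t s u : ZMod 7, t * s = 1 →
    (Y' t * X' (-s) * Y' t) * Y' u = X' (-(s ^ 2 * u)) * (Y' t * X' (-s) * Y' t) := by
  decide

set_option maxRecDepth 100000 in
theorem x0_ne_one : x0 ≠ 1 := by decide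

set_option maxRecDepth 100000 in
theorem x0_pow : x0 ^ 7 = 1 := by decide

set_option maxRecDepth 100000 in
theorem c0_ne_one : c0 ≠ 1 := by decide

set_option maxRecDepth 100000 in
theorem c0_pow : c0 ^ 3 = 1 := by decide

set_option maxRecDepth 100000 in
theorem a0_pow_four : a0 ^ 4 = 1 := by decide

set_option maxRecDepth 100000 in
theorem a0_sq_ne_one : a0 ^ 2 ≠ 1 := by decide

set_option maxRecDepth 100000 in
theorem b0_sq : b0 * b0 = 1 := by decide

set_option maxRecDepth 100000 in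
theorem b0_a0 : b0 * a0 * b0 * a0 = 1 := by decide

/-- the eight elements of the dihedral subgroup -/
def hs (p : Fin 4 × Fin 2) : G0 := a0 ^ (p.1 : ℕ) * b0 ^ (p.2 : ℕ)

set_option maxRecDepth 100000 in
theorem hs_mul : ∀ p q : Fin 4 × Fin 2, ∃ r, hs p * hs q = hs r := by decide

set_option maxRecDepth 100000 in
theorem hs_inv : ∀ p : Fin 4 × Fin 2, ∃ r, hs p * hs r = 1 := by decide

set_option maxRecDepth 100000 in
theorem hs_injective : ∀ p q : Fin 4 × Fin 2, hs p = hs q → p = q := by decide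

end Cfsg.Agent.Lib.Helper53.SL32
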