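import Mathlib
import Cfsg.Prelude.Def_KGroupFacts
import Cfsg.Agent.Lib.Helper66.Hopf
import Cfsg.Agent.Lib.Helper66.SchurBasic

/-!
Transport of `Cfsg.HasSchurMultiplier` along a group isomorphism, across universes (helper53).
-/

set_option autoImplicit false

namespace Cfsg.Agent.Lib.Helper53.SchurTransport

open Cfsg.Agent.Lib.Helper66

universe u v w

/-- A stem extension composed with an isomorphism of the base is a stem extension. -/
theorem isStemExtension_comp_mulEquiv {Γ : Type w} {Q : Type u} {Q' : Type v} [Group Γ] [Group Q]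
    [Group Q'] (e : Q ≃* Q') (σ : Γ →* Q) (hσ : Cfsg.IsStemExtension σ) :
    Cfsg.IsStemExtension (e.toMonoidHom.comp σ) := by
  have hk : (e.toMonoidHom.comp σ).ker = σ.ker :=
    MonoidHom.ker_comp_of_injective σ e.toMonoidHom e.injective
  refine ⟨e.surjective.comp hσ.1, ?_, ?_⟩
  · rw [hk]; exact hσ.2.1
  · rw [hk]; exact hσ.2.2

/-- The Schur multiplier (in the sense of `Cfsg.HasSchurMultiplier`) only depends on the
isomorphism type of the group, even across universes. -/
theorem hasSchurMultiplier_of_mulEquiv {Q : Type u} {Q' : Type v} [Group Q] [Group Q']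
    (e : Q ≃* Q') {B : Type w} [CommGroup B] (hB : Cfsg.HasSchurMultiplier Q B) :
    Cfsg.HasSchurMultiplier Q' B := by
  haveI : Finite Q := finite_of_hasSchurMultiplier hB
  haveI : Finite Q' := Finite.of_equiv Q e.toEquiv
  -- every stem extension of `Q'` has kernel a quotient of `B`
  have part2 : ∀ (Γ' : Type v) [Group Γ'] [Finite Γ'] (σ' : Γ' →* Q'), Cfsg.IsStemExtension σ' →
      ∃ π : B →* σ'.ker, Function.Surjective π := by
    intro Γ' _ _ σ' hσ'
    have hst := isStemExtension_comp_mulEquiv e.symm σ' hσ'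
    have hk : (e.symm.toMonoidHom.comp σ').ker = σ'.ker :=
      MonoidHom.ker_comp_of_injective σ' e.symm.toMonoidHom e.symm.injective
    obtain ⟨π, hπ⟩ := exists_hom_range_eq_of_hasSchurMultiplier hB (e.symm.toMonoidHom.comp σ')
      hst.1 hst.2.1
    rw [hk, inf_eq_right.2 hσ'.2.2] at hπ
    refine ⟨π.codRestrict σ'.ker (fun b => by rw [← hπ]; exact ⟨b, rfl⟩), ?_⟩
    rintro ⟨k, hk'⟩
    rw [← hπ] at hk'
    obtain ⟨b, rfl⟩ := hk'
    exact ⟨b, rfl⟩
  refine ⟨?_, part2⟩
  -- a cover of `Q'`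
  obtain ⟨Γ', _, _, σ', hσ', ⟨eM⟩⟩ := exists_cover (stdPres Q') stdPres_surjective
  obtain ⟨p, hp⟩ := part2 Γ' σ' hσ'
  obtain ⟨⟨Γ, _, _, σ, hσ, ⟨eB⟩⟩, _⟩ := hB
  haveI : Finite B := Finite.of_equiv _ eB.toEquiv
  have hst := isStemExtension_comp_mulEquiv e σ hσ
  have hk : (e.toMonoidHom.comp σ).ker = σ.ker :=
    MonoidHom.ker_comp_of_injective σ e.toMonoidHom e.injective
  obtain ⟨q, hq⟩ := hopfM_surj_ker_of_stem (stdPres Q') stdPres_surjective
    (e.toMonoidHom.comp σ) hst
  haveI := finite_hopfM (stdPres Q')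
  have h1 : Nat.card B ≤ Nat.card ↥(hopfM (stdPres Q')) := by
    rw [← Nat.card_congr eB.toEquiv, ← hk]
    exact Nat.card_le_card_of_surjective q hq
  have h2 : Nat.card B ≤ Nat.card ↥σ'.ker := by
    rw [Nat.card_congr eM.toEquiv]; exact h1
  have hbij : Function.Bijective p := hp.bijective_of_nat_card_le h2
  exact ⟨Γ', inferInstance, inferInstance, σ', hσ', ⟨(MulEquiv.ofBijective p hbij).symm⟩⟩

end Cfsg.Agent.Lib.Helper53.SchurTransport
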