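import Mathlib
import Cfsg.Prelude.Def_KGroupFacts
import Cfsg.Agent.Lib.Helper53.SL32Elements
import Cfsg.Agent.Lib.Helper53.SchurTransport
import Cfsg.Agent.Lib.Helper53.SL2Multiplier
import Cfsg.Agent.Lib.Helper53.SteinbergSL2Lift
import Cfsg.Agent.Lib.Helper66.StemDihedral2
import Cfsg.Agent.Lib.Helper66.Hopf
import Cfsg.Agent.Lib.Helper66.TransferPow
import Cfsg.Agent.Lib.Helper57.CardSL

/-!
The Schur multiplier of `PSL₃(2)` is cyclic of order two (helper53).
-/

set_option autoImplicit false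

namespace Cfsg.Agent.Lib.Helper53.SL32

open Cfsg.Agent.Lib.Helper66 Cfsg.Agent.Lib.Helper53.SL2Mult

theorem card_G0 : Nat.card G0 = 168 := by
  have h := Cfsg.Agent.Lib.Helper57.card_SL_formula (F := ZMod 2) 3 (by norm_num)
  rw [ZMod.card, Fin.prod_univ_three] at h
  simpa using h

instance : Finite G0 := Nat.finite_of_card_ne_zero (by rw [card_G0]; norm_num)

/-! ### The dihedral subgroup of order 8 -/

/-- The dihedral subgroup `⟨a0, b0⟩`. -/
def U2 : Subgroup G0 where
  carrier := Set.range hs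
  mul_mem' := by
    rintro _ _ ⟨p, rfl⟩ ⟨q, rfl⟩
    obtain ⟨r, hr⟩ := hs_mul p q
    exact ⟨r, hr.symm⟩
  one_mem' := ⟨(0, 0), by simp [hs]⟩
  inv_mem' := by
    rintro _ ⟨p, rfl⟩
    obtain ⟨r, hr⟩ := hs_inv p
    exact ⟨r, (inv_eq_of_mul_eq_one_right hr).symm⟩

theorem mem_U2 {g : G0} : g ∈ U2 ↔ ∃ p, hs p = g := Iff.rfl

theorem card_U2 : Nat.card U2 = 8 := by
  have h : Nat.card (Set.range hs) = Nat.card (Fin 4 × Fin 2) :=
    Nat.card_range_of_injective (fun p q h => hs_injective p q h)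
  have h2 : Nat.card (Fin 4 × Fin 2) = 8 := by
    rw [Nat.card_eq_fintype_card]; rfl
  rw [← h2, ← h]
  rfl

theorem index_U2 : U2.index = 21 := by
  have h := U2.card_mul_index
  rw [card_U2, card_G0] at h
  omega

theorem a0_mem : a0 ∈ U2 := ⟨(1, 0), by simp [hs]⟩
theorem b0_mem : b0 ∈ U2 := ⟨(0, 1), by simp [hs]⟩

theorem orderOf_a0 : orderOf a0 = 4 := by
  have := orderOf_eq_prime_pow (x := a0) (p := 2) (n := 1) (by simpa using a0_sq_ne_one)
    (by simpa using a0_pow_four)
  simpa using this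

/-- The kernel of a stem extension of the dihedral group `U2` has at most two elements. -/
theorem card_ker_le_two_of_stem {Γ : Type*} [Group Γ] [Finite Γ] (τ : Γ →* U2)
    (hτ : Cfsg.IsStemExtension τ) : Nat.card τ.ker ≤ 2 := by
  set a : U2 := ⟨a0, a0_mem⟩ with ha
  set x : U2 := ⟨b0, b0_mem⟩ with hx
  have hgen : Subgroup.closure ({a, x} : Set U2) = ⊤ := by
    rw [eq_top_iff]
    rintro ⟨g, p, rfl⟩ _
    have : (⟨hs p, ⟨p, rfl⟩⟩ : U2) = a ^ (p.1 : ℕ) * x ^ (p.2 : ℕ) := by
      apply Subtype.ext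
      simp [hs, ha, hx]
    rw [this]
    apply Subgroup.mul_mem
    · exact Subgroup.pow_mem _ (Subgroup.subset_closure (by simp)) _
    · exact Subgroup.pow_mem _ (Subgroup.subset_closure (by simp)) _
  have hxinv : x⁻¹ = x := by
    apply inv_eq_of_mul_eq_one_right
    apply Subtype.ext
    exact b0_sq
  have hrel : x * a * x⁻¹ = a⁻¹ := by
    rw [hxinv]
    apply eq_inv_of_mul_eq_one_left
    apply Subtype.ext
    exact b0_a0
  have ha4 : a ^ 4 = 1 := by
    apply Subtype.ext
    simpa using a0_pow_four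
  have hn : a ^ 4 ∈ Subgroup.zpowers x := by
    rw [ha4]; exact Subgroup.one_mem _
  have hord : orderOf a = 4 := by
    rw [← orderOf_a0]
    exact (Subgroup.orderOf_mk a0 a0_mem)
  obtain ⟨c, hc4, hw⟩ := stem_dihedralLike τ hτ a x hgen hrel 4 hn
  have hle : τ.ker ≤ Subgroup.zpowers (c ^ 2) := by
    intro w hwk
    obtain ⟨k, hk, _, hak⟩ := hw w hwk
    have hdvd : (4 : ℤ) ∣ 2 * k := by
      have := (orderOf_dvd_iff_zpow_eq_one (x := a) (i := 2 * k)).2 hak
      rwa [hord] at this
    obtain ⟨m, hm⟩ : (2 : ℤ) ∣ k := by omega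
    refine ⟨m, ?_⟩
    show (c ^ 2) ^ m = w
    rw [hk, hm, zpow_mul, zpow_ofNat]
  have hc2 : (c ^ 2) ^ 2 = 1 := by rw [← pow_mul]; exact hc4
  calc Nat.card τ.ker ≤ Nat.card (Subgroup.zpowers (c ^ 2)) := Subgroup.card_le_of_le hle
    _ = orderOf (c ^ 2) := Nat.card_zpowers _
    _ ≤ 2 := Nat.le_of_dvd (by norm_num) (orderOf_dvd_of_pow_eq_one hc2)

/-- In a central extension of `U2`, the kernel meets the commutator subgroup in at most two
elements. -/
theorem card_commutator_inf_ker_le_two {W : Type*} [Group W] [Finite W] (τ : W →* U2)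
    (hsurj : Function.Surjective τ) (hcen : τ.ker ≤ Subgroup.center W) :
    Nat.card ↥(commutator W ⊓ τ.ker) ≤ 2 := by
  haveI : Finite U2 := inferInstance
  letI : CommGroup ↥(hopfM (stdPres U2)) :=
    { (inferInstance : Group ↥(hopfM (stdPres U2))) with
      mul_comm := fun a b =>
        Subtype.ext (Subgroup.mem_center_iff.1 (hopfM_le_center (stdPres U2) a.2) b.1).symm }
  have hB : Cfsg.HasSchurMultiplier U2 ↥(hopfM (stdPres U2)) :=
    (hasSchurMultiplier_iff (stdPres U2) stdPres_surjective _).2 ⟨MulEquiv.refl _⟩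
  have hcard : Nat.card ↥(hopfM (stdPres U2)) ≤ 2 := by
    obtain ⟨⟨Γ₂, _, _, τ₂, hτ₂, ⟨eB⟩⟩, _⟩ := hB
    rw [← Nat.card_congr eB.toEquiv]
    exact card_ker_le_two_of_stem τ₂ hτ₂
  haveI := finite_hopfM (stdPres U2)
  obtain ⟨π, hπ⟩ := exists_hom_range_eq_of_hasSchurMultiplier hB τ hsurj hcen
  rw [← hπ]
  exact (Nat.card_le_card_of_surjective π.rangeRestrict π.rangeRestrict_surjective).trans hcard

/-! ### The upper bound -/

theorem orderOf_x0 : orderOf x0 = 7 := by
  haveI : Fact (Nat.Prime 7) := ⟨by norm_num⟩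
  exact orderOf_eq_prime x0_pow x0_ne_one

theorem orderOf_c0 : orderOf c0 = 3 := by
  haveI : Fact (Nat.Prime 3) := ⟨by norm_num⟩
  exact orderOf_eq_prime c0_pow c0_ne_one

theorem index_zpowers_x0 : (Subgroup.zpowers x0).index = 24 := by
  have h := (Subgroup.zpowers x0).card_mul_index
  rw [Nat.card_zpowers, orderOf_x0, card_G0] at h
  omega

theorem index_zpowers_c0 : (Subgroup.zpowers c0).index = 56 := by
  have h := (Subgroup.zpowers c0).card_mul_index
  rw [Nat.card_zpowers, orderOf_c0, card_G0] at h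
  omega

/-- The kernel of every finite stem extension of `SL₃(2)` has at most two elements. -/
theorem card_ker_le_two {Γ : Type} [Group Γ] [Finite Γ] (σ : Γ →* G0)
    (hσ : Cfsg.IsStemExtension σ) : Nat.card σ.ker ≤ 2 := by
  -- kernel elements have order dividing 8
  have h8 : ∀ a ∈ σ.ker, a ^ 8 = 1 := by
    intro a ha
    have h1 := pow_index_eq_one σ hσ (Subgroup.zpowers x0)
      (inf_eq_bot_of_cyclic σ hσ (Subgroup.zpowers x0)) a ha
    have h2 := pow_index_eq_one σ hσ (Subgroup.zpowers c0)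
      (inf_eq_bot_of_cyclic σ hσ (Subgroup.zpowers c0)) a ha
    rw [index_zpowers_x0] at h1
    rw [index_zpowers_c0] at h2
    have h3 : a ^ 56 = a ^ 8 * (a ^ 24) ^ 2 := by rw [← pow_mul, ← pow_add]
    rw [h1, one_pow, mul_one] at h3
    rw [← h3]; exact h2
  -- the transfer into the preimage of `U2`
  have key : ∀ a ∈ σ.ker, ∃ h : a ^ 21 ∈ U2.comap σ,
      (⟨a ^ 21, h⟩ : ↥(U2.comap σ)) ∈ commutator ↥(U2.comap σ) ⊓ (σ.subgroupComap U2).ker := by
    intro a ha
    haveI : U2.FiniteIndex := ⟨by rw [index_U2]; norm_num⟩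
    obtain ⟨h, hc⟩ := pow_index_mem_commutator_comap σ hσ.1 hσ.2.1 hσ.2.2 U2 a ha
    have h' : a ^ 21 ∈ U2.comap σ := by rw [← index_U2]; exact h
    refine ⟨h', ?_, ?_⟩
    · have : (⟨a ^ 21, h'⟩ : ↥(U2.comap σ)) = ⟨a ^ U2.index, h⟩ := by
        apply Subtype.ext
        show a ^ 21 = a ^ U2.index
        rw [index_U2]
      rw [this]; exact hc
    · show (⟨a ^ 21, h'⟩ : ↥(U2.comap σ)) ∈ (σ.subgroupComap U2).ker
      rw [MonoidHom.mem_ker]
      apply Subtype.ext
      show σ (a ^ 21) = 1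
      rw [map_pow, MonoidHom.mem_ker.mp ha, one_pow]
  let f : σ.ker → ↥(commutator ↥(U2.comap σ) ⊓ (σ.subgroupComap U2).ker) :=
    fun a => ⟨⟨(a : Γ) ^ 21, (key a a.2).1⟩, (key a a.2).2⟩
  have hf : Function.Injective f := by
    intro a b hab
    have h1 : (a : Γ) ^ 21 = (b : Γ) ^ 21 := congrArg (fun z => ((z.1 : ↥(U2.comap σ)) : Γ)) hab
    have h2 : ∀ c ∈ σ.ker, (c ^ 21) ^ 5 = c := by
      intro c hc
      rw [← pow_mul]
      have : c ^ (21 * 5) = (c ^ 8) ^ 13 * c := by rw [← pow_mul, ← pow_succ]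
      rw [this, h8 c hc, one_pow, one_mul]
    apply Subtype.ext
    rw [← h2 a a.2, ← h2 b b.2, h1]
  have hcen : (σ.subgroupComap U2).ker ≤ Subgroup.center ↥(U2.comap σ) :=
    subgroupComap_ker_le_center σ hσ U2
  exact (Nat.card_le_card_of_injective f hf).trans
    (card_commutator_inf_ker_le_two (σ.subgroupComap U2)
      (σ.subgroupComap_surjective_of_surjective U2 hσ.1) hcen)

/-! ### The double cover `SL₂(7) → SL₃(2)` -/

theorem prime_seven : Fact (Nat.Prime 7) := ⟨by norm_num⟩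

attribute [local instance] prime_seven

theorem data' : Steinberg.Data X' Y' := by
  refine ⟨X'_add, Y'_add, ?_, ?_⟩
  · intro t u ht
    rw [MulAut.conj_apply]
    unfold Steinberg.W
    rw [mul_inv_eq_iff_eq_mul]
    exact X'_rel t t⁻¹ u (mul_inv_cancel₀ ht)
  · intro t u ht
    rw [MulAut.conj_apply]
    unfold Steinberg.W
    rw [mul_inv_eq_iff_eq_mul]
    exact Y'_rel t t⁻¹ u (mul_inv_cancel₀ ht)

theorem card_SL27 : Nat.card (Matrix.SpecialLinearGroup (Fin 2) (ZMod 7)) = 336 := by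
  have h := Cfsg.Agent.Lib.Helper57.card_SL_formula (F := ZMod 7) 2 (by norm_num)
  rw [ZMod.card, Fin.prod_univ_two] at h
  simp only [Fin.val_zero, Fin.val_one, pow_zero, pow_one] at h
  omega

theorem card_center_SL27 :
    Nat.card (Subgroup.center (Matrix.SpecialLinearGroup (Fin 2) (ZMod 7))) = 2 := by
  have h := Cfsg.Agent.Lib.Helper57.card_center_SL (F := ZMod 7) 2 (by norm_num)
  rw [ZMod.card] at h
  rw [h]
  rfl

set_option maxRecDepth 100000 in
theorem X'_one : X' 1 = x0 := by decide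

/-- `SL₂(7)` is a stem extension of `SL₃(2)` with kernel of order two. -/
theorem exists_stem_SL27 : ∃ φ : Matrix.SpecialLinearGroup (Fin 2) (ZMod 7) →* G0,
    Cfsg.IsStemExtension φ ∧ Nat.card φ.ker = 2 := by
  obtain ⟨φ, hφx, _⟩ := data'.exists_hom
  refine ⟨φ, ?_⟩
  have hperf : commutator (Matrix.SpecialLinearGroup (Fin 2) (ZMod 7)) = ⊤ :=
    Matrix.SL2.commutator_eq_top (a := (2 : ZMod 7)) (by decide) (by decide)
  haveI hsimple : IsSimpleGroup (Matrix.ProjectiveSpecialLinearGroup (Fin 2) (ZMod 7)) :=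
    Matrix.ProjectiveSpecialLinearGroup.rank_two_simple (by rw [Nat.card_zmod]; norm_num)
  have hne : φ (Steinberg.xM 1) ≠ 1 := by
    rw [hφx, X'_one]; exact x0_ne_one
  haveI : Finite (Matrix.SpecialLinearGroup (Fin 2) (ZMod 7)) :=
    Nat.finite_of_card_ne_zero (by rw [card_SL27]; norm_num)
  -- the kernel is central
  have hcen : φ.ker ≤ Subgroup.center (Matrix.SpecialLinearGroup (Fin 2) (ZMod 7)) := by
    have hM : (φ.ker.map (QuotientGroup.mk'
        (Subgroup.center (Matrix.SpecialLinearGroup (Fin 2) (ZMod 7))))).Normal :=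
      Subgroup.Normal.map inferInstance _ (QuotientGroup.mk'_surjective _)
    rcases hM.eq_bot_or_eq_top with h | h
    · have := (Subgroup.map_eq_bot_iff _).1 h
      rwa [QuotientGroup.ker_mk'] at this
    · exfalso
      have hz : ∀ g, ∃ z ∈ Subgroup.center (Matrix.SpecialLinearGroup (Fin 2) (ZMod 7)),
          φ g = φ z := by
        intro g
        have hg : QuotientGroup.mk' (Subgroup.center (Matrix.SpecialLinearGroup (Fin 2) (ZMod 7))) g ∈
            φ.ker.map (QuotientGroup.mk'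
              (Subgroup.center (Matrix.SpecialLinearGroup (Fin 2) (ZMod 7)))) := by
          rw [h]; trivial
        obtain ⟨k, hk, hkg⟩ := hg
        have hkg' : k⁻¹ * g ∈ Subgroup.center (Matrix.SpecialLinearGroup (Fin 2) (ZMod 7)) :=
          QuotientGroup.eq.1 hkg
        refine ⟨k⁻¹ * g, hkg', ?_⟩
        rw [map_mul, map_inv, MonoidHom.mem_ker.1 hk, inv_one, one_mul]
      have hle : commutator (Matrix.SpecialLinearGroup (Fin 2) (ZMod 7)) ≤ φ.ker := by
        rw [commutator_def, Subgroup.commutator_le]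
        intro g _ g' _
        obtain ⟨z, hz1, hz2⟩ := hz g
        obtain ⟨z', _, hz2'⟩ := hz g'
        rw [MonoidHom.mem_ker, map_commutatorElement, commutatorElement_eq_one_iff_commute, hz2,
          hz2']
        show φ z * φ z' = φ z' * φ z
        rw [← map_mul, ← map_mul, Subgroup.mem_center_iff.1 hz1 z']
      rw [hperf] at hle
      exact hne (MonoidHom.mem_ker.1 (hle (Subgroup.mem_top _)))
  -- the kernel is not trivial
  have hnb : φ.ker ≠ ⊥ := by
    intro hb
    have hinj : Function.Injective φ := (MonoidHom.ker_eq_bot_iff φ).1 hb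
    have := Nat.card_le_card_of_injective φ hinj
    rw [card_SL27, card_G0] at this
    omega
  have hcard : Nat.card φ.ker = 2 := by
    have h1 : Nat.card φ.ker ∣ 2 := by
      have h0 := Subgroup.card_dvd_of_le hcen
      rwa [card_center_SL27] at h0
    rcases (Nat.dvd_prime Nat.prime_two).1 h1 with h | h
    · exact absurd (Subgroup.card_eq_one.1 h) hnb
    · exact h
  have hsurj : Function.Surjective φ := by
    rw [← MonoidHom.range_eq_top]
    apply Subgroup.eq_top_of_card_eq
    have h1 := φ.ker.card_mul_index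
    rw [Subgroup.index_ker, hcard, card_SL27] at h1
    rw [card_G0]; omega
  exact ⟨⟨hsurj, hcen, by rw [hperf]; exact le_top⟩, hcard⟩

/-- The Schur multiplier of `SL₃(2)` is cyclic of order two. -/
theorem multiplier_G0 : Cfsg.HasCyclicSchurMultiplier G0 2 := by
  obtain ⟨φ, hφ, hcard⟩ := exists_stem_SL27
  haveI : Finite (Matrix.SpecialLinearGroup (Fin 2) (ZMod 7)) :=
    Nat.finite_of_card_ne_zero (by rw [card_SL27]; norm_num)
  haveI : Fact (Nat.Prime 2) := ⟨Nat.prime_two⟩
  have hc2 : Nat.card (Multiplicative (ZMod 2)) = 2 := by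
    rw [Nat.card_eq_fintype_card, Fintype.card_multiplicative, ZMod.card]
  refine ⟨⟨Matrix.SpecialLinearGroup (Fin 2) (ZMod 7), inferInstance, inferInstance, φ, hφ,
    ⟨mulEquivOfPrimeCardEq (p := 2) hcard hc2⟩⟩, ?_⟩
  intro Γ _ _ σ hσ
  have h2 := card_ker_le_two σ hσ
  have hpos : 0 < Nat.card σ.ker := Nat.card_pos
  have hpow : ∀ h : σ.ker, h ^ 2 = 1 := by
    intro h
    have h1 : h ^ Nat.card σ.ker = 1 := pow_card_eq_one'
    have : Nat.card σ.ker = 1 ∨ Nat.card σ.ker = 2 := by omega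
    rcases this with h3 | h3
    · rw [h3, pow_one] at h1
      rw [h1, one_pow]
    · rw [h3] at h1; exact h1
  haveI : IsCyclic σ.ker := by
    have : Nat.card σ.ker = 1 ∨ Nat.card σ.ker = 2 := by omega
    rcases this with h3 | h3
    · haveI : Subsingleton σ.ker := (Nat.card_eq_one_iff_unique.1 h3).1
      exact isCyclic_of_subsingleton
    · exact isCyclic_of_prime_card h3
  exact exists_surjective_zmod_of_isCyclic 2 hpow

/-! ### Transport to `PSL₃(F)`, `|F| = 2` -/

universe u

/-- A ring isomorphism induces an isomorphism of special linear groups. -/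
def slCongr {R S : Type*} [CommRing R] [CommRing S] (n : Type*) [DecidableEq n] [Fintype n]
    (e : R ≃+* S) : Matrix.SpecialLinearGroup n R ≃* Matrix.SpecialLinearGroup n S where
  toFun := Matrix.SpecialLinearGroup.map e.toRingHom
  invFun := Matrix.SpecialLinearGroup.map e.symm.toRingHom
  left_inv A := by
    apply Subtype.ext
    ext i j
    change e.symm (e (A.1 i j)) = A.1 i j
    simp
  right_inv A := by
    apply Subtype.ext
    ext i j
    change e (e.symm (A.1 i j)) = A.1 i j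
    simp
  map_mul' := map_mul _

theorem nonempty_mulEquiv_PSL {F : Type u} [Field F] [Fintype F] (hF : Fintype.card F = 2) :
    Nonempty (G0 ≃* Matrix.ProjectiveSpecialLinearGroup (Fin 3) F) := by
  have e1 : ZMod 2 ≃+* F := ZMod.ringEquivOfPrime F Nat.prime_two hF
  have hc : Subgroup.center (Matrix.SpecialLinearGroup (Fin 3) F) = ⊥ := by
    rw [← Subgroup.card_eq_one, Cfsg.Agent.Lib.Helper57.card_center_SL 3 (by norm_num), hF]
    norm_num
  have e2 : Matrix.SpecialLinearGroup (Fin 3) F ⧸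
      Subgroup.center (Matrix.SpecialLinearGroup (Fin 3) F) ≃* Matrix.SpecialLinearGroup (Fin 3) F :=
    (QuotientGroup.quotientMulEquivOfEq hc).trans QuotientGroup.quotientBot
  exact ⟨(slCongr (Fin 3) e1).trans e2.symm⟩

/-- The Schur multiplier of `PSL₃(2)` is cyclic of order two. -/
theorem multiplier_PSL32 {F : Type u} [Field F] [Fintype F] (hF : Fintype.card F = 2) :
    Cfsg.HasCyclicSchurMultiplier (Matrix.ProjectiveSpecialLinearGroup (Fin 3) F) 2 := by
  obtain ⟨e⟩ := nonempty_mulEquiv_PSL hF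
  exact SchurTransport.hasSchurMultiplier_of_mulEquiv e multiplier_G0

end Cfsg.Agent.Lib.Helper53.SL32
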