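import Mathlib
import Cfsg.Agent.Lib.Helper53.SteinbergSL2
import Cfsg.Agent.Lib.Helper53.SteinbergSL2Iso
import Cfsg.Agent.Lib.Helper53.SteinbergSL2Lift

/-!
Steinberg relations of type `A` over a field (helper53): abstract setting, a group `Γ` with
elements `X i j t` (`i ≠ j`) satisfying additivity, the commutation relations and the commutator
relations.  This file: basic consequences, the action of the rank-one subgroup `⟨X a b, X b a⟩`
on "columns" and "rows", the rank-one Steinberg relations (using a third index), and the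
resulting homomorphism from `SL₂(K)` for finite `K`.
-/

set_option autoImplicit false

namespace Cfsg.Agent.Lib.Helper53.StN

open Cfsg.Agent.Lib.Helper53.Steinberg

variable {K : Type*} [Field K] {I : Type*} {Γ : Type*} [Group Γ]

/-- The Steinberg relations of type `A`. -/
structure StData (X : I → I → K → Γ) : Prop where
  add : ∀ {i j : I}, i ≠ j → ∀ t u : K, X i j t * X i j u = X i j (t + u)
  comm : ∀ {i j k l : I}, i ≠ j → k ≠ l → j ≠ k → i ≠ l → ∀ t u : K,
    X i j t * X k l u = X k l u * X i j t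
  rel : ∀ {i j l : I}, i ≠ j → j ≠ l → i ≠ l → ∀ t u : K,
    X i j t * X j l u * (X i j t)⁻¹ * (X j l u)⁻¹ = X i l (t * u)

variable {X : I → I → K → Γ}

theorem StData.zero (d : StData X) {i j : I} (h : i ≠ j) : X i j 0 = 1 := by
  have h1 := d.add h 0 0
  rw [add_zero] at h1
  exact mul_left_cancel (a := X i j 0) (by rw [h1, mul_one])

theorem StData.inv (d : StData X) {i j : I} (h : i ≠ j) (t : K) : (X i j t)⁻¹ = X i j (-t) := by
  apply inv_eq_of_mul_eq_one_right
  rw [d.add h, add_neg_cancel, d.zero h]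

/-- `X a b t` conjugates `X b c u` to `X a c (t u) X b c u`. -/
theorem StData.conj_ab_bc (d : StData X) {a b c : I} (hab : a ≠ b) (hbc : b ≠ c) (hac : a ≠ c)
    (t u : K) : X a b t * X b c u * (X a b t)⁻¹ = X a c (t * u) * X b c u := by
  have h := d.rel hab hbc hac t u
  rw [← h]
  group

/-- `X a b t` conjugates `X c a u` to `X c b (-(u t)) X c a u`. -/
theorem StData.conj_ab_ca (d : StData X) {a b c : I} (hab : a ≠ b) (hbc : b ≠ c) (hac : a ≠ c)
    (t u : K) : X a b t * X c a u * (X a b t)⁻¹ = X c b (-(u * t)) * X c a u := by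
  have h := d.rel hac.symm hab hbc.symm u t
  rw [← d.inv hbc.symm, ← h]
  group

theorem StData.conj_ab_ac (d : StData X) {a b c : I} (hab : a ≠ b) (hac : a ≠ c)
    (t u : K) : X a b t * X a c u * (X a b t)⁻¹ = X a c u := by
  rw [d.comm hab hac hab.symm hac t u, mul_inv_cancel_right]

theorem StData.conj_ab_cb (d : StData X) {a b c : I} (hab : a ≠ b) (hbc : b ≠ c)
    (t u : K) : X a b t * X c b u * (X a b t)⁻¹ = X c b u := by
  rw [d.comm hab hbc.symm hbc hab t u, mul_inv_cancel_right]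

theorem StData.conj_ab_cd (d : StData X) {a b c e : I} (hab : a ≠ b) (hce : c ≠ e) (hbc : b ≠ c)
    (hae : a ≠ e) (t u : K) : X a b t * X c e u * (X a b t)⁻¹ = X c e u := by
  rw [d.comm hab hce hbc hae t u, mul_inv_cancel_right]

/-- The column pair `X a c s * X b c s'`. -/
def Col (X : I → I → K → Γ) (a b c : I) (s s' : K) : Γ := X a c s * X b c s'

/-- The row pair `X c a s * X c b s'`. -/
def Row (X : I → I → K → Γ) (a b c : I) (s s' : K) : Γ := X c a s * X c b s'

theorem StData.conjX_Col (d : StData X) {a b c : I} (hab : a ≠ b) (hbc : b ≠ c) (hac : a ≠ c)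
    (t s s' : K) :
    X a b t * Col X a b c s s' * (X a b t)⁻¹ = Col X a b c (s + t * s') s' := by
  unfold Col
  have h1 := d.conj_ab_ac hab hac t s
  have h2 := d.conj_ab_bc hab hbc hac t s'
  calc X a b t * (X a c s * X b c s') * (X a b t)⁻¹
      = (X a b t * X a c s * (X a b t)⁻¹) * (X a b t * X b c s' * (X a b t)⁻¹) := by group
    _ = X a c s * (X a c (t * s') * X b c s') := by rw [h1, h2]
    _ = X a c (s + t * s') * X b c s' := by rw [← mul_assoc, d.add hac]

theorem StData.conjY_Col (d : StData X) {a b c : I} (hab : a ≠ b) (hbc : b ≠ c) (hac : a ≠ c)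
    (t s s' : K) :
    X b a t * Col X a b c s s' * (X b a t)⁻¹ = Col X a b c s (s' + t * s) := by
  unfold Col
  have h1 := d.conj_ab_bc hab.symm hac hbc t s
  have h2 := d.conj_ab_ac hab.symm hbc t s'
  have h3 := d.comm hbc hac hac.symm hbc (t * s) s
  calc X b a t * (X a c s * X b c s') * (X b a t)⁻¹
      = (X b a t * X a c s * (X b a t)⁻¹) * (X b a t * X b c s' * (X b a t)⁻¹) := by group
    _ = (X b c (t * s) * X a c s) * X b c s' := by rw [h1, h2]
    _ = X a c s * (X b c (t * s) * X b c s') := by rw [h3, mul_assoc]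
    _ = X a c s * X b c (s' + t * s) := by rw [d.add hbc, add_comm]

theorem StData.conjX_Row (d : StData X) {a b c : I} (hab : a ≠ b) (hbc : b ≠ c) (hac : a ≠ c)
    (t s s' : K) :
    X a b t * Row X a b c s s' * (X a b t)⁻¹ = Row X a b c s (s' - s * t) := by
  unfold Row
  have h1 := d.conj_ab_ca hab hbc hac t s
  have h2 := d.conj_ab_cb hab hbc t s'
  have h3 := d.comm hbc.symm hac.symm hbc hac.symm (-(s * t)) s
  calc X a b t * (X c a s * X c b s') * (X a b t)⁻¹
      = (X a b t * X c a s * (X a b t)⁻¹) * (X a b t * X c b s' * (X a b t)⁻¹) := by group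
    _ = (X c b (-(s * t)) * X c a s) * X c b s' := by rw [h1, h2]
    _ = X c a s * (X c b (-(s * t)) * X c b s') := by rw [h3, mul_assoc]
    _ = X c a s * X c b (s' - s * t) := by rw [d.add hbc.symm]; congr 2; ring

theorem StData.conjY_Row (d : StData X) {a b c : I} (hab : a ≠ b) (hbc : b ≠ c) (hac : a ≠ c)
    (t s s' : K) :
    X b a t * Row X a b c s s' * (X b a t)⁻¹ = Row X a b c (s - s' * t) s' := by
  unfold Row
  have h1 := d.conj_ab_cb hab.symm hac t s
  have h2 := d.conj_ab_ca hab.symm hac hbc t s'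
  calc X b a t * (X c a s * X c b s') * (X b a t)⁻¹
      = (X b a t * X c a s * (X b a t)⁻¹) * (X b a t * X c b s' * (X b a t)⁻¹) := by group
    _ = X c a s * (X c a (-(s' * t)) * X c b s') := by rw [h1, h2]
    _ = X c a (s - s' * t) * X c b s' := by rw [← mul_assoc, d.add hac.symm]; congr 2; ring

theorem Col_zero_right (d : StData X) {a b c : I} (hbc : b ≠ c) (s : K) :
    Col X a b c s 0 = X a c s := by
  unfold Col; rw [d.zero hbc, mul_one]

theorem Col_zero_left (d : StData X) {a b c : I} (hac : a ≠ c) (s : K) :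
    Col X a b c 0 s = X b c s := by
  unfold Col; rw [d.zero hac, one_mul]

theorem Row_zero_right (d : StData X) {a b c : I} (hbc : b ≠ c) (s : K) :
    Row X a b c s 0 = X c a s := by
  unfold Row; rw [d.zero hbc.symm, mul_one]

theorem Row_zero_left (d : StData X) {a b c : I} (hac : a ≠ c) (s : K) :
    Row X a b c 0 s = X c b s := by
  unfold Row; rw [d.zero hac.symm, one_mul]

/-- Action of `w_{ab}(t)` on columns. -/
theorem StData.conjW_Col (d : StData X) {a b c : I} (hab : a ≠ b) (hbc : b ≠ c) (hac : a ≠ c)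
    {t : K} (ht : t ≠ 0) (s s' : K) :
    W (X a b) (X b a) t * Col X a b c s s' * (W (X a b) (X b a) t)⁻¹ =
      Col X a b c (t * s') (-(t⁻¹ * s)) := by
  unfold W
  have e : ∀ x y C : Γ, (x * y * x) * C * (x * y * x)⁻¹ =
      x * (y * (x * C * x⁻¹) * y⁻¹) * x⁻¹ := by intros; group
  rw [e, d.conjX_Col hab hbc hac, d.conjY_Col hab hbc hac, d.conjX_Col hab hbc hac]
  congr 1
  · field_simp; ring
  · field_simp; ring

/-- Action of `w_{ab}(t)` on rows. -/
theorem StData.conjW_Row (d : StData X) {a b c : I} (hab : a ≠ b) (hbc : b ≠ c) (hac : a ≠ c)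
    {t : K} (ht : t ≠ 0) (s s' : K) :
    W (X a b) (X b a) t * Row X a b c s s' * (W (X a b) (X b a) t)⁻¹ =
      Row X a b c (t⁻¹ * s') (-(t * s)) := by
  unfold W
  have e : ∀ x y C : Γ, (x * y * x) * C * (x * y * x)⁻¹ =
      x * (y * (x * C * x⁻¹) * y⁻¹) * x⁻¹ := by intros; group
  rw [e, d.conjX_Row hab hbc hac, d.conjY_Row hab hbc hac, d.conjX_Row hab hbc hac]
  congr 1
  · field_simp; ring
  · field_simp; ring

theorem StData.conjW_ac (d : StData X) {a b c : I} (hab : a ≠ b) (hbc : b ≠ c) (hac : a ≠ c)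
    {t : K} (ht : t ≠ 0) (s : K) :
    W (X a b) (X b a) t * X a c s * (W (X a b) (X b a) t)⁻¹ = X b c (-(t⁻¹ * s)) := by
  have h := d.conjW_Col hab hbc hac ht s 0
  rw [Col_zero_right d hbc, mul_zero, Col_zero_left d hac] at h
  exact h

theorem StData.conjW_bc (d : StData X) {a b c : I} (hab : a ≠ b) (hbc : b ≠ c) (hac : a ≠ c)
    {t : K} (ht : t ≠ 0) (s : K) :
    W (X a b) (X b a) t * X b c s * (W (X a b) (X b a) t)⁻¹ = X a c (t * s) := by
  have h := d.conjW_Col hab hbc hac ht 0 s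
  rw [Col_zero_left d hac, mul_zero, neg_zero, Col_zero_right d hbc] at h
  exact h

theorem StData.conjW_ca (d : StData X) {a b c : I} (hab : a ≠ b) (hbc : b ≠ c) (hac : a ≠ c)
    {t : K} (ht : t ≠ 0) (s : K) :
    W (X a b) (X b a) t * X c a s * (W (X a b) (X b a) t)⁻¹ = X c b (-(t * s)) := by
  have h := d.conjW_Row hab hbc hac ht s 0
  rw [Row_zero_right d hbc, mul_zero, Row_zero_left d hac] at h
  exact h

theorem StData.conjW_cb (d : StData X) {a b c : I} (hab : a ≠ b) (hbc : b ≠ c) (hac : a ≠ c)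
    {t : K} (ht : t ≠ 0) (s : K) :
    W (X a b) (X b a) t * X c b s * (W (X a b) (X b a) t)⁻¹ = X c a (t⁻¹ * s) := by
  have h := d.conjW_Row hab hbc hac ht 0 s
  rw [Row_zero_left d hac, mul_zero, neg_zero, Row_zero_right d hbc] at h
  exact h

/-- Action of `h_{ab}(t)` on columns. -/
theorem StData.conjH_Col (d : StData X) {a b c : I} (hab : a ≠ b) (hbc : b ≠ c) (hac : a ≠ c)
    {t : K} (ht : t ≠ 0) (s s' : K) :
    Hh (X a b) (X b a) t * Col X a b c s s' * (Hh (X a b) (X b a) t)⁻¹ =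
      Col X a b c (t * s) (t⁻¹ * s') := by
  unfold Hh
  have e : ∀ x y C : Γ, (x * y) * C * (x * y)⁻¹ = x * (y * C * y⁻¹) * x⁻¹ := by intros; group
  rw [e, d.conjW_Col hab hbc hac (by norm_num : (-1 : K) ≠ 0), d.conjW_Col hab hbc hac ht]
  congr 1
  · ring
  · field_simp

/-- Action of `h_{ab}(t)` on rows. -/
theorem StData.conjH_Row (d : StData X) {a b c : I} (hab : a ≠ b) (hbc : b ≠ c) (hac : a ≠ c)
    {t : K} (ht : t ≠ 0) (s s' : K) :
    Hh (X a b) (X b a) t * Row X a b c s s' * (Hh (X a b) (X b a) t)⁻¹ =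
      Row X a b c (t⁻¹ * s) (t * s') := by
  unfold Hh
  have e : ∀ x y C : Γ, (x * y) * C * (x * y)⁻¹ = x * (y * C * y⁻¹) * x⁻¹ := by intros; group
  rw [e, d.conjW_Row hab hbc hac (by norm_num : (-1 : K) ≠ 0), d.conjW_Row hab hbc hac ht]
  congr 1
  · field_simp
  · ring

theorem StData.conjH_ac (d : StData X) {a b c : I} (hab : a ≠ b) (hbc : b ≠ c) (hac : a ≠ c)
    {t : K} (ht : t ≠ 0) (s : K) :
    Hh (X a b) (X b a) t * X a c s * (Hh (X a b) (X b a) t)⁻¹ = X a c (t * s) := by
  have h := d.conjH_Col hab hbc hac ht s 0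
  rw [Col_zero_right d hbc, mul_zero, Col_zero_right d hbc] at h
  exact h

theorem StData.conjH_bc (d : StData X) {a b c : I} (hab : a ≠ b) (hbc : b ≠ c) (hac : a ≠ c)
    {t : K} (ht : t ≠ 0) (s : K) :
    Hh (X a b) (X b a) t * X b c s * (Hh (X a b) (X b a) t)⁻¹ = X b c (t⁻¹ * s) := by
  have h := d.conjH_Col hab hbc hac ht 0 s
  rw [Col_zero_left d hac, mul_zero, Col_zero_left d hac] at h
  exact h

theorem StData.conjH_ca (d : StData X) {a b c : I} (hab : a ≠ b) (hbc : b ≠ c) (hac : a ≠ c)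
    {t : K} (ht : t ≠ 0) (s : K) :
    Hh (X a b) (X b a) t * X c a s * (Hh (X a b) (X b a) t)⁻¹ = X c a (t⁻¹ * s) := by
  have h := d.conjH_Row hab hbc hac ht s 0
  rw [Row_zero_right d hbc, mul_zero, Row_zero_right d hbc] at h
  exact h

theorem StData.conjH_cb (d : StData X) {a b c : I} (hab : a ≠ b) (hbc : b ≠ c) (hac : a ≠ c)
    {t : K} (ht : t ≠ 0) (s : K) :
    Hh (X a b) (X b a) t * X c b s * (Hh (X a b) (X b a) t)⁻¹ = X c b (t * s) := by
  have h := d.conjH_Row hab hbc hac ht 0 s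
  rw [Row_zero_left d hac, mul_zero, Row_zero_left d hac] at h
  exact h

/-- `h_{ab}(t)` commutes with `X c e s` when `c, e ∉ {a, b}`. -/
theorem StData.conjH_ce (d : StData X) {a b c e : I} (hab : a ≠ b) (hce : c ≠ e) (hca : c ≠ a)
    (hcb : c ≠ b) (hea : e ≠ a) (heb : e ≠ b) (t s : K) :
    Hh (X a b) (X b a) t * X c e s * (Hh (X a b) (X b a) t)⁻¹ = X c e s := by
  have hx : ∀ u : K, X a b u * X c e s = X c e s * X a b u :=
    fun u => d.comm hab hce hcb.symm hea.symm u s
  have hy : ∀ u : K, X b a u * X c e s = X c e s * X b a u :=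
    fun u => d.comm hab.symm hce hca.symm heb.symm u s
  have hw : ∀ u : K, W (X a b) (X b a) u * X c e s = X c e s * W (X a b) (X b a) u := by
    intro u
    unfold W
    calc X a b u * X b a (-u⁻¹) * X a b u * X c e s
        = X a b u * X b a (-u⁻¹) * (X a b u * X c e s) := by group
      _ = X a b u * (X b a (-u⁻¹) * X c e s) * X a b u := by rw [hx]; group
      _ = (X a b u * X c e s) * X b a (-u⁻¹) * X a b u := by rw [hy]; group
      _ = X c e s * (X a b u * X b a (-u⁻¹) * X a b u) := by rw [hx]; group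
  unfold Hh
  calc W (X a b) (X b a) t * W (X a b) (X b a) (-1) * X c e s *
        (W (X a b) (X b a) t * W (X a b) (X b a) (-1))⁻¹
      = W (X a b) (X b a) t * (W (X a b) (X b a) (-1) * X c e s) *
        (W (X a b) (X b a) t * W (X a b) (X b a) (-1))⁻¹ := by group
    _ = (W (X a b) (X b a) t * X c e s) * W (X a b) (X b a) (-1) *
        (W (X a b) (X b a) t * W (X a b) (X b a) (-1))⁻¹ := by rw [hw]; group
    _ = X c e s := by rw [hw]; group

/-- The rank-one relation `w(t) X_ab(u) w(t)⁻¹ = X_ba(-t⁻² u)`, using a third index. -/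
theorem StData.relX (d : StData X) {a b c : I} (hab : a ≠ b) (hbc : b ≠ c) (hac : a ≠ c)
    {t : K} (ht : t ≠ 0) (u : K) :
    W (X a b) (X b a) t * X a b u * (W (X a b) (X b a) t)⁻¹ = X b a (-(t⁻¹ ^ 2 * u)) := by
  have h1 := d.rel hac hbc.symm hab u 1
  rw [mul_one] at h1
  have h2 := d.conjW_ac hab hbc hac ht u
  have h3 := d.conjW_cb hab hbc hac ht 1
  have h4 := d.rel hbc hac.symm hab.symm (-(t⁻¹ * u)) (t⁻¹ * 1)
  have e : ∀ w x y : Γ, w * (x * y * x⁻¹ * y⁻¹) * w⁻¹ =
      (w * x * w⁻¹) * (w * y * w⁻¹) * (w * x * w⁻¹)⁻¹ * (w * y * w⁻¹)⁻¹ := by intros; group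
  rw [← h1, e, h2, h3, h4]
  congr 1
  ring

/-- The rank-one Steinberg data for the pair `(a, b)`. -/
theorem StData.rankOne (d : StData X) {a b c : I} (hab : a ≠ b) (hbc : b ≠ c) (hac : a ≠ c) :
    Data (X a b) (X b a) := by
  refine ⟨d.add hab, d.add hab.symm, ?_, ?_⟩
  · intro t u ht
    rw [MulAut.conj_apply]
    exact d.relX hab hbc hac ht u
  · intro t u ht
    rw [MulAut.conj_apply]
    exact d.relX hab.symm hac hbc ht u

end Cfsg.Agent.Lib.Helper53.StN
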