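import Mathlib
import Cfsg.Agent.Lib.Helper53.StNBasic
import Cfsg.Agent.Lib.Helper53.CentralLift
import Cfsg.Agent.Lib.Helper5.SLGen

/-!
Root elements and torus elements of `SL(I, K)` (helper53): the total function `T i j t`, its
Steinberg relations, conjugation by the diagonal elements `diag2n`.
-/

set_option autoImplicit false
set_option linter.unusedSectionVars false
set_option linter.unusedSimpArgs false

namespace Cfsg.Agent.Lib.Helper53.SLnRoot

open Matrix Cfsg.Agent.Lib.Helper53.StN Cfsg.Agent.Lib.Helper53.CLift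

variable {I : Type*} [DecidableEq I] [Fintype I] {K : Type*} [Field K]

/-- The root elements, as a total function. -/
noncomputable def T (i j : I) (t : K) : SpecialLinearGroup I K :=
  if h : i ≠ j then SpecialLinearGroup.transvection h t else 1

theorem T_of {i j : I} (h : i ≠ j) (t : K) : T i j t = SpecialLinearGroup.transvection h t := by
  unfold T; rw [dif_pos h]

theorem T_comm {i j k l : I} (hij : i ≠ j) (hkl : k ≠ l) (hjk : j ≠ k) (hil : i ≠ l) (t u : K) :
    T i j t * T k l u = T k l u * T i j t := by
  rw [T_of hij, T_of hkl]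
  apply Subtype.ext
  simp only [Matrix.SpecialLinearGroup.coe_mul, Matrix.SpecialLinearGroup.transvection_coe]
  simp [mul_add, add_mul, Matrix.single_mul_single_of_ne, hjk, hil, Ne.symm hjk, Ne.symm hil]
  abel

theorem T_rel {i j l : I} (hij : i ≠ j) (hjl : j ≠ l) (hil : i ≠ l) (t u : K) :
    T i j t * T j l u * (T i j t)⁻¹ * (T j l u)⁻¹ = T i l (t * u) := by
  rw [T_of hij, T_of hjl, T_of hil]
  have := Cfsg.Agent.Lib.Helper5.commutator_transvection_transvection (F := K) hil hij hjl t u
  rw [commutatorElement_def] at this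
  exact this

theorem stData_T : StData (T : I → I → K → SpecialLinearGroup I K) := by
  refine ⟨?_, ?_, ?_⟩
  · intro i j hij t u
    rw [T_of hij, T_of hij, T_of hij, Matrix.SpecialLinearGroup.transvection_add]
  · intro i j k l hij hkl hjk hil t u
    exact T_comm hij hkl hjk hil t u
  · intro i j l hij hjl hil t u
    exact T_rel hij hjl hil t u

theorem T_add {i j : I} (hij : i ≠ j) (t u : K) : T i j (t + u) = T i j t * T i j u :=
  (stData_T.add hij t u).symm

theorem cm_T {i j l : I} (hij : i ≠ j) (hjl : j ≠ l) (hil : i ≠ l) (t u : K) :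
    cm (T i j t) (T j l u) = T i l (t * u) := T_rel hij hjl hil t u

/-- The weights of `diag2n`. -/
def wt (a b : I) (e : K) (k : I) : K := if k = a then e else if k = b then e⁻¹ else 1

theorem wt_ne_zero (a b : I) {e : K} (he : e ≠ 0) (k : I) : wt a b e k ≠ 0 := by
  unfold wt
  split_ifs
  · exact he
  · exact inv_ne_zero he
  · exact one_ne_zero

/-- Conjugating a root element by `diag2n`. -/
theorem diag2n_conj {a b : I} (hab : a ≠ b) (e : K) (he : e ≠ 0) {r s : I} (hrs : r ≠ s) (t : K) :
    SpecialLinearGroup.diag2n hab e he * T r s t * (SpecialLinearGroup.diag2n hab e he)⁻¹ =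
      T r s (wt a b e r * (wt a b e s)⁻¹ * t) := by
  rw [mul_inv_eq_iff_eq_mul, T_of hrs, T_of hrs]
  apply Subtype.ext
  simp only [Matrix.SpecialLinearGroup.coe_mul, Matrix.SpecialLinearGroup.transvection_coe,
    SpecialLinearGroup.diag2n_coe]
  have hw : (fun k => if k = a then e else if k = b then e⁻¹ else 1) = wt a b e := rfl
  rw [hw]
  have hs := wt_ne_zero a b he s
  ext x y
  simp only [Matrix.mul_apply, Matrix.add_apply, Matrix.one_apply, Matrix.diagonal_apply,
    Matrix.single_apply]
  rw [Finset.sum_eq_single x, Finset.sum_eq_single y]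
  · by_cases hxy : x = y
    · subst hxy
      by_cases hxr : r = x
      · subst hxr
        simp [hrs, Ne.symm hrs]
      · simp [hxr]
    · by_cases h1 : r = x ∧ s = y
      · obtain ⟨rfl, rfl⟩ := h1
        simp [hxy]
        field_simp
      · simp [hxy, h1]
  · intro z _ hz
    simp [hz]
  · intro h; exact absurd (Finset.mem_univ _) h
  · intro z _ hz
    simp [Ne.symm hz]
  · intro h; exact absurd (Finset.mem_univ _) h

theorem diag2n_commute {a b c d : I} (hab : a ≠ b) (hcd : c ≠ d) (e f : K) (he : e ≠ 0)
    (hf : f ≠ 0) :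
    SpecialLinearGroup.diag2n hab e he * SpecialLinearGroup.diag2n hcd f hf =
      SpecialLinearGroup.diag2n hcd f hf * SpecialLinearGroup.diag2n hab e he := by
  apply Subtype.ext
  simp only [Matrix.SpecialLinearGroup.coe_mul, SpecialLinearGroup.diag2n_coe,
    Matrix.diagonal_mul_diagonal]
  congr 1
  funext k
  exact mul_comm _ _

/-- Conjugating by a product of two `diag2n`. -/
theorem diag2n_mul_conj {a b c d : I} (hab : a ≠ b) (hcd : c ≠ d) (e f : K) (he : e ≠ 0)
    (hf : f ≠ 0) {r s : I} (hrs : r ≠ s) (t : K) :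
    (SpecialLinearGroup.diag2n hab e he * SpecialLinearGroup.diag2n hcd f hf) * T r s t *
      (SpecialLinearGroup.diag2n hab e he * SpecialLinearGroup.diag2n hcd f hf)⁻¹ =
      T r s (wt a b e r * (wt a b e s)⁻¹ * (wt c d f r * (wt c d f s)⁻¹ * t)) := by
  rw [← diag2n_conj hab e he hrs, ← diag2n_conj hcd f hf hrs]
  group

end Cfsg.Agent.Lib.Helper53.SLnRoot
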