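import Mathlib
import Cfsg.Agent.Lib.Helper53.SLnRoot

/-!
Central extensions of `SL(I, K)`: lifts of commuting root elements commute (helper53).
-/

set_option autoImplicit false
set_option linter.unusedSectionVars false
set_option linter.unusedSimpArgs false

namespace Cfsg.Agent.Lib.Helper53.SLnLift

open Matrix Cfsg.Agent.Lib.Helper53.StN Cfsg.Agent.Lib.Helper53.CLift
  Cfsg.Agent.Lib.Helper53.SLnRoot Cfsg.Agent.Lib.Helper53.AltMult

variable {I : Type*} [DecidableEq I] [Fintype I] {K : Type*} [Field K] {Γ : Type*} [Group Γ]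
  (σ : Γ →* SpecialLinearGroup I K)

/-- All lifts of the root elements `T i j t` commute with all lifts of the `T k l u`. -/
def LC (i j k l : I) : Prop := ∀ t u : K, LiftsCommute σ (T i j t) (T k l u)

theorem exists_not_mem_of_card_lt (s : Finset I) (h : s.card < Fintype.card I) : ∃ m, m ∉ s := by
  by_contra hne
  push Not at hne
  have : s = Finset.univ := Finset.eq_univ_iff_forall.mpr hne
  rw [this, Finset.card_univ] at h
  exact lt_irrefl _ h

theorem wt_left (a b : I) (e : K) : wt a b e a = e := by simp [wt]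

theorem wt_right {a b : I} (hab : a ≠ b) (e : K) : wt a b e b = e⁻¹ := by simp [wt, hab.symm]

theorem wt_other {a b k : I} (hka : k ≠ a) (hkb : k ≠ b) (e : K) : wt a b e k = 1 := by
  simp [wt, hka, hkb]

theorem cm_inv' {M : Type*} [Group M] (a b : M) : (cm a b)⁻¹ = cm b a := by
  unfold cm; group

theorem finset_dup_a (i j : I) : ({i, j, i, j} : Finset I) = {i, j} := by
  ext x; simp only [Finset.mem_insert, Finset.mem_singleton]; tauto

theorem finset_dup_b (i j l : I) : ({i, j, i, l} : Finset I) = {i, j, l} := by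
  ext x; simp only [Finset.mem_insert, Finset.mem_singleton]; tauto

theorem finset_dup_c (i j k : I) : ({i, j, k, j} : Finset I) = {i, j, k} := by
  ext x; simp only [Finset.mem_insert, Finset.mem_singleton]; tauto

section central

variable (hc : σ.ker ≤ Subgroup.center Γ) (hs : Function.Surjective σ)
include hc hs

/-- With an index outside `{i, j, k, l}`. -/
theorem lc_of_extra {i j k l m : I} (hij : i ≠ j) (hkl : k ≠ l) (hjk : j ≠ k) (hil : i ≠ l)
    (hmi : m ≠ i) (hmj : m ≠ j) (hmk : m ≠ k) (hml : m ≠ l) : LC σ i j k l := by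
  intro t u
  have h := liftsCommute_cm σ hc hs (g := T i j t) (b := T k m u) (c := T m l 1)
    (T_comm hij hmk.symm hjk hmi.symm t u) (T_comm hij hml hmj.symm hil t 1)
  rwa [cm_T hmk.symm hml hkl, mul_one] at h

/-- Two roots in a row, by the torus. -/
theorem lc_row_torus {i j l : I} (hij : i ≠ j) (hil : i ≠ l) (hjl : j ≠ l) (e : K) (he : e ≠ 0)
    (he3 : e ^ 3 ≠ 1) : LC σ i j i l := by
  intro t u
  refine liftsCommute_of_torus σ hc hs (T i j) (fun t u => T_add hij t u) (T i l u)
    (fun t => T_comm hij hil hij.symm hil t u)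
    (SpecialLinearGroup.diag2n hij e he * SpecialLinearGroup.diag2n hjl.symm e he) (e ^ 3) he3
    ?_ ?_ t
  · intro t
    rw [diag2n_mul_conj hij hjl.symm e e he he hij t]
    congr 1
    simp [wt, hij, hij.symm, hil, hil.symm, hjl, hjl.symm]
    field_simp
  · rw [diag2n_mul_conj hij hjl.symm e e he he hil u]
    congr 1
    simp [wt, hij, hij.symm, hil, hil.symm, hjl, hjl.symm]
    field_simp

/-- Two roots in a column, by the torus. -/
theorem lc_col_torus {i j k : I} (hij : i ≠ j) (hkj : k ≠ j) (hik : i ≠ k) (e : K) (he : e ≠ 0)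
    (he3 : e ^ 3 ≠ 1) : LC σ i j k j := by
  intro t u
  have hc1 : (e ^ 3)⁻¹ ≠ 1 := fun h => he3 (inv_eq_one.mp h)
  refine liftsCommute_of_torus σ hc hs (T i j) (fun t u => T_add hij t u) (T k j u)
    (fun t => T_comm hij hkj hkj.symm hij t u)
    (SpecialLinearGroup.diag2n hij.symm e he * SpecialLinearGroup.diag2n hik.symm e he) (e ^ 3)⁻¹
    hc1 ?_ ?_ t
  · intro t
    rw [diag2n_mul_conj hij.symm hik.symm e e he he hij t]
    congr 1
    simp [wt, hij, hij.symm, hik, hik.symm, hkj, hkj.symm]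
    field_simp
  · rw [diag2n_mul_conj hij.symm hik.symm e e he he hkj u]
    congr 1
    simp [wt, hij, hij.symm, hik, hik.symm, hkj, hkj.symm]
    field_simp

/-- Two disjoint roots, by the torus. -/
theorem lc_dist_torus {i j k l : I} (hij : i ≠ j) (hkl : k ≠ l) (hjk : j ≠ k) (hil : i ≠ l)
    (hik : i ≠ k) (hjl : j ≠ l) (e : K) (he : e ≠ 0) (he2 : e ^ 2 ≠ 1) : LC σ i j k l := by
  intro t u
  refine liftsCommute_of_torus σ hc hs (T i j) (fun t u => T_add hij t u) (T k l u)
    (fun t => T_comm hij hkl hjk hil t u)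
    (SpecialLinearGroup.diag2n hij e he) (e ^ 2) he2 ?_ ?_ t
  · intro t
    rw [diag2n_conj hij e he hij t, wt_left, wt_right hij, inv_inv]
    congr 1
    ring
  · rw [diag2n_conj hij e he hkl u, wt_other hik.symm hjk.symm, wt_other hil.symm hjl.symm]
    congr 1
    simp

section jacobi

variable (hC3 : ∀ {i j k l : I}, i ≠ j → k ≠ l → j ≠ k → i ≠ l → (i = k ∨ j = l) → LC σ i j k l)
include hC3

/-- First Jacobi-type relation between the pairings of disjoint roots. -/
theorem jacobi_one {i j k l : I} (hij : i ≠ j) (hik : i ≠ k) (hil : i ≠ l) (hjk : j ≠ k)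
    (hjl : j ≠ l) (hkl : k ≠ l) (t u : K) {a b β η : Γ} (ha : σ a = T i j t)
    (hb : σ b = T k l u) (hβ : σ β = T k j u) (hη : σ η = T i l t) : cm a b = cm β η := by
  obtain ⟨δ, hδ⟩ := hs (T j l 1)
  have hβδ : σ (cm β δ) = T k l u := by
    rw [map_cm, hβ, hδ, cm_T hjk.symm hjl hkl, mul_one]
  have h1 : cm a b = cm a (cm β δ) := by
    apply cm_eq_of_map_eq σ hc rfl
    rw [hb, hβδ]
  have h2 : a * β * a⁻¹ = β := by
    have h := hC3 hij hjk.symm hjk hij (Or.inr rfl) t u a β ha hβ
    rw [h.eq, mul_inv_cancel_right]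
  obtain ⟨η₀, hη₀def⟩ : ∃ x, x = cm a δ := ⟨_, rfl⟩
  have hη₀ : σ η₀ = T i l t := by
    rw [hη₀def, map_cm, ha, hδ, cm_T hij hjl hil, mul_one]
  have h3 : a * δ * a⁻¹ = η₀ * δ := by rw [hη₀def]; exact conj_eq_cm_mul a δ
  have h4 : a * cm β δ * a⁻¹ = cm β η₀ * cm β δ := by
    rw [conj_cm, h2, h3, cm_mul_right]
    have h5 : Commute η₀ (cm β δ) :=
      hC3 hil hkl hkl.symm hil (Or.inr rfl) t u η₀ (cm β δ) hη₀ hβδ
    rw [h5.eq, mul_inv_cancel_right]
  rw [h1]
  calc cm a (cm β δ) = a * cm β δ * a⁻¹ * (cm β δ)⁻¹ := rfl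
    _ = cm β η₀ := by rw [h4, mul_inv_cancel_right]
    _ = cm β η := cm_eq_of_map_eq σ hc rfl (by rw [hη₀, hη])

/-- Second Jacobi-type relation between the pairings of disjoint roots. -/
theorem jacobi_two {i j k l : I} (hij : i ≠ j) (hik : i ≠ k) (hil : i ≠ l) (hjk : j ≠ k)
    (hjl : j ≠ l) (hkl : k ≠ l) (t u : K) {a b a' b' : Γ} (ha : σ a = T i j t)
    (hb : σ b = T k l u) (ha' : σ a' = T k j t) (hb' : σ b' = T i l u) :
    cm a' b' = (cm a b)⁻¹ := by
  obtain ⟨α, hα⟩ := hs (T k i 1)
  have hαa : σ (cm α a) = T k j t := by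
    rw [map_cm, hα, ha, cm_T hik.symm hij hjk.symm, one_mul]
  have h1 : cm a' b' = cm (cm α a) b' := cm_eq_of_map_eq σ hc (by rw [ha', hαa]) rfl
  have h2 : b' * a * b'⁻¹ = a := by
    have h := hC3 hil hij hil.symm hij (Or.inl rfl) u t b' a hb' ha
    rw [h.eq, mul_inv_cancel_right]
  obtain ⟨η', hη'def⟩ : ∃ x, x = cm b' α := ⟨_, rfl⟩
  have hη' : σ η' = T k l (-u) := by
    rw [hη'def, map_cm, hb', hα, ← cm_inv', cm_T hik.symm hil hkl, one_mul, stData_T.inv hkl]
  have h3 : b' * α * b'⁻¹ = η' * α := by rw [hη'def]; exact conj_eq_cm_mul b' α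
  have h4 : b' * cm α a * b'⁻¹ = cm α a * cm η' a := by
    rw [conj_cm, h2, h3, cm_mul_left]
    have h5 : Commute η' (cm α a) :=
      hC3 hkl hjk.symm hkl.symm hjk.symm (Or.inl rfl) (-u) t η' (cm α a) hη' hαa
    rw [h5.eq, mul_inv_cancel_right]
  have hcen : σ (cm a b) = 1 := by
    rw [map_cm, ha, hb]
    exact cm_eq_one_iff.mpr (T_comm hij hkl hjk hil t u)
  have h6 : cm η' a = cm a b := by
    have e1 : cm η' a = cm b⁻¹ a :=
      cm_eq_of_map_eq σ hc (by rw [hη', map_inv, hb, stData_T.inv hkl]) rfl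
    have hcomm := comm_of_map_eq_one σ hc hcen b⁻¹
    rw [e1]
    calc cm b⁻¹ a = b⁻¹ * cm a b * b := by unfold cm; group
      _ = cm a b * b⁻¹ * b := by rw [← hcomm]
      _ = cm a b := by group
  have h7 : cm b' (cm α a) = cm a b := by
    have hcomm := comm_of_map_eq_one σ hc hcen (cm α a)
    calc cm b' (cm α a) = b' * cm α a * b'⁻¹ * (cm α a)⁻¹ := rfl
      _ = cm α a * cm a b * (cm α a)⁻¹ := by rw [h4, h6]
      _ = cm a b := by rw [← hcomm, mul_inv_cancel_right]
  rw [h1, ← cm_inv', h7]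

/-- Disjoint roots over the field with three elements. -/
theorem lc_dist_F3 (h3 : (1 : K) + 1 + 1 = 0) (hK : ∀ t : K, t = 0 ∨ t = 1 ∨ t = -1)
    {i j k l : I} (hij : i ≠ j) (hik : i ≠ k) (hil : i ≠ l) (hjk : j ≠ k)
    (hjl : j ≠ l) (hkl : k ≠ l) : LC σ i j k l := by
  choose s hs' using hs
  have hs : Function.Surjective σ := fun g => ⟨s g, hs' g⟩
  obtain ⟨g, hg⟩ : ∃ g : K → K → Γ, ∀ t u, g t u = cm (s (T i j t)) (s (T k l u)) := ⟨_, fun _ _ => rfl⟩
  have hanti : ∀ t u, g t u = (g u t)⁻¹ := by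
    intro t u
    have e1 := jacobi_one σ hc hs hC3 hij hik hil hjk hjl hkl t u (hs' (T i j t)) (hs' (T k l u))
      (hs' (T k j u)) (hs' (T i l t))
    have e2 := jacobi_two σ hc hs hC3 hij hik hil hjk hjl hkl u t (hs' (T i j u)) (hs' (T k l t))
      (hs' (T k j u)) (hs' (T i l t))
    rw [hg, hg, e1, e2]
  have hcen : ∀ t u, σ (g t u) = 1 := by
    intro t u
    rw [hg, map_cm, hs', hs']
    exact cm_eq_one_iff.mpr (T_comm hij hkl hjk hil t u)
  have hadd : ∀ t t' u, g (t + t') u = g t u * g t' u := by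
    intro t t' u
    have e : g (t + t') u = cm (s (T i j t) * s (T i j t')) (s (T k l u)) := by
      rw [hg]
      apply cm_eq_of_map_eq σ hc _ rfl
      rw [map_mul, hs', hs', hs', T_add hij]
    have e2 : s (T i j t) * g t' u * (s (T i j t))⁻¹ = g t' u := by
      rw [← comm_of_map_eq_one σ hc (hcen t' u), mul_inv_cancel_right]
    rw [e, cm_mul_left, ← hg, ← hg, e2, comm_of_map_eq_one σ hc (hcen t' u)]
  have hzero : ∀ u, g 0 u = 1 := by
    intro u
    have := hadd 0 0 u
    rw [add_zero] at this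
    exact mul_left_cancel (a := g 0 u) (by rw [← this, mul_one])
  have hneg : ∀ u, g (-1) u = (g 1 u)⁻¹ := by
    intro u
    have := hadd 1 (-1) u
    rw [add_neg_cancel, hzero] at this
    exact (inv_eq_of_mul_eq_one_right this.symm).symm
  have hx : g 1 1 = 1 := by
    have e1 : g 1 1 * g 1 1 = 1 := by
      have := hanti 1 1
      exact mul_eq_one_iff_eq_inv.mpr this
    have e2 : g 1 1 * g 1 1 * g 1 1 = 1 := by
      rw [← hadd, ← hadd, h3, hzero]
    rw [e1, one_mul] at e2
    exact e2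
  have h1u : ∀ u, g 1 u = 1 := by
    intro u
    rcases hK u with rfl | rfl | rfl
    · rw [hanti, hzero, inv_one]
    · exact hx
    · rw [hanti, hneg, hx, inv_one, inv_one]
  have hall : ∀ t u, g t u = 1 := by
    intro t u
    rcases hK t with rfl | rfl | rfl
    · exact hzero u
    · exact h1u u
    · rw [hneg, h1u, inv_one]
  intro t u
  have h := hall t u
  rw [hg] at h
  have := liftsCommute_of_commute σ hc (u := s (T i j t)) (v := s (T k l u)) (cm_eq_one_iff.mp h)
  rw [hs', hs'] at this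
  exact this

end jacobi

/-- Property (C): lifts of commuting root elements commute. -/
theorem lc_all (hI3 : 3 ≤ Fintype.card I)
    (h3 : Fintype.card I = 3 → ∃ e : K, e ≠ 0 ∧ e ^ 3 ≠ 1)
    (h4 : Fintype.card I = 4 → (∃ e : K, e ≠ 0 ∧ e ^ 2 ≠ 1) ∨
      ((1 : K) + 1 + 1 = 0 ∧ ∀ t : K, t = 0 ∨ t = 1 ∨ t = -1))
    {i j k l : I} (hij : i ≠ j) (hkl : k ≠ l) (hjk : j ≠ k) (hil : i ≠ l) : LC σ i j k l := by
  have hC3 : ∀ {i j k l : I}, i ≠ j → k ≠ l → j ≠ k → i ≠ l → (i = k ∨ j = l) → LC σ i j k l := by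
    intro i j k l hij hkl hjk hil hor
    by_cases h5 : ({i, j, k, l} : Finset I).card < Fintype.card I
    · obtain ⟨m, hm⟩ := exists_not_mem_of_card_lt _ h5
      simp only [Finset.mem_insert, Finset.mem_singleton, not_or] at hm
      exact lc_of_extra σ hc hs hij hkl hjk hil hm.1 hm.2.1 hm.2.2.1 hm.2.2.2
    · by_cases hik : i = k
      · subst hik
        by_cases hjl : j = l
        · subst hjl
          exfalso
          apply h5
          rw [finset_dup_a]
          exact lt_of_le_of_lt Finset.card_le_two (by omega)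
        · have h3' : Fintype.card I = 3 := by
            by_contra hne
            apply h5
            rw [finset_dup_b]
            exact lt_of_le_of_lt Finset.card_le_three (by omega)
          obtain ⟨e, he, he3⟩ := h3 h3'
          exact lc_row_torus σ hc hs hij hil hjl e he he3
      · have hjl : j = l := hor.resolve_left hik
        subst hjl
        have h3' : Fintype.card I = 3 := by
          by_contra hne
          apply h5
          rw [finset_dup_c]
          exact lt_of_le_of_lt Finset.card_le_three (by omega)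
        obtain ⟨e, he, he3⟩ := h3 h3'
        exact lc_col_torus σ hc hs hij hkl hik e he he3
  by_cases hor : i = k ∨ j = l
  · exact hC3 hij hkl hjk hil hor
  · push Not at hor
    obtain ⟨hik, hjl⟩ := hor
    by_cases h5 : ({i, j, k, l} : Finset I).card < Fintype.card I
    · obtain ⟨m, hm⟩ := exists_not_mem_of_card_lt _ h5
      simp only [Finset.mem_insert, Finset.mem_singleton, not_or] at hm
      exact lc_of_extra σ hc hs hij hkl hjk hil hm.1 hm.2.1 hm.2.2.1 hm.2.2.2
    · have hcard4 : ({i, j, k, l} : Finset I).card = 4 := by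
        rw [Finset.card_insert_of_notMem, Finset.card_insert_of_notMem,
          Finset.card_insert_of_notMem, Finset.card_singleton]
        · simp [hkl]
        · simp [hjk, hjl]
        · simp [hij, hik, hil]
      have h4' : Fintype.card I = 4 := by
        have := Finset.card_le_univ ({i, j, k, l} : Finset I)
        omega
      rcases h4 h4' with ⟨e, he, he2⟩ | ⟨h3z, hK⟩
      · exact lc_dist_torus σ hc hs hij hkl hjk hil hik hjl e he he2
      · exact lc_dist_F3 σ hc hs hC3 h3z hK hij hik hil hjk hjl hkl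

end central

end Cfsg.Agent.Lib.Helper53.SLnLift
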