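import Mathlib
import Cfsg.Agent.Lib.Helper53.SLnLift
import Cfsg.Agent.Lib.Helper53.CubeSpan

/-!
Central extensions of `SL(I, K)`: the commutator of lifts of `T i j t` and `T j l u` only depends
on `i`, `l` and `t * u` (helper53).
-/

set_option autoImplicit false
set_option linter.unusedSectionVars false
set_option linter.unusedSimpArgs false
set_option linter.unusedVariables false

namespace Cfsg.Agent.Lib.Helper53.SLnLift

open Matrix Cfsg.Agent.Lib.Helper53.StN Cfsg.Agent.Lib.Helper53.CLift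
  Cfsg.Agent.Lib.Helper53.SLnRoot Cfsg.Agent.Lib.Helper53.AltMult

variable {I : Type*} [DecidableEq I] [Fintype I] {K : Type*} [Field K] {Γ : Type*} [Group Γ]
  (σ : Γ →* SpecialLinearGroup I K)

section torus

theorem torus3_ij {i j l : I} (hij : i ≠ j) (hil : i ≠ l) (hjl : j ≠ l) (e : K) (he : e ≠ 0)
    (t : K) :
    (SpecialLinearGroup.diag2n hij e he * SpecialLinearGroup.diag2n hjl.symm e he) * T i j t *
      (SpecialLinearGroup.diag2n hij e he * SpecialLinearGroup.diag2n hjl.symm e he)⁻¹ =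
      T i j (e ^ 3 * t) := by
  rw [diag2n_mul_conj hij hjl.symm e e he he hij t, wt_left, wt_right hij,
    wt_other hil hij, wt_right hjl.symm]
  congr 1
  field_simp

theorem torus3_il {i j l : I} (hij : i ≠ j) (hil : i ≠ l) (hjl : j ≠ l) (e : K) (he : e ≠ 0)
    (u : K) :
    (SpecialLinearGroup.diag2n hij e he * SpecialLinearGroup.diag2n hjl.symm e he) * T i l u *
      (SpecialLinearGroup.diag2n hij e he * SpecialLinearGroup.diag2n hjl.symm e he)⁻¹ =
      T i l u := by
  rw [diag2n_mul_conj hij hjl.symm e e he he hil u, wt_left, wt_other hil.symm hjl.symm,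
    wt_other hil hij, wt_left]
  congr 1
  field_simp

theorem torus3_jl {i j l : I} (hij : i ≠ j) (hil : i ≠ l) (hjl : j ≠ l) (e : K) (he : e ≠ 0)
    (u : K) :
    (SpecialLinearGroup.diag2n hij e he * SpecialLinearGroup.diag2n hjl.symm e he) * T j l u *
      (SpecialLinearGroup.diag2n hij e he * SpecialLinearGroup.diag2n hjl.symm e he)⁻¹ =
      T j l ((e ^ 3)⁻¹ * u) := by
  rw [diag2n_mul_conj hij hjl.symm e e he he hjl u, wt_right hij, wt_other hil.symm hjl.symm,
    wt_right hjl.symm, wt_left]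
  congr 1
  field_simp

end torus

section central

variable (hc : σ.ker ≤ Subgroup.center Γ) (hs : Function.Surjective σ)
  (hC : ∀ {i j k l : I}, i ≠ j → k ≠ l → j ≠ k → i ≠ l → LC σ i j k l)
include hc hs hC

/-- Changing the middle index, four distinct indices. -/
theorem rel_four_distinct {i j k l : I} (hij : i ≠ j) (hik : i ≠ k) (hil : i ≠ l) (hjk : j ≠ k)
    (hjl : j ≠ l) (hkl : k ≠ l) (t u : K) {a b a' c : Γ} (ha : σ a = T i j t)
    (hb : σ b = T j l u) (ha' : σ a' = T i k (t * u)) (hc' : σ c = T k l 1) :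
    cm a b = cm a' c := by
  obtain ⟨β, hβ⟩ := hs (T j k u)
  have hβc : σ (cm β c) = T j l u := by
    rw [map_cm, hβ, hc', cm_T hjk hkl hjl, mul_one]
  have h1 : cm a b = cm a (cm β c) := cm_eq_of_map_eq σ hc rfl (by rw [hb, hβc])
  obtain ⟨η₀, hη₀def⟩ : ∃ x, x = cm a β := ⟨_, rfl⟩
  have hη₀ : σ η₀ = T i k (t * u) := by
    rw [hη₀def, map_cm, ha, hβ, cm_T hij hjk hik]
  have h2 : a * c * a⁻¹ = c := by
    have h := hC hij hkl hjk hil t 1 a c ha hc'
    rw [h.eq, mul_inv_cancel_right]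
  have h3 : a * β * a⁻¹ = η₀ * β := by rw [hη₀def]; exact conj_eq_cm_mul a β
  have h4 : a * cm β c * a⁻¹ = cm β c * cm η₀ c := by
    rw [conj_cm, h2, h3, cm_mul_left]
    have h5 : Commute η₀ (cm β c) := hC hik hjl hjk.symm hil (t * u) u η₀ (cm β c) hη₀ hβc
    rw [h5.eq, mul_inv_cancel_right]
  have hη₀c : σ (cm η₀ c) = T i l (t * u) := by
    rw [map_cm, hη₀, hc', cm_T hik hkl hil, mul_one]
  have h6 : Commute (cm η₀ c) (cm β c) := hC hil hjl hjl.symm hil (t * u) u _ _ hη₀c hβc
  rw [h1]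
  calc cm a (cm β c) = a * cm β c * a⁻¹ * (cm β c)⁻¹ := rfl
    _ = cm β c * cm η₀ c * (cm β c)⁻¹ := by rw [h4]
    _ = cm η₀ c := by rw [← h6.eq, mul_inv_cancel_right]
    _ = cm a' c := cm_eq_of_map_eq σ hc (by rw [hη₀, ha']) rfl

/-- The relation (R2) when there are at least four indices. -/
theorem rel_of_four (h4 : 4 ≤ Fintype.card I) {i j k l : I} (hij : i ≠ j) (hjl : j ≠ l)
    (hil : i ≠ l) (hik : i ≠ k) (hkl : k ≠ l) (t u : K) {a b a' c : Γ} (ha : σ a = T i j t)
    (hb : σ b = T j l u) (ha' : σ a' = T i k (t * u)) (hc' : σ c = T k l 1) :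
    cm a b = cm a' c := by
  by_cases hjk : j = k
  · subst hjk
    obtain ⟨m, hm⟩ := exists_not_mem_of_card_lt ({i, j, l} : Finset I)
      (lt_of_le_of_lt Finset.card_le_three (by omega))
    simp only [Finset.mem_insert, Finset.mem_singleton, not_or] at hm
    obtain ⟨hmi, hmj, hml⟩ := hm
    obtain ⟨α, hα⟩ := hs (T i m (t * u))
    obtain ⟨γ, hγ⟩ := hs (T m l 1)
    have e1 := rel_four_distinct σ hc hs hC hij (Ne.symm hmi) hil (Ne.symm hmj) hjl hml t u ha hb hα hγ
    have hα' : σ α = T i m (t * u * 1) := by rw [mul_one]; exact hα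
    have e2 := rel_four_distinct σ hc hs hC hij (Ne.symm hmi) hil (Ne.symm hmj) hjl hml (t * u) 1 ha' hc'
      hα' hγ
    rw [e1, e2]
  · exact rel_four_distinct σ hc hs hC hij hik hil hjk hjl hkl t u ha hb ha' hc'

/-- The relation (R2) through the torus. -/
theorem rel_torus [Fintype K] (hK4 : Fintype.card K ≠ 4) (e' : K) (he' : e' ≠ 0) (he1 : e' ≠ 1)
    {i j l : I} (hij : i ≠ j) (hjl : j ≠ l) (hil : i ≠ l) (t u : K) {a b a' c : Γ}
    (ha : σ a = T i j t) (hb : σ b = T j l u) (ha' : σ a' = T i j (t * u)) (hc' : σ c = T j l 1) :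
    cm a b = cm a' c := by
  choose s hs' using hs
  have hs : Function.Surjective σ := fun g => ⟨s g, hs' g⟩
  obtain ⟨F, hF⟩ : ∃ F : K → K → Γ, ∀ t u, F t u = cm (s (T i j t)) (s (T j l u)) :=
    ⟨_, fun _ _ => rfl⟩
  have hσF : ∀ t u, σ (F t u) = T i l (t * u) := by
    intro t u
    rw [hF, map_cm, hs', hs', cm_T hij hjl hil]
  have hl : ∀ t t' u, F (t + t') u = F t u * F t' u := by
    intro t t' u
    have e : F (t + t') u = cm (s (T i j t) * s (T i j t')) (s (T j l u)) := by
      rw [hF]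
      apply cm_eq_of_map_eq σ hc _ rfl
      rw [map_mul, hs', hs', hs', T_add hij]
    have h1 : Commute (s (T i j t)) (F t' u) :=
      hC hij hil hij.symm hil t (t' * u) _ _ (hs' _) (hσF t' u)
    have h2 : Commute (F t' u) (F t u) :=
      hC hil hil hil.symm hil (t' * u) (t * u) _ _ (hσF t' u) (hσF t u)
    rw [e, cm_mul_left, ← hF, ← hF, h1.eq, mul_inv_cancel_right, h2.eq]
  have hr : ∀ t u u', F t (u + u') = F t u * F t u' := by
    intro t u u'
    have e : F t (u + u') = cm (s (T i j t)) (s (T j l u) * s (T j l u')) := by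
      rw [hF]
      apply cm_eq_of_map_eq σ hc rfl
      rw [map_mul, hs', hs', hs', T_add hjl]
    have h1 : Commute (s (T j l u)) (F t u') :=
      hC hjl hil hil.symm hjl u (t * u') _ _ (hs' _) (hσF t u')
    rw [e, cm_mul_right, ← hF, ← hF, h1.eq, mul_inv_cancel_right]
  have hcube : ∀ e : K, e ≠ 0 → ∀ t u, F (e ^ 3 * t) u = F t (e ^ 3 * u) := by
    intro e he
    obtain ⟨h, hh⟩ : ∃ h, h = SpecialLinearGroup.diag2n hij e he *
      SpecialLinearGroup.diag2n hjl.symm e he := ⟨_, rfl⟩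
    have c1 : ∀ t, h * T i j t * h⁻¹ = T i j (e ^ 3 * t) := by
      intro t; rw [hh]; exact torus3_ij hij hil hjl e he t
    have c2 : ∀ u, h * T i l u * h⁻¹ = T i l u := by
      intro u; rw [hh]; exact torus3_il hij hil hjl e he u
    have c3 : ∀ u, h * T j l u * h⁻¹ = T j l ((e ^ 3)⁻¹ * u) := by
      intro u; rw [hh]; exact torus3_jl hij hil hjl e he u
    have hLC : ∀ v, LiftsCommute σ (T i l v) h := by
      intro v
      refine liftsCommute_of_torus σ hc hs (T i l) (fun t u => T_add hil t u) h ?_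
        (SpecialLinearGroup.diag2n hij e' he') e' he1 ?_ ?_ v
      · intro v
        have := c2 v
        rw [mul_inv_eq_iff_eq_mul] at this
        exact this.symm
      · intro v
        rw [diag2n_conj hij e' he' hil v, wt_left, wt_other hil.symm hjl.symm]
        congr 1
        simp
      · rw [hh, mul_inv_eq_iff_eq_mul, ← mul_assoc, diag2n_commute hij hij e' e he' he, mul_assoc,
          diag2n_commute hij hjl.symm e' e he' he, mul_assoc]
    obtain ⟨η, hη⟩ := hs h
    have hinv : ∀ t u, F (e ^ 3 * t) ((e ^ 3)⁻¹ * u) = F t u := by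
      intro t u
      have e1 : σ (η * s (T i j t) * η⁻¹) = σ (s (T i j (e ^ 3 * t))) := by
        rw [map_mul, map_mul, map_inv, hη, hs', hs', c1]
      have e2 : σ (η * s (T j l u) * η⁻¹) = σ (s (T j l ((e ^ 3)⁻¹ * u))) := by
        rw [map_mul, map_mul, map_inv, hη, hs', hs', c3]
      have h1 : Commute (F t u) η := hLC (t * u) _ _ (hσF t u) hη
      rw [hF, ← cm_eq_of_map_eq σ hc e1 e2, ← conj_cm, ← hF, ← h1.eq, mul_inv_cancel_right]
    intro t u
    have he3 : e ^ 3 ≠ 0 := pow_ne_zero 3 he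
    have := hinv t (e ^ 3 * u)
    rw [← mul_assoc, inv_mul_cancel₀ he3, one_mul] at this
    exact this
  have key := Cfsg.Agent.Lib.Helper53.CubeSpan.balanced_of_cubes hK4 F hl hr hcube t u
  have e1 : cm a b = F t u := by
    rw [hF]
    exact cm_eq_of_map_eq σ hc (by rw [ha, hs']) (by rw [hb, hs'])
  have e2 : cm a' c = F (t * u) 1 := by
    rw [hF]
    exact cm_eq_of_map_eq σ hc (by rw [ha', hs']) (by rw [hc', hs'])
  rw [e1, e2, key]

end central

end Cfsg.Agent.Lib.Helper53.SLnLift
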