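import Mathlib
import Cfsg.Agent.Lib.Helper53.SteinbergSL2Iso

/-!
The block embedding `SL₂(K) → SL(I, K)` into the rows/columns `a, b` (helper53).
-/

set_option autoImplicit false
set_option linter.unusedSimpArgs false
set_option linter.unusedSectionVars false

namespace Cfsg.Agent.Lib.Helper53.StN

open Cfsg.Agent.Lib.Helper53.Steinberg Matrix

variable {K : Type*} [Field K] {I : Type*} [DecidableEq I] [Fintype I]

/-- Reindexing `I` as `{a, b} ⊕ rest`. -/
def idxEquiv {a b : I} (hab : a ≠ b) : Fin 2 ⊕ {i : I // i ≠ a ∧ i ≠ b} ≃ I where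
  toFun := Sum.elim ![a, b] Subtype.val
  invFun i := if ha : i = a then Sum.inl 0 else if hb : i = b then Sum.inl 1
    else Sum.inr ⟨i, ha, hb⟩
  left_inv := by
    rintro (x | ⟨i, hia, hib⟩)
    · fin_cases x
      · simp
      · simp [hab.symm]
    · simp [hia, hib]
  right_inv := by
    intro i
    by_cases ha : i = a
    · simp [ha]
    · by_cases hb : i = b
      · simp [hb, hab.symm]
      · simp [ha, hb]

theorem idxEquiv_symm_a {a b : I} (hab : a ≠ b) : (idxEquiv hab).symm a = Sum.inl 0 := by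
  simp [idxEquiv]

theorem idxEquiv_symm_b {a b : I} (hab : a ≠ b) : (idxEquiv hab).symm b = Sum.inl 1 := by
  simp [idxEquiv, hab.symm]

theorem idxEquiv_symm_c {a b c : I} (hab : a ≠ b) (hca : c ≠ a) (hcb : c ≠ b) :
    (idxEquiv hab).symm c = Sum.inr ⟨c, hca, hcb⟩ := by
  simp [idxEquiv, hca, hcb]

/-- The block embedding. -/
noncomputable def blk {a b : I} (hab : a ≠ b) :
    Matrix.SpecialLinearGroup (Fin 2) K →* Matrix.SpecialLinearGroup I K where
  toFun m := ⟨Matrix.reindex (idxEquiv hab) (idxEquiv hab) (Matrix.fromBlocks m.1 0 0 1), by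
    rw [Matrix.det_reindex_self, Matrix.det_fromBlocks_zero₁₂, m.2, Matrix.det_one, one_mul]⟩
  map_one' := by
    apply Subtype.ext
    simp [Matrix.fromBlocks_one]
  map_mul' m m' := by
    apply Subtype.ext
    show Matrix.reindex (idxEquiv hab) (idxEquiv hab) (Matrix.fromBlocks (m * m').1 0 0 1) =
      Matrix.reindex (idxEquiv hab) (idxEquiv hab) (Matrix.fromBlocks m.1 0 0 1) *
        Matrix.reindex (idxEquiv hab) (idxEquiv hab) (Matrix.fromBlocks m'.1 0 0 1)
    rw [Matrix.reindex_apply, Matrix.reindex_apply, Matrix.reindex_apply,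
      Matrix.submatrix_mul_equiv, Matrix.fromBlocks_multiply, Matrix.SpecialLinearGroup.coe_mul]
    simp

theorem blk_val {a b : I} (hab : a ≠ b) (m : Matrix.SpecialLinearGroup (Fin 2) K) :
    (blk hab m).1 = Matrix.reindex (idxEquiv hab) (idxEquiv hab) (Matrix.fromBlocks m.1 0 0 1) :=
  rfl

theorem blk_aa {a b : I} (hab : a ≠ b) (m : Matrix.SpecialLinearGroup (Fin 2) K) :
    (blk hab m).1 a a = m.1 0 0 := by
  simp [blk_val, idxEquiv_symm_a]

theorem blk_ab {a b : I} (hab : a ≠ b) (m : Matrix.SpecialLinearGroup (Fin 2) K) :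
    (blk hab m).1 a b = m.1 0 1 := by
  simp [blk_val, idxEquiv_symm_a, idxEquiv_symm_b]

theorem blk_ba {a b : I} (hab : a ≠ b) (m : Matrix.SpecialLinearGroup (Fin 2) K) :
    (blk hab m).1 b a = m.1 1 0 := by
  simp [blk_val, idxEquiv_symm_a, idxEquiv_symm_b]

theorem blk_bb {a b : I} (hab : a ≠ b) (m : Matrix.SpecialLinearGroup (Fin 2) K) :
    (blk hab m).1 b b = m.1 1 1 := by
  simp [blk_val, idxEquiv_symm_b]

theorem blk_ac {a b c : I} (hab : a ≠ b) (hca : c ≠ a) (hcb : c ≠ b)
    (m : Matrix.SpecialLinearGroup (Fin 2) K) : (blk hab m).1 a c = 0 := by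
  simp [blk_val, idxEquiv_symm_a, idxEquiv_symm_c hab hca hcb]

theorem blk_bc {a b c : I} (hab : a ≠ b) (hca : c ≠ a) (hcb : c ≠ b)
    (m : Matrix.SpecialLinearGroup (Fin 2) K) : (blk hab m).1 b c = 0 := by
  simp [blk_val, idxEquiv_symm_b, idxEquiv_symm_c hab hca hcb]

theorem blk_ca {a b c : I} (hab : a ≠ b) (hca : c ≠ a) (hcb : c ≠ b)
    (m : Matrix.SpecialLinearGroup (Fin 2) K) : (blk hab m).1 c a = 0 := by
  simp [blk_val, idxEquiv_symm_a, idxEquiv_symm_c hab hca hcb]

theorem blk_cb {a b c : I} (hab : a ≠ b) (hca : c ≠ a) (hcb : c ≠ b)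
    (m : Matrix.SpecialLinearGroup (Fin 2) K) : (blk hab m).1 c b = 0 := by
  simp [blk_val, idxEquiv_symm_b, idxEquiv_symm_c hab hca hcb]

theorem blk_cd {a b c e : I} (hab : a ≠ b) (hca : c ≠ a) (hcb : c ≠ b) (hea : e ≠ a)
    (heb : e ≠ b) (m : Matrix.SpecialLinearGroup (Fin 2) K) :
    (blk hab m).1 c e = if c = e then 1 else 0 := by
  simp [blk_val, idxEquiv_symm_c hab hca hcb, idxEquiv_symm_c hab hea heb, Matrix.one_apply]

theorem tv_apply {a b : I} (hab : a ≠ b) (t : K) (r s : I) :
    (Matrix.SpecialLinearGroup.transvection hab t).1 r s =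
      (if r = s then 1 else 0) + (if a = r ∧ b = s then t else 0) := by
  rw [Matrix.SpecialLinearGroup.transvection_coe, Matrix.add_apply, Matrix.one_apply,
    Matrix.single_apply]

theorem blk_xM {a b : I} (hab : a ≠ b) (t : K) :
    blk hab (xM t) = Matrix.SpecialLinearGroup.transvection hab t := by
  have hba := hab.symm
  apply Subtype.ext
  ext i j
  rw [tv_apply]
  by_cases hia : i = a
  · rw [hia]
    by_cases hja : j = a
    · rw [hja, blk_aa]; simp [xM_val, hab, hba]
    · by_cases hjb : j = b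
      · rw [hjb, blk_ab]; simp [xM_val, hab, hba]
      · rw [blk_ac hab hja hjb]; simp [Ne.symm hja, Ne.symm hjb]
  · by_cases hib : i = b
    · rw [hib]
      by_cases hja : j = a
      · rw [hja, blk_ba]; simp [xM_val, hab, hba]
      · by_cases hjb : j = b
        · rw [hjb, blk_bb]; simp [xM_val, hab, hba]
        · rw [blk_bc hab hja hjb]; simp [Ne.symm hja, Ne.symm hjb, hab, hba]
    · by_cases hja : j = a
      · rw [hja, blk_ca hab hia hib]; simp [hia, Ne.symm hia]
      · by_cases hjb : j = b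
        · rw [hjb, blk_cb hab hia hib]; simp [hib, Ne.symm hia]
        · rw [blk_cd hab hia hib hja hjb]; simp [Ne.symm hia]

theorem blk_yM {a b : I} (hab : a ≠ b) (t : K) :
    blk hab (yM t) = Matrix.SpecialLinearGroup.transvection hab.symm t := by
  have hba := hab.symm
  apply Subtype.ext
  ext i j
  rw [tv_apply]
  by_cases hia : i = a
  · rw [hia]
    by_cases hja : j = a
    · rw [hja, blk_aa]; simp [yM_val, hab, hba]
    · by_cases hjb : j = b
      · rw [hjb, blk_ab]; simp [yM_val, hab, hba]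
      · rw [blk_ac hab hja hjb]; simp [Ne.symm hja, Ne.symm hjb, hab, hba]
  · by_cases hib : i = b
    · rw [hib]
      by_cases hja : j = a
      · rw [hja, blk_ba]; simp [yM_val, hab, hba]
      · by_cases hjb : j = b
        · rw [hjb, blk_bb]; simp [yM_val, hab, hba]
        · rw [blk_bc hab hja hjb]; simp [Ne.symm hja, Ne.symm hjb]
    · by_cases hja : j = a
      · rw [hja, blk_ca hab hia hib]; simp [hia, Ne.symm hib]
      · by_cases hjb : j = b
        · rw [hjb, blk_cb hab hia hib]; simp [hib, Ne.symm hib]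
        · rw [blk_cd hab hia hib hja hjb]; simp [Ne.symm hib]

theorem blk_injective {a b : I} (hab : a ≠ b) :
    Function.Injective (blk (K := K) hab) := by
  intro m m' h
  apply sl2ext
  · rw [← blk_aa hab, ← blk_aa hab m', h]
  · rw [← blk_ab hab, ← blk_ab hab m', h]
  · rw [← blk_ba hab, ← blk_ba hab m', h]
  · rw [← blk_bb hab, ← blk_bb hab m', h]

end Cfsg.Agent.Lib.Helper53.StN
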