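import Mathlib

/-!
Generic group-theoretic helper lemmas for the Steinberg presentation development (helper53):
closure induction for inverse-closed generating sets, conjugation of closures, products of
commuting subgroups.
-/

set_option autoImplicit false

namespace Cfsg.Agent.Lib.Helper53.StN

variable {Γ : Type*} [Group Γ]

/-- Induction on the closure of an inverse-closed set: only generators, `1` and products. -/
theorem closure_induction_inv {A : Set Γ} (hA : ∀ x ∈ A, x⁻¹ ∈ A) {p : Γ → Prop}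
    (hgen : ∀ x ∈ A, p x) (hone : p 1) (hmul : ∀ x y, p x → p y → p (x * y))
    {g : Γ} (hg : g ∈ Subgroup.closure A) : p g := by
  have key : ∀ x ∈ Submonoid.closure (A ∪ A⁻¹), p x := by
    intro x hx
    induction hx using Submonoid.closure_induction with
    | mem x hx =>
      rcases hx with hx | hx
      · exact hgen x hx
      · have := hgen _ (hA _ hx)
        rw [inv_inv] at this
        exact this
    | one => exact hone
    | mul x y _ _ hx hy => exact hmul x y hx hy
  apply key
  rw [← Subgroup.closure_toSubmonoid]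
  exact hg

/-- If `g` conjugates the generators into `H`, it conjugates the closure into `H`. -/
theorem conj_mem_of_gens {A : Set Γ} {H : Subgroup Γ} (g : Γ)
    (h : ∀ x ∈ A, g * x * g⁻¹ ∈ H) {x : Γ} (hx : x ∈ Subgroup.closure A) :
    g * x * g⁻¹ ∈ H := by
  have hle : Subgroup.closure A ≤ H.comap (MulAut.conj g).toMonoidHom := by
    rw [Subgroup.closure_le]
    intro y hy
    show (MulAut.conj g) y ∈ H
    rw [MulAut.conj_apply]
    exact h y hy
  have := hle hx
  rw [Subgroup.mem_comap] at this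
  simpa [MulAut.conj_apply] using this

/-- If the generators `B` (inverse-closed) conjugate the generators `A` into `closure A`,
then `closure B` normalizes `closure A`. -/
theorem normalizes_of_gens {A B : Set Γ} (hB : ∀ g ∈ B, g⁻¹ ∈ B)
    (h : ∀ g ∈ B, ∀ x ∈ A, g * x * g⁻¹ ∈ Subgroup.closure A) {g : Γ}
    (hg : g ∈ Subgroup.closure B) {x : Γ} (hx : x ∈ Subgroup.closure A) :
    g * x * g⁻¹ ∈ Subgroup.closure A := by
  revert x
  refine closure_induction_inv hB (p := fun g => ∀ {x}, x ∈ Subgroup.closure A →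
    g * x * g⁻¹ ∈ Subgroup.closure A) ?_ ?_ ?_ hg
  · intro g hg x hx
    exact conj_mem_of_gens g (h g hg) hx
  · intro x hx
    simpa using hx
  · intro g₁ g₂ h1 h2 x hx
    have := h1 (h2 hx)
    have e : g₁ * g₂ * x * (g₁ * g₂)⁻¹ = g₁ * (g₂ * x * g₂⁻¹) * g₁⁻¹ := by group
    rw [e]
    exact this

/-- An element commuting with the generators commutes with the closure. -/
theorem commute_of_gens {A : Set Γ} (y : Γ) (h : ∀ x ∈ A, y * x = x * y) {x : Γ}
    (hx : x ∈ Subgroup.closure A) : y * x = x * y := by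
  have hle : Subgroup.closure A ≤ Subgroup.centralizer {y} := by
    rw [Subgroup.closure_le]
    intro z hz
    rw [SetLike.mem_coe, Subgroup.mem_centralizer_iff]
    intro w hw
    rw [Set.mem_singleton_iff] at hw
    subst hw
    exact h z hz
  have := Subgroup.mem_centralizer_iff.mp (hle hx) y (Set.mem_singleton y)
  exact this

/-- Elements of the join of two elementwise commuting subgroups are products. -/
theorem mem_sup_of_commute {A B : Subgroup Γ} (hc : ∀ x ∈ A, ∀ y ∈ B, x * y = y * x) {g : Γ}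
    (hg : g ∈ A ⊔ B) : ∃ x ∈ A, ∃ y ∈ B, g = x * y := by
  rw [Subgroup.sup_eq_closure] at hg
  refine closure_induction_inv (A := (A : Set Γ) ∪ B)
    (p := fun g => ∃ x ∈ A, ∃ y ∈ B, g = x * y) ?_ ?_ ?_ ?_ hg
  · rintro x (hx | hx)
    · exact Or.inl (inv_mem hx)
    · exact Or.inr (inv_mem hx)
  · rintro x (hx | hx)
    · exact ⟨x, hx, 1, one_mem _, by rw [mul_one]⟩
    · exact ⟨1, one_mem _, x, hx, by rw [one_mul]⟩
  · exact ⟨1, one_mem _, 1, one_mem _, by rw [mul_one]⟩
  · rintro _ _ ⟨x, hx, y, hy, rfl⟩ ⟨x', hx', y', hy', rfl⟩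
    refine ⟨x * x', mul_mem hx hx', y * y', mul_mem hy hy', ?_⟩
    have := hc x' hx' y hy
    calc x * y * (x' * y') = x * (y * x') * y' := by group
      _ = x * (x' * y) * y' := by rw [this]
      _ = x * x' * (y * y') := by group

/-- Elements of the join `A ⊔ B` are products `x * y` when `B` normalizes `A`. -/
theorem mem_sup_of_normalizes {A B : Subgroup Γ}
    (hn : ∀ y ∈ B, ∀ x ∈ A, y * x * y⁻¹ ∈ A) {g : Γ}
    (hg : g ∈ A ⊔ B) : ∃ x ∈ A, ∃ y ∈ B, g = x * y := by
  rw [Subgroup.sup_eq_closure] at hg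
  refine closure_induction_inv (A := (A : Set Γ) ∪ B)
    (p := fun g => ∃ x ∈ A, ∃ y ∈ B, g = x * y) ?_ ?_ ?_ ?_ hg
  · rintro x (hx | hx)
    · exact Or.inl (inv_mem hx)
    · exact Or.inr (inv_mem hx)
  · rintro x (hx | hx)
    · exact ⟨x, hx, 1, one_mem _, by rw [mul_one]⟩
    · exact ⟨1, one_mem _, x, hx, by rw [one_mul]⟩
  · exact ⟨1, one_mem _, 1, one_mem _, by rw [mul_one]⟩
  · rintro _ _ ⟨x, hx, y, hy, rfl⟩ ⟨x', hx', y', hy', rfl⟩
    refine ⟨x * (y * x' * y⁻¹), mul_mem hx (hn y hy x' hx'), y * y', mul_mem hy hy', ?_⟩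
    group

end Cfsg.Agent.Lib.Helper53.StN
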