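import Mathlib
import Cfsg.Agent.Lib.Helper53.StNBasic
import Cfsg.Agent.Lib.Helper53.StNBlock
import Cfsg.Agent.Lib.Helper53.StNGeneric

/-!
Rank-one subgroups inside a group with Steinberg relations of type `A` over a finite field
(helper53): the homomorphism from `SL₂(K)`, its compatibility with the block embedding, and
the rank-one identities (Bruhat-type rewriting, multiplicativity of the torus elements)
transported from `SL₂(K)`.
-/

set_option autoImplicit false
set_option linter.unusedSectionVars false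
set_option linter.unusedSimpArgs false
set_option linter.unnecessarySeqFocus false

namespace Cfsg.Agent.Lib.Helper53.StN

open Cfsg.Agent.Lib.Helper53.Steinberg Matrix

variable {K : Type*} [Field K] {I : Type*} [DecidableEq I] [Fintype I] {Γ : Type*} [Group Γ]
  {X : I → I → K → Γ}

/-- `π` sends the generators to the elementary matrices. -/
def IsRep (X : I → I → K → Γ) (π : Γ →* Matrix.SpecialLinearGroup I K) : Prop :=
  ∀ (i j : I) (h : i ≠ j) (t : K), π (X i j t) = Matrix.SpecialLinearGroup.transvection h t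

/-- Two homomorphisms from `SL₂(K)` agreeing on the elementary matrices are equal. -/
theorem hom_ext_sl2 {G : Type*} [Group G] (f g : Matrix.SpecialLinearGroup (Fin 2) K →* G)
    (hx : ∀ t, f (xM t) = g (xM t)) (hy : ∀ t, f (yM t) = g (yM t)) : f = g := by
  have hcl : Subgroup.closure (Set.range (xM : K → _) ∪ Set.range (yM : K → _)) = ⊤ := by
    rw [eq_top_iff]
    intro m _
    exact mem_closure_xM_yM m
  refine MonoidHom.eq_of_eqOn_dense hcl ?_
  rintro _ (⟨t, rfl⟩ | ⟨t, rfl⟩)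
  · exact hx t
  · exact hy t

theorem hhM_val {t : K} (ht : t ≠ 0) : (Hh (xM : K → _) yM t).1 = !![t, 0; 0, t⁻¹] := by
  have := map_Hh_val (MonoidHom.id (Matrix.SpecialLinearGroup (Fin 2) K)) (X := xM) (Y := yM)
    (fun _ => rfl) (fun _ => rfl) ht
  simpa using this

/-- `x(t) y(s) = y(s/d) h(d) x(t/d)` with `d = 1 + t s ≠ 0`. -/
theorem sl2_xy {t s : K} (hd : 1 + t * s ≠ 0) :
    xM t * yM s = yM (s / (1 + t * s)) * Hh xM yM (1 + t * s) * xM (t / (1 + t * s)) := by
  have hd' : 1 + s * t ≠ 0 := by rwa [mul_comm] at hd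
  apply sl2ext <;>
    simp [Matrix.SpecialLinearGroup.coe_mul, xM_val, yM_val, hhM_val hd] <;>
    field_simp <;> ring

/-- `x(s) w(t) = y(s⁻¹) h(-s/t) x(-t²/s)` for `s, t ≠ 0`. -/
theorem sl2_xw {s t : K} (hs : s ≠ 0) (ht : t ≠ 0) :
    xM s * W xM yM t = yM s⁻¹ * Hh xM yM (-s / t) * xM (-t ^ 2 / s) := by
  have hd : -s / t ≠ 0 := div_ne_zero (neg_ne_zero.mpr hs) ht
  apply sl2ext <;>
    simp [Matrix.SpecialLinearGroup.coe_mul, xM_val, yM_val, hhM_val hd, wM_val ht,
      Matrix.mul_fin_two] <;>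
    field_simp <;> ring

theorem sl2_hh_mul {t u : K} (ht : t ≠ 0) (hu : u ≠ 0) :
    Hh (xM : K → _) yM (t * u) = Hh xM yM t * Hh xM yM u := by
  apply sl2ext <;>
    simp [Matrix.SpecialLinearGroup.coe_mul, hhM_val ht, hhM_val hu,
      hhM_val (mul_ne_zero ht hu), Matrix.mul_fin_two] <;>
    field_simp

section phi

variable {a b : I} (φ : Matrix.SpecialLinearGroup (Fin 2) K →* Γ)
  (hφx : ∀ t, φ (xM t) = X a b t) (hφy : ∀ t, φ (yM t) = X b a t)

include hφx hφy

theorem phi_W (t : K) : φ (W xM yM t) = W (X a b) (X b a) t := by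
  unfold W
  rw [map_mul, map_mul, hφx, hφy]

theorem phi_Hh (t : K) : φ (Hh xM yM t) = Hh (X a b) (X b a) t := by
  unfold Hh
  rw [map_mul, phi_W φ hφx hφy, phi_W φ hφx hφy]

/-- `X_ab(t) X_ba(s) = X_ba(s/d) h(d) X_ab(t/d)`. -/
theorem xy_eq {t s : K} (hd : 1 + t * s ≠ 0) :
    X a b t * X b a s =
      X b a (s / (1 + t * s)) * Hh (X a b) (X b a) (1 + t * s) * X a b (t / (1 + t * s)) := by
  have h := congrArg φ (sl2_xy hd)
  rw [map_mul, map_mul, map_mul, hφx, hφy, hφy, hφx, phi_Hh φ hφx hφy] at h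
  exact h

theorem xw_eq {s t : K} (hs : s ≠ 0) (ht : t ≠ 0) :
    X a b s * W (X a b) (X b a) t =
      X b a s⁻¹ * Hh (X a b) (X b a) (-s / t) * X a b (-t ^ 2 / s) := by
  have h := congrArg φ (sl2_xw hs ht)
  rw [map_mul, map_mul, map_mul, hφx, hφy, hφx, phi_Hh φ hφx hφy, phi_W φ hφx hφy] at h
  exact h

theorem hh_mul {t u : K} (ht : t ≠ 0) (hu : u ≠ 0) :
    Hh (X a b) (X b a) (t * u) = Hh (X a b) (X b a) t * Hh (X a b) (X b a) u := by
  have h := congrArg φ (sl2_hh_mul ht hu)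
  rw [map_mul, phi_Hh φ hφx hφy, phi_Hh φ hφx hφy, phi_Hh φ hφx hφy] at h
  exact h

theorem pi_phi {π : Γ →* Matrix.SpecialLinearGroup I K} (hπ : IsRep X π) (hab : a ≠ b)
    (m : Matrix.SpecialLinearGroup (Fin 2) K) : π (φ m) = blk hab m := by
  have : π.comp φ = blk hab := by
    apply hom_ext_sl2
    · intro t
      rw [MonoidHom.comp_apply, hφx, hπ a b hab, blk_xM]
    · intro t
      rw [MonoidHom.comp_apply, hφy, hπ b a hab.symm, blk_yM]
  rw [← this, MonoidHom.comp_apply]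

theorem pi_W {π : Γ →* Matrix.SpecialLinearGroup I K} (hπ : IsRep X π) (hab : a ≠ b) (t : K) :
    π (W (X a b) (X b a) t) = blk hab (W xM yM t) := by
  rw [← phi_W φ hφx hφy, pi_phi φ hφx hφy hπ hab]

theorem pi_Hh {π : Γ →* Matrix.SpecialLinearGroup I K} (hπ : IsRep X π) (hab : a ≠ b) (t : K) :
    π (Hh (X a b) (X b a) t) = blk hab (Hh xM yM t) := by
  rw [← phi_Hh φ hφx hφy, pi_phi φ hφx hφy hπ hab]

end phi

end Cfsg.Agent.Lib.Helper53.StN
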