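import Mathlib
import Cfsg.Agent.Lib.Helper53.StNBasic
import Cfsg.Agent.Lib.Helper53.StNGeneric

/-!
Subgroups of a group with Steinberg relations of type `A` (helper53): the subgroup `GS X S`
generated by the root elements with both indices in `S`, the "column" group `VC X S a`
(generated by `X i a t`, `i ∈ S`) and the "row" group `VR X S a`.
-/

set_option autoImplicit false
set_option linter.unusedSectionVars false

namespace Cfsg.Agent.Lib.Helper53.StN

variable {K : Type*} [Field K] {I : Type*} [DecidableEq I] {Γ : Type*} [Group Γ]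
  {X : I → I → K → Γ}

/-- Root elements with both indices in `S`. -/
def gensS (X : I → I → K → Γ) (S : Finset I) : Set Γ :=
  {g | ∃ i ∈ S, ∃ j ∈ S, i ≠ j ∧ ∃ t : K, g = X i j t}

/-- The subgroup generated by the root elements with both indices in `S`. -/
def GS (X : I → I → K → Γ) (S : Finset I) : Subgroup Γ := Subgroup.closure (gensS X S)

/-- Root elements `X i a t`, `i ∈ S`. -/
def gensCol (X : I → I → K → Γ) (S : Finset I) (a : I) : Set Γ :=
  {g | ∃ i ∈ S, ∃ t : K, g = X i a t}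

def VC (X : I → I → K → Γ) (S : Finset I) (a : I) : Subgroup Γ :=
  Subgroup.closure (gensCol X S a)

/-- Root elements `X a j t`, `j ∈ S`. -/
def gensRow (X : I → I → K → Γ) (S : Finset I) (a : I) : Set Γ :=
  {g | ∃ j ∈ S, ∃ t : K, g = X a j t}

def VR (X : I → I → K → Γ) (S : Finset I) (a : I) : Subgroup Γ :=
  Subgroup.closure (gensRow X S a)

theorem gensS_inv (d : StData X) (S : Finset I) : ∀ x ∈ gensS X S, x⁻¹ ∈ gensS X S := by
  rintro _ ⟨i, hi, j, hj, hij, t, rfl⟩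
  exact ⟨i, hi, j, hj, hij, -t, d.inv hij t⟩

theorem gensCol_inv (d : StData X) {S : Finset I} {a : I} (ha : a ∉ S) :
    ∀ x ∈ gensCol X S a, x⁻¹ ∈ gensCol X S a := by
  rintro _ ⟨i, hi, t, rfl⟩
  have hia : i ≠ a := fun h => ha (h ▸ hi)
  exact ⟨i, hi, -t, d.inv hia t⟩

theorem gensRow_inv (d : StData X) {S : Finset I} {a : I} (ha : a ∉ S) :
    ∀ x ∈ gensRow X S a, x⁻¹ ∈ gensRow X S a := by
  rintro _ ⟨j, hj, t, rfl⟩
  have hja : a ≠ j := fun h => ha (h ▸ hj)
  exact ⟨j, hj, -t, d.inv hja t⟩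

theorem X_mem_GS {S : Finset I} {i j : I} (hi : i ∈ S) (hj : j ∈ S) (hij : i ≠ j) (t : K) :
    X i j t ∈ GS X S := Subgroup.subset_closure ⟨i, hi, j, hj, hij, t, rfl⟩

theorem X_mem_VC {S : Finset I} {i a : I} (hi : i ∈ S) (t : K) : X i a t ∈ VC X S a :=
  Subgroup.subset_closure ⟨i, hi, t, rfl⟩

theorem X_mem_VR {S : Finset I} {j a : I} (hj : j ∈ S) (t : K) : X a j t ∈ VR X S a :=
  Subgroup.subset_closure ⟨j, hj, t, rfl⟩

theorem GS_mono {S S' : Finset I} (h : S ⊆ S') : GS X S ≤ GS X S' := by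
  apply Subgroup.closure_mono
  rintro _ ⟨i, hi, j, hj, hij, t, rfl⟩
  exact ⟨i, h hi, j, h hj, hij, t, rfl⟩

theorem VC_mono {S S' : Finset I} (h : S ⊆ S') (a : I) : VC X S a ≤ VC X S' a := by
  apply Subgroup.closure_mono
  rintro _ ⟨i, hi, t, rfl⟩
  exact ⟨i, h hi, t, rfl⟩

theorem VR_mono {S S' : Finset I} (h : S ⊆ S') (a : I) : VR X S a ≤ VR X S' a := by
  apply Subgroup.closure_mono
  rintro _ ⟨i, hi, t, rfl⟩
  exact ⟨i, h hi, t, rfl⟩

/-- A column group with column index in `S'` and row indices in `S ⊆ S'` lies in `GS X S'`. -/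
theorem VC_le_GS {S S' : Finset I} (h : S ⊆ S') {b : I} (hb : b ∈ S') (hbS : b ∉ S) :
    VC X S b ≤ GS X S' := by
  rw [VC, Subgroup.closure_le]
  rintro _ ⟨i, hi, t, rfl⟩
  exact X_mem_GS (h hi) hb (fun e => hbS (e ▸ hi)) t

theorem VR_le_GS {S S' : Finset I} (h : S ⊆ S') {b : I} (hb : b ∈ S') (hbS : b ∉ S) :
    VR X S b ≤ GS X S' := by
  rw [VR, Subgroup.closure_le]
  rintro _ ⟨i, hi, t, rfl⟩
  exact X_mem_GS hb (h hi) (fun e => hbS (e ▸ hi)) t

/-- `GS X S` normalizes the column group `VC X S a` (`a ∉ S`). -/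
theorem GS_normalizes_VC (d : StData X) {S : Finset I} {a : I} (ha : a ∉ S) {g v : Γ}
    (hg : g ∈ GS X S) (hv : v ∈ VC X S a) : g * v * g⁻¹ ∈ VC X S a := by
  refine normalizes_of_gens (gensS_inv d S) ?_ hg hv
  rintro _ ⟨i, hi, j, hj, hij, t, rfl⟩ _ ⟨k, hk, u, rfl⟩
  have hia : i ≠ a := fun h => ha (h ▸ hi)
  have hja : j ≠ a := fun h => ha (h ▸ hj)
  have hka : k ≠ a := fun h => ha (h ▸ hk)
  by_cases hjk : j = k
  · subst hjk
    rw [d.conj_ab_bc hij hja hia]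
    exact mul_mem (X_mem_VC hi _) (X_mem_VC hj _)
  · rw [d.conj_ab_cd hij hka hjk hia]
    exact X_mem_VC hk _

/-- `GS X S` normalizes the row group `VR X S a` (`a ∉ S`). -/
theorem GS_normalizes_VR (d : StData X) {S : Finset I} {a : I} (ha : a ∉ S) {g u : Γ}
    (hg : g ∈ GS X S) (hu : u ∈ VR X S a) : g * u * g⁻¹ ∈ VR X S a := by
  refine normalizes_of_gens (gensS_inv d S) ?_ hg hu
  rintro _ ⟨i, hi, j, hj, hij, t, rfl⟩ _ ⟨k, hk, s, rfl⟩
  have hia : i ≠ a := fun h => ha (h ▸ hi)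
  have hja : j ≠ a := fun h => ha (h ▸ hj)
  have hka : k ≠ a := fun h => ha (h ▸ hk)
  by_cases hik : i = k
  · subst hik
    rw [d.conj_ab_ca hij hja hia]
    exact mul_mem (X_mem_VR hj _) (X_mem_VR hi _)
  · rw [d.conj_ab_cd hij hka.symm hja hik]
    exact X_mem_VR hk _

/-- The column group is abelian. -/
theorem VC_comm (d : StData X) {S : Finset I} {a : I} (ha : a ∉ S) {v v' : Γ}
    (hv : v ∈ VC X S a) (hv' : v' ∈ VC X S a) : v * v' = v' * v := by
  refine commute_of_gens v ?_ hv'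
  rintro _ ⟨k, hk, u, rfl⟩
  symm
  refine commute_of_gens _ ?_ hv
  rintro _ ⟨i, hi, t, rfl⟩
  have hia : i ≠ a := fun h => ha (h ▸ hi)
  have hka : k ≠ a := fun h => ha (h ▸ hk)
  exact d.comm hka hia hia.symm hka u t

theorem VR_comm (d : StData X) {S : Finset I} {a : I} (ha : a ∉ S) {v v' : Γ}
    (hv : v ∈ VR X S a) (hv' : v' ∈ VR X S a) : v * v' = v' * v := by
  refine commute_of_gens v ?_ hv'
  rintro _ ⟨k, hk, u, rfl⟩
  symm
  refine commute_of_gens _ ?_ hv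
  rintro _ ⟨i, hi, t, rfl⟩
  have hia : i ≠ a := fun h => ha (h ▸ hi)
  have hka : k ≠ a := fun h => ha (h ▸ hk)
  exact d.comm hka.symm hia.symm hka hia.symm u t

/-- Splitting off one generator of a column group. -/
theorem VC_insert (d : StData X) {S : Finset I} {a b : I} (ha : a ∉ S) (hba : b ≠ a) {v : Γ}
    (hv : v ∈ VC X (insert b S) a) : ∃ v₀ ∈ VC X S a, ∃ s : K, v = v₀ * X b a s := by
  have ha' : a ∉ insert b S := by
    rw [Finset.mem_insert]; rintro (h | h)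
    · exact hba h.symm
    · exact ha h
  refine closure_induction_inv (gensCol_inv d ha')
    (p := fun v => ∃ v₀ ∈ VC X S a, ∃ s : K, v = v₀ * X b a s) ?_ ?_ ?_ hv
  · rintro _ ⟨i, hi, t, rfl⟩
    rw [Finset.mem_insert] at hi
    rcases hi with rfl | hi
    · exact ⟨1, one_mem _, t, by rw [one_mul]⟩
    · exact ⟨X i a t, X_mem_VC hi t, 0, by rw [d.zero hba, mul_one]⟩
  · exact ⟨1, one_mem _, 0, by rw [d.zero hba, mul_one]⟩
  · rintro _ _ ⟨v₀, hv₀, s, rfl⟩ ⟨v₁, hv₁, s', rfl⟩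
    refine ⟨v₀ * v₁, mul_mem hv₀ hv₁, s + s', ?_⟩
    have hc : X b a s * v₁ = v₁ * X b a s :=
      VC_comm d ha' (X_mem_VC (Finset.mem_insert_self b S) s)
        (VC_mono (Finset.subset_insert b S) a hv₁)
    calc v₀ * X b a s * (v₁ * X b a s') = v₀ * (X b a s * v₁) * X b a s' := by group
      _ = v₀ * (v₁ * X b a s) * X b a s' := by rw [hc]
      _ = v₀ * v₁ * (X b a s * X b a s') := by group
      _ = v₀ * v₁ * X b a (s + s') := by rw [d.add hba]

theorem VR_insert (d : StData X) {S : Finset I} {a b : I} (ha : a ∉ S) (hba : b ≠ a) {v : Γ}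
    (hv : v ∈ VR X (insert b S) a) : ∃ v₀ ∈ VR X S a, ∃ s : K, v = v₀ * X a b s := by
  have ha' : a ∉ insert b S := by
    rw [Finset.mem_insert]; rintro (h | h)
    · exact hba h.symm
    · exact ha h
  refine closure_induction_inv (gensRow_inv d ha')
    (p := fun v => ∃ v₀ ∈ VR X S a, ∃ s : K, v = v₀ * X a b s) ?_ ?_ ?_ hv
  · rintro _ ⟨i, hi, t, rfl⟩
    rw [Finset.mem_insert] at hi
    rcases hi with rfl | hi
    · exact ⟨1, one_mem _, t, by rw [one_mul]⟩
    · exact ⟨X a i t, X_mem_VR hi t, 0, by rw [d.zero hba.symm, mul_one]⟩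
  · exact ⟨1, one_mem _, 0, by rw [d.zero hba.symm, mul_one]⟩
  · rintro _ _ ⟨v₀, hv₀, s, rfl⟩ ⟨v₁, hv₁, s', rfl⟩
    refine ⟨v₀ * v₁, mul_mem hv₀ hv₁, s + s', ?_⟩
    have hc : X a b s * v₁ = v₁ * X a b s :=
      VR_comm d ha' (X_mem_VR (Finset.mem_insert_self b S) s)
        (VR_mono (Finset.subset_insert b S) a hv₁)
    calc v₀ * X a b s * (v₁ * X a b s') = v₀ * (X a b s * v₁) * X a b s' := by group
      _ = v₀ * (v₁ * X a b s) * X a b s' := by rw [hc]
      _ = v₀ * v₁ * (X a b s * X a b s') := by group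
      _ = v₀ * v₁ * X a b (s + s') := by rw [d.add hba.symm]

end Cfsg.Agent.Lib.Helper53.StN
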