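import Mathlib
import Cfsg.Agent.Lib.Helper53.StNBasic
import Cfsg.Agent.Lib.Helper53.StNGeneric
import Cfsg.Agent.Lib.Helper53.StNRankOne
import Cfsg.Agent.Lib.Helper53.StNSubgroups

/-!
The two-double-coset decomposition of `GS X (insert a S)` with respect to the maximal
"parabolic" `P = VR X S a ⊔ GS X S ⊔ Tor` (helper53):
`GS X (insert a S) = VC X S a · P ∪ GS X S · w(t) · P`.
-/

set_option autoImplicit false
set_option linter.unusedSectionVars false

namespace Cfsg.Agent.Lib.Helper53.StN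

open Cfsg.Agent.Lib.Helper53.Steinberg

variable {K : Type*} [Field K] {I : Type*} [DecidableEq I] {Γ : Type*} [Group Γ]
  {X : I → I → K → Γ}

/-- The torus `{h_{ab}(t)}`. -/
def Tor (X : I → I → K → Γ) (a b : I) : Subgroup Γ :=
  Subgroup.closure {g | ∃ t : K, t ≠ 0 ∧ g = Hh (X a b) (X b a) t}

/-- The parabolic subgroup. -/
def Ppar (X : I → I → K → Γ) (S : Finset I) (a b : I) : Subgroup Γ :=
  VR X S a ⊔ GS X S ⊔ Tor X a b

theorem VR_le_Ppar (S : Finset I) (a b : I) : VR X S a ≤ Ppar X S a b :=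
  le_sup_of_le_left le_sup_left

theorem GS_le_Ppar (S : Finset I) (a b : I) : GS X S ≤ Ppar X S a b :=
  le_sup_of_le_left le_sup_right

theorem Hh_mem_Ppar (S : Finset I) (a b : I) {t : K} (ht : t ≠ 0) :
    Hh (X a b) (X b a) t ∈ Ppar X S a b :=
  (le_sup_right : Tor X a b ≤ Ppar X S a b) (Subgroup.subset_closure ⟨t, ht, rfl⟩)

/-- The union of the two double cosets. -/
def SetS (X : I → I → K → Γ) (S : Finset I) (a b : I) : Set Γ :=
  {g | (∃ v ∈ VC X S a, ∃ p ∈ Ppar X S a b, g = v * p) ∨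
    (∃ g' ∈ GS X S, ∃ t : K, t ≠ 0 ∧ ∃ p ∈ Ppar X S a b,
      g = g' * W (X a b) (X b a) t * p)}

section

variable (d : StData X) {S : Finset I} {a b c : I} (ha : a ∉ S) (hb : b ∈ S) (hc : c ∈ S)
  (hbc : b ≠ c)

include d ha hb hc hbc

theorem ne_ab : a ≠ b := fun h => ha (h ▸ hb)
theorem ne_ac : a ≠ c := fun h => ha (h ▸ hc)

theorem rk1 : Data (X a b) (X b a) :=
  d.rankOne (fun h => ha (h ▸ hb)) hbc (fun h => ha (h ▸ hc))

/-- `w(t)` conjugates the column group into the parabolic. -/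
theorem conjW_VC_mem {t : K} (ht : t ≠ 0) {v : Γ} (hv : v ∈ VC X S a) :
    W (X a b) (X b a) t * v * (W (X a b) (X b a) t)⁻¹ ∈ Ppar X S a b := by
  have hab : a ≠ b := fun h => ha (h ▸ hb)
  have hac : a ≠ c := fun h => ha (h ▸ hc)
  have dd := d.rankOne hab hbc hac
  refine conj_mem_of_gens _ ?_ hv
  rintro _ ⟨i, hi, s, rfl⟩
  have hia : i ≠ a := fun h => ha (h ▸ hi)
  by_cases hib : i = b
  · subst hib
    have h := dd.conjY ht s
    rw [MulAut.conj_apply] at h
    rw [h]
    exact VR_le_Ppar S a i (X_mem_VR hb _)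
  · rw [d.conjW_ca hab (Ne.symm hib) hia.symm ht]
    exact GS_le_Ppar S a b (X_mem_GS hi hb hib _)

theorem conjWinv_VC_mem {t : K} (ht : t ≠ 0) {v : Γ} (hv : v ∈ VC X S a) :
    (W (X a b) (X b a) t)⁻¹ * v * W (X a b) (X b a) t ∈ Ppar X S a b := by
  have hab : a ≠ b := fun h => ha (h ▸ hb)
  have hac : a ≠ c := fun h => ha (h ▸ hc)
  have dd := d.rankOne hab hbc hac
  have h := conjW_VC_mem d ha hb hc hbc (neg_ne_zero.mpr ht) hv
  rw [← dd.W_inv, inv_inv] at h
  exact h

/-- `w(t)` conjugates the reduced row group into `GS X S`. -/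
theorem conjWinv_VR_mem {t : K} (ht : t ≠ 0) {u : Γ} (hu : u ∈ VR X (S.erase b) a) :
    (W (X a b) (X b a) t)⁻¹ * u * W (X a b) (X b a) t ∈ GS X S := by
  have hab : a ≠ b := fun h => ha (h ▸ hb)
  have hac : a ≠ c := fun h => ha (h ▸ hc)
  have dd := d.rankOne hab hbc hac
  have key : W (X a b) (X b a) (-t) * u * (W (X a b) (X b a) (-t))⁻¹ ∈ GS X S := by
    refine conj_mem_of_gens _ ?_ hu
    rintro _ ⟨j, hj, s, rfl⟩
    have hjS : j ∈ S := Finset.mem_of_mem_erase hj
    have hjb : j ≠ b := Finset.ne_of_mem_erase hj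
    have hja : j ≠ a := fun h => ha (h ▸ hjS)
    rw [d.conjW_ac hab hjb.symm hja.symm (neg_ne_zero.mpr ht)]
    exact X_mem_GS hb hjS hjb.symm _
  rw [← dd.W_inv, inv_inv] at key
  exact key

/-- `X b a σ` conjugates the reduced row group into the parabolic. -/
theorem conjY_VR_mem (σ : K) {u : Γ} (hu : u ∈ VR X (S.erase b) a) :
    (X b a σ)⁻¹ * u * X b a σ ∈ Ppar X S a b := by
  have hab : a ≠ b := fun h => ha (h ▸ hb)
  have key : X b a (-σ) * u * (X b a (-σ))⁻¹ ∈ Ppar X S a b := by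
    refine conj_mem_of_gens _ ?_ hu
    rintro _ ⟨j, hj, s, rfl⟩
    have hjS : j ∈ S := Finset.mem_of_mem_erase hj
    have hjb : j ≠ b := Finset.ne_of_mem_erase hj
    have hja : j ≠ a := fun h => ha (h ▸ hjS)
    rw [d.conj_ab_bc hab.symm hja.symm hjb.symm]
    exact mul_mem (GS_le_Ppar S a b (X_mem_GS hb hjS hjb.symm _))
      (VR_le_Ppar S a b (X_mem_VR hjS _))
  rw [← d.inv hab.symm, inv_inv] at key
  exact key

/-- `X a b τ` conjugates the reduced column group `VC X (S.erase b) a` into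
`VC X (S.erase b) a · VC X (S.erase b) b`. -/
theorem conjX_VC_split (τ : K) {v : Γ} (hv : v ∈ VC X (S.erase b) a) :
    ∃ v' ∈ VC X (S.erase b) a, ∃ w' ∈ VC X (S.erase b) b,
      X a b τ * v * (X a b τ)⁻¹ = v' * w' ∧ v' * w' = w' * v' := by
  have hab : a ≠ b := fun h => ha (h ▸ hb)
  have hcomm : ∀ x ∈ VC X (S.erase b) a, ∀ y ∈ VC X (S.erase b) b, x * y = y * x := by
    intro x hx y hy
    refine commute_of_gens x ?_ hy
    rintro _ ⟨k, hk, u, rfl⟩
    symm
    refine commute_of_gens _ ?_ hx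
    rintro _ ⟨i, hi, s, rfl⟩
    have hiS : i ∈ S := Finset.mem_of_mem_erase hi
    have hib : i ≠ b := Finset.ne_of_mem_erase hi
    have hia : i ≠ a := fun h => ha (h ▸ hiS)
    have hkS : k ∈ S := Finset.mem_of_mem_erase hk
    have hkb : k ≠ b := Finset.ne_of_mem_erase hk
    have hka : k ≠ a := fun h => ha (h ▸ hkS)
    exact d.comm hkb hia hib.symm hka u s
  have hmem : X a b τ * v * (X a b τ)⁻¹ ∈ VC X (S.erase b) a ⊔ VC X (S.erase b) b := by
    refine conj_mem_of_gens _ ?_ hv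
    rintro _ ⟨i, hi, s, rfl⟩
    have hiS : i ∈ S := Finset.mem_of_mem_erase hi
    have hib : i ≠ b := Finset.ne_of_mem_erase hi
    have hia : i ≠ a := fun h => ha (h ▸ hiS)
    rw [d.conj_ab_ca hab hib.symm hia.symm]
    exact mul_mem ((le_sup_right : VC X (S.erase b) b ≤ _) (X_mem_VC hi _))
      ((le_sup_left : VC X (S.erase b) a ≤ _) (X_mem_VC hi _))
  obtain ⟨x, hx, y, hy, hxy⟩ := mem_sup_of_commute hcomm hmem
  exact ⟨x, hx, y, hy, hxy, hcomm x hx y hy⟩

/-- Left multiplication by `GS X S` preserves the union of the two double cosets. -/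
theorem SetS_mul_GS {g₁ : Γ} (hg₁ : g₁ ∈ GS X S) {s : Γ} (hs : s ∈ SetS X S a b) :
    g₁ * s ∈ SetS X S a b := by
  rcases hs with ⟨v, hv, p, hp, rfl⟩ | ⟨g', hg', t, ht, p, hp, rfl⟩
  · left
    refine ⟨g₁ * v * g₁⁻¹, GS_normalizes_VC d ha hg₁ hv, g₁ * p,
      mul_mem (GS_le_Ppar S a b hg₁) hp, ?_⟩
    group
  · right
    refine ⟨g₁ * g', mul_mem hg₁ hg', t, ht, p, hp, ?_⟩
    group

/-- Left multiplication by the column group preserves the union of the two double cosets. -/
theorem SetS_mul_VC {y : Γ} (hy : y ∈ VC X S a) {s : Γ} (hs : s ∈ SetS X S a b) :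
    y * s ∈ SetS X S a b := by
  rcases hs with ⟨v, hv, p, hp, rfl⟩ | ⟨g', hg', t, ht, p, hp, rfl⟩
  · left
    exact ⟨y * v, mul_mem hy hv, p, hp, by group⟩
  · right
    have hv' : g'⁻¹ * y * g'⁻¹⁻¹ ∈ VC X S a := GS_normalizes_VC d ha (inv_mem hg') hy
    have hq := conjWinv_VC_mem d ha hb hc hbc ht hv'
    refine ⟨g', hg', t, ht, _, mul_mem hq hp, ?_⟩
    group

end

section

variable [Finite K] [Fintype I] (d : StData X) {S : Finset I} {a b c : I} (ha : a ∉ S) (hb : b ∈ S)
  (hc : c ∈ S) (hbc : b ≠ c)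

include d ha hb hc hbc

/-- Left multiplication by `X a b τ` preserves the union of the two double cosets. -/
theorem SetS_mul_X (τ : K) {s : Γ} (hs : s ∈ SetS X S a b) :
    X a b τ * s ∈ SetS X S a b := by
  have hab : a ≠ b := fun h => ha (h ▸ hb)
  have hac : a ≠ c := fun h => ha (h ▸ hc)
  have dd := d.rankOne hab hbc hac
  obtain ⟨φ, hφx, hφy⟩ := dd.exists_hom
  have hSeq : insert b (S.erase b) = S := Finset.insert_erase hb
  have haE : a ∉ S.erase b := fun h => ha (Finset.mem_of_mem_erase h)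
  have hsub : S.erase b ⊆ S := Finset.erase_subset b S
  rcases hs with ⟨v, hv, p, hp, rfl⟩ | ⟨g', hg', t, ht, p, hp, rfl⟩
  · -- first double coset
    rw [← hSeq] at hv
    obtain ⟨v₀, hv₀, σ, rfl⟩ := VC_insert d haE hab.symm hv
    obtain ⟨v', hv', w', hw', hconj, hcomm⟩ := conjX_VC_split d ha hb hc hbc τ hv₀
    have hw'G : w' ∈ GS X S := VC_le_GS hsub hb (Finset.notMem_erase b S) hw'
    have hv'V : v' ∈ VC X S a := VC_mono hsub a hv'
    by_cases hd : 1 + τ * σ = 0
    · -- `X a b τ * X b a σ = w(τ) X a b (-τ)`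
      have hτ : τ ≠ 0 := by
        intro h; rw [h, zero_mul, add_zero] at hd; exact one_ne_zero hd
      have hσ : σ = -τ⁻¹ := by
        have : τ * σ = -1 := by linear_combination hd
        field_simp
        linear_combination this
      have hW : X a b τ * X b a σ = W (X a b) (X b a) τ * X a b (-τ) := by
        unfold W
        rw [hσ, mul_assoc, d.add hab, add_neg_cancel, d.zero hab, mul_one]
      right
      have hq := conjWinv_VC_mem d ha hb hc hbc hτ hv'V
      refine ⟨w', hw'G, τ, hτ, _, mul_mem hq (mul_mem (VR_le_Ppar S a b (X_mem_VR hb (-τ))) hp), ?_⟩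
      calc X a b τ * (v₀ * X b a σ * p)
          = (X a b τ * v₀ * (X a b τ)⁻¹) * (X a b τ * X b a σ) * p := by group
        _ = (w' * v') * (W (X a b) (X b a) τ * X a b (-τ)) * p := by rw [hconj, hcomm, hW]
        _ = w' * W (X a b) (X b a) τ * ((W (X a b) (X b a) τ)⁻¹ * v' * W (X a b) (X b a) τ *
              (X a b (-τ) * p)) := by group
    · -- `X a b τ * X b a σ = X b a σ' h(d) X a b τ'`
      have hxy := xy_eq φ hφx hφy hd
      left
      have hy' : w' * X b a (σ / (1 + τ * σ)) * w'⁻¹ ∈ VC X S a :=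
        GS_normalizes_VC d ha hw'G (X_mem_VC hb _)
      refine ⟨v' * (w' * X b a (σ / (1 + τ * σ)) * w'⁻¹), mul_mem hv'V hy',
        w' * (Hh (X a b) (X b a) (1 + τ * σ) * X a b (τ / (1 + τ * σ)) * p), ?_, ?_⟩
      · exact mul_mem (GS_le_Ppar S a b hw'G) (mul_mem (mul_mem (Hh_mem_Ppar S a b hd)
          (VR_le_Ppar S a b (X_mem_VR hb _))) hp)
      · calc X a b τ * (v₀ * X b a σ * p)
            = (X a b τ * v₀ * (X a b τ)⁻¹) * (X a b τ * X b a σ) * p := by group
          _ = (v' * w') * (X b a (σ / (1 + τ * σ)) * Hh (X a b) (X b a) (1 + τ * σ) *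
                X a b (τ / (1 + τ * σ))) * p := by rw [hconj, hxy]
          _ = v' * (w' * X b a (σ / (1 + τ * σ)) * w'⁻¹) *
              (w' * (Hh (X a b) (X b a) (1 + τ * σ) * X a b (τ / (1 + τ * σ)) * p)) := by group
  · -- second double coset
    have hu : g'⁻¹ * X a b τ * g'⁻¹⁻¹ ∈ VR X S a :=
      GS_normalizes_VR d ha (inv_mem hg') (X_mem_VR hb τ)
    rw [← hSeq] at hu
    obtain ⟨u₀, hu₀, s', hus⟩ := VR_insert d haE hab.symm hu
    have hxg : X a b τ * g' = g' * (u₀ * X a b s') := by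
      rw [← hus]; group
    by_cases hs' : s' = 0
    · right
      have hq := conjWinv_VR_mem d ha hb hc hbc ht hu₀
      refine ⟨g', hg', t, ht, _, mul_mem (GS_le_Ppar S a b hq) hp, ?_⟩
      calc X a b τ * (g' * W (X a b) (X b a) t * p)
          = (X a b τ * g') * W (X a b) (X b a) t * p := by group
        _ = g' * (u₀ * X a b s') * W (X a b) (X b a) t * p := by rw [hxg]
        _ = g' * W (X a b) (X b a) t * ((W (X a b) (X b a) t)⁻¹ * u₀ * W (X a b) (X b a) t * p) := by
            rw [hs', d.zero hab]; group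
    · left
      have hxw := xw_eq φ hφx hφy hs' ht
      have hq := conjY_VR_mem d ha hb hc hbc s'⁻¹ hu₀
      have hy' : g' * X b a s'⁻¹ * g'⁻¹ ∈ VC X S a :=
        GS_normalizes_VC d ha hg' (X_mem_VC hb _)
      have hd : -s' / t ≠ 0 := div_ne_zero (neg_ne_zero.mpr hs') ht
      refine ⟨g' * X b a s'⁻¹ * g'⁻¹, hy',
        g' * ((X b a s'⁻¹)⁻¹ * u₀ * X b a s'⁻¹ * (Hh (X a b) (X b a) (-s' / t) *
          X a b (-t ^ 2 / s') * p)), ?_, ?_⟩
      · exact mul_mem (GS_le_Ppar S a b hg') (mul_mem hq (mul_mem (mul_mem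
          (Hh_mem_Ppar S a b hd) (VR_le_Ppar S a b (X_mem_VR hb _))) hp))
      · calc X a b τ * (g' * W (X a b) (X b a) t * p)
            = (X a b τ * g') * W (X a b) (X b a) t * p := by group
          _ = g' * u₀ * (X a b s' * W (X a b) (X b a) t) * p := by rw [hxg]; group
          _ = g' * u₀ * (X b a s'⁻¹ * Hh (X a b) (X b a) (-s' / t) * X a b (-t ^ 2 / s')) * p := by
              rw [hxw]
          _ = g' * X b a s'⁻¹ * g'⁻¹ * (g' * ((X b a s'⁻¹)⁻¹ * u₀ * X b a s'⁻¹ *
                (Hh (X a b) (X b a) (-s' / t) * X a b (-t ^ 2 / s') * p))) := by group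

/-- The two-double-coset decomposition. -/
theorem mem_SetS {g : Γ} (hg : g ∈ GS X (insert a S)) : g ∈ SetS X S a b := by
  have hab : a ≠ b := fun h => ha (h ▸ hb)
  have h1 : (1 : Γ) ∈ SetS X S a b := Or.inl ⟨1, one_mem _, 1, one_mem _, by rw [mul_one]⟩
  have key : ∀ s ∈ SetS X S a b, g * s ∈ SetS X S a b := by
    refine closure_induction_inv (gensS_inv d (insert a S))
      (p := fun g => ∀ s ∈ SetS X S a b, g * s ∈ SetS X S a b) ?_ ?_ ?_ hg
    · rintro _ ⟨i, hi, j, hj, hij, t, rfl⟩ s hs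
      rw [Finset.mem_insert] at hi hj
      rcases hi with rfl | hi
      · rcases hj with rfl | hj
        · exact absurd rfl hij
        · by_cases hjb : j = b
          · subst hjb
            exact SetS_mul_X d ha hb hc hbc t hs
          · have hrel := d.rel hab (Ne.symm hjb) hij t 1
            rw [mul_one] at hrel
            rw [← hrel, d.inv hab, d.inv (Ne.symm hjb)]
            have e : X i b t * X b j 1 * X i b (-t) * X b j (-1) * s =
                X i b t * (X b j 1 * (X i b (-t) * (X b j (-1) * s))) := by group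
            rw [e]
            apply SetS_mul_X d ha hb hc hbc
            apply SetS_mul_GS d ha hb hc hbc (X_mem_GS hb hj (Ne.symm hjb) _)
            apply SetS_mul_X d ha hb hc hbc
            exact SetS_mul_GS d ha hb hc hbc (X_mem_GS hb hj (Ne.symm hjb) _) hs
      · rcases hj with rfl | hj
        · exact SetS_mul_VC d ha hb hc hbc (X_mem_VC hi t) hs
        · exact SetS_mul_GS d ha hb hc hbc (X_mem_GS hi hj hij t) hs
    · intro s hs
      rwa [one_mul]
    · intro x y hx hy s hs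
      rw [mul_assoc]
      exact hx _ (hy s hs)
  have := key 1 h1
  rwa [mul_one] at this

end

end Cfsg.Agent.Lib.Helper53.StN
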