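import Mathlib
import Cfsg.Agent.Lib.Helper53.StNBasic
import Cfsg.Agent.Lib.Helper53.StNGeneric
import Cfsg.Agent.Lib.Helper53.StNBlock
import Cfsg.Agent.Lib.Helper53.StNRankOne
import Cfsg.Agent.Lib.Helper53.StNSubgroups

/-!
Shapes of the matrices `π g` for `g` in the subgroups `GS`, `VC`, `VR` (helper53), and the
injectivity of `π` on the column and row groups.
-/

set_option autoImplicit false
set_option linter.unusedSectionVars false
set_option linter.unusedSimpArgs false

namespace Cfsg.Agent.Lib.Helper53.StN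

open Cfsg.Agent.Lib.Helper53.Steinberg Matrix

variable {K : Type*} [Field K] {I : Type*} [DecidableEq I] [Fintype I] {Γ : Type*} [Group Γ]
  {X : I → I → K → Γ}

/-- Row `a` and column `a` are trivial. -/
def BlockTriv (a : I) (M : Matrix I I K) : Prop :=
  (∀ c, M a c = if a = c then 1 else 0) ∧ (∀ r, M r a = if r = a then 1 else 0)

/-- `M` is the identity except in the positions `(r, a)`, `r ∈ A`. -/
def SuppCol (A : Finset I) (a : I) (M : Matrix I I K) : Prop :=
  ∀ r c, ¬(r ∈ A ∧ c = a) → M r c = if r = c then 1 else 0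

/-- `M` is the identity except in the positions `(a, c)`, `c ∈ A`. -/
def SuppRow (A : Finset I) (a : I) (M : Matrix I I K) : Prop :=
  ∀ r c, ¬(r = a ∧ c ∈ A) → M r c = if r = c then 1 else 0

/-- Column `a` is a multiple of `e_a`. -/
def ColLine (a : I) (M : Matrix I I K) : Prop := ∀ r, r ≠ a → M r a = 0

theorem mul_apply_of_row {M N : Matrix I I K} {r : I}
    (h : ∀ k, M r k = if r = k then 1 else 0) (c : I) : (M * N) r c = N r c := by
  rw [Matrix.mul_apply]
  simp [h]

theorem mul_apply_of_col {M N : Matrix I I K} {c : I}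
    (h : ∀ k, N k c = if k = c then 1 else 0) (r : I) : (M * N) r c = M r c := by
  rw [Matrix.mul_apply]
  simp [h]

theorem BlockTriv.mul {a : I} {M N : Matrix I I K} (hM : BlockTriv a M) (hN : BlockTriv a N) :
    BlockTriv a (M * N) := by
  constructor
  · intro c
    rw [mul_apply_of_row hM.1, hN.1]
  · intro r
    rw [mul_apply_of_col hN.2, hM.2]

theorem BlockTriv.one (a : I) : BlockTriv a (1 : Matrix I I K) := by
  constructor
  · intro c; rw [Matrix.one_apply]
  · intro r; rw [Matrix.one_apply]

theorem SuppCol.mul {A : Finset I} {a : I} {M N : Matrix I I K} (hM : SuppCol A a M)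
    (hN : SuppCol A a N) : SuppCol A a (M * N) := by
  intro r c hrc
  by_cases hr : r ∈ A
  · have hca : c ≠ a := fun h => hrc ⟨hr, h⟩
    rw [mul_apply_of_col (fun k => hN k c (fun h => hca h.2)), hM r c hrc]
  · rw [mul_apply_of_row (fun k => hM r k (fun h => hr h.1)), hN r c hrc]

theorem SuppCol.one (A : Finset I) (a : I) : SuppCol A a (1 : Matrix I I K) := by
  intro r c _; rw [Matrix.one_apply]

theorem SuppRow.mul {A : Finset I} {a : I} {M N : Matrix I I K} (hM : SuppRow A a M)
    (hN : SuppRow A a N) : SuppRow A a (M * N) := by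
  intro r c hrc
  by_cases hr : r = a
  · have hcA : c ∉ A := fun h => hrc ⟨hr, h⟩
    rw [mul_apply_of_col (fun k => hN k c (fun h => hcA h.2)), hM r c hrc]
  · rw [mul_apply_of_row (fun k => hM r k (fun h => hr h.1)), hN r c hrc]

theorem SuppRow.one (A : Finset I) (a : I) : SuppRow A a (1 : Matrix I I K) := by
  intro r c _; rw [Matrix.one_apply]

theorem ColLine.mul {a : I} {M N : Matrix I I K} (hM : ColLine a M) (hN : ColLine a N) :
    ColLine a (M * N) := by
  intro r hr
  rw [Matrix.mul_apply]
  apply Finset.sum_eq_zero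
  intro k _
  by_cases hk : k = a
  · rw [hk, hM r hr, zero_mul]
  · rw [hN k hk, mul_zero]

theorem ColLine.one (a : I) : ColLine a (1 : Matrix I I K) := by
  intro r hr; rw [Matrix.one_apply, if_neg hr]

/-- On matrices stabilizing the line `⟨e_a⟩` the `(a, a)` entry is multiplicative. -/
theorem ColLine.mul_apply_aa {a : I} {M N : Matrix I I K} (hN : ColLine a N) :
    (M * N) a a = M a a * N a a := by
  rw [Matrix.mul_apply]
  apply Finset.sum_eq_single a
  · intro k _ hk
    rw [hN k hk, mul_zero]
  · intro h; exact absurd (Finset.mem_univ a) h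

section rep

variable {π : Γ →* Matrix.SpecialLinearGroup I K} (hπ : IsRep X π) (d : StData X)

include hπ d

theorem GS_blockTriv {S : Finset I} {a : I} (ha : a ∉ S) {g : Γ} (hg : g ∈ GS X S) :
    BlockTriv a (π g).1 := by
  refine closure_induction_inv (gensS_inv d S) (p := fun g => BlockTriv a (π g).1) ?_ ?_ ?_ hg
  · rintro _ ⟨i, hi, j, hj, hij, t, rfl⟩
    have hia : i ≠ a := fun h => ha (h ▸ hi)
    have hja : j ≠ a := fun h => ha (h ▸ hj)
    rw [hπ i j hij]
    constructor
    · intro c
      rw [tv_apply]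
      simp [hia]
    · intro r
      rw [tv_apply]
      simp [hja]
  · rw [map_one]; exact BlockTriv.one a
  · intro x y hx hy
    rw [map_mul, Matrix.SpecialLinearGroup.coe_mul]
    exact hx.mul hy

theorem VC_suppCol {S : Finset I} {a : I} (ha : a ∉ S) {g : Γ} (hg : g ∈ VC X S a) :
    SuppCol S a (π g).1 := by
  refine closure_induction_inv (gensCol_inv d ha) (p := fun g => SuppCol S a (π g).1) ?_ ?_ ?_ hg
  · rintro _ ⟨i, hi, t, rfl⟩
    have hia : i ≠ a := fun h => ha (h ▸ hi)
    rw [hπ i a hia]
    intro r c hrc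
    rw [tv_apply]
    have : ¬(i = r ∧ a = c) := fun h => hrc ⟨h.1 ▸ hi, h.2.symm⟩
    simp [this]
  · rw [map_one]; exact SuppCol.one S a
  · intro x y hx hy
    rw [map_mul, Matrix.SpecialLinearGroup.coe_mul]
    exact hx.mul hy

theorem VR_suppRow {S : Finset I} {a : I} (ha : a ∉ S) {g : Γ} (hg : g ∈ VR X S a) :
    SuppRow S a (π g).1 := by
  refine closure_induction_inv (gensRow_inv d ha) (p := fun g => SuppRow S a (π g).1) ?_ ?_ ?_ hg
  · rintro _ ⟨j, hj, t, rfl⟩
    have hja : a ≠ j := fun h => ha (h ▸ hj)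
    rw [hπ a j hja]
    intro r c hrc
    rw [tv_apply]
    have : ¬(a = r ∧ j = c) := fun h => hrc ⟨h.1.symm, h.2 ▸ hj⟩
    simp [this]
  · rw [map_one]; exact SuppRow.one S a
  · intro x y hx hy
    rw [map_mul, Matrix.SpecialLinearGroup.coe_mul]
    exact hx.mul hy

/-- `π` detects the identity on the column group. -/
theorem VC_eq_one {a : I} : ∀ {S : Finset I}, a ∉ S → ∀ {v : Γ}, v ∈ VC X S a →
    (∀ i ∈ S, (π v).1 i a = 0) → v = 1 := by
  intro S
  induction S using Finset.induction_on with
  | empty =>
    intro _ v hv _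
    have : VC X (∅ : Finset I) a = ⊥ := by
      rw [VC, Subgroup.closure_eq_bot_iff]
      rintro _ ⟨i, hi, _⟩
      exact absurd hi (Finset.notMem_empty i)
    rw [this, Subgroup.mem_bot] at hv
    exact hv
  | insert b S hbS ih =>
    intro ha v hv hzero
    have hba : b ≠ a := fun h => ha (h ▸ Finset.mem_insert_self b S)
    have haS : a ∉ S := fun h => ha (Finset.mem_insert_of_mem h)
    obtain ⟨v₀, hv₀, s, rfl⟩ := VC_insert d haS hba hv
    have hshape := VC_suppCol hπ d haS hv₀
    have hentry : ∀ i, (π (v₀ * X b a s)).1 i a = (π v₀).1 i a + s * (π v₀).1 i b := by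
      intro i
      rw [map_mul, Matrix.SpecialLinearGroup.coe_mul, hπ b a hba]
      exact Matrix.mul_transvection_apply_same b a i s _
    have hs : s = 0 := by
      have h1 := hzero b (Finset.mem_insert_self b S)
      rw [hentry, hshape b a (fun h => hbS h.1), hshape b b (fun h => hbS h.1)] at h1
      simpa [hba] using h1
    rw [hs, d.zero hba, mul_one]
    apply ih haS hv₀
    intro i hi
    have h1 := hzero i (Finset.mem_insert_of_mem hi)
    rw [hentry, hs, zero_mul, add_zero] at h1
    exact h1

/-- `π` detects the identity on the row group. -/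
theorem VR_eq_one {a : I} : ∀ {S : Finset I}, a ∉ S → ∀ {v : Γ}, v ∈ VR X S a →
    (∀ j ∈ S, (π v).1 a j = 0) → v = 1 := by
  intro S
  induction S using Finset.induction_on with
  | empty =>
    intro _ v hv _
    have : VR X (∅ : Finset I) a = ⊥ := by
      rw [VR, Subgroup.closure_eq_bot_iff]
      rintro _ ⟨i, hi, _⟩
      exact absurd hi (Finset.notMem_empty i)
    rw [this, Subgroup.mem_bot] at hv
    exact hv
  | insert b S hbS ih =>
    intro ha v hv hzero
    have hba : b ≠ a := fun h => ha (h ▸ Finset.mem_insert_self b S)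
    have haS : a ∉ S := fun h => ha (Finset.mem_insert_of_mem h)
    obtain ⟨v₀, hv₀, s, rfl⟩ := VR_insert d haS hba hv
    have hshape := VR_suppRow hπ d haS hv₀
    have hentry : ∀ j, j ≠ b → (π (v₀ * X a b s)).1 a j = (π v₀).1 a j := by
      intro j hj
      rw [map_mul, Matrix.SpecialLinearGroup.coe_mul, hπ a b hba.symm]
      exact Matrix.mul_transvection_apply_of_ne (i := a) (j := b) a j hj s _
    have hentry' : (π (v₀ * X a b s)).1 a b = (π v₀).1 a b + s * (π v₀).1 a a := by
      rw [map_mul, Matrix.SpecialLinearGroup.coe_mul, hπ a b hba.symm]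
      exact Matrix.mul_transvection_apply_same a b a s _
    have hs : s = 0 := by
      have h1 := hzero b (Finset.mem_insert_self b S)
      rw [hentry', hshape a b (fun h => hbS h.2), hshape a a (fun h => haS h.2)] at h1
      simpa [hba.symm] using h1
    rw [hs, d.zero hba.symm, mul_one]
    apply ih haS hv₀
    intro j hj
    have hjb : j ≠ b := fun h => hbS (h ▸ hj)
    have h1 := hzero j (Finset.mem_insert_of_mem hj)
    rw [hentry j hjb] at h1
    exact h1

end rep

end Cfsg.Agent.Lib.Helper53.StN
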