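import Mathlib
import Cfsg.Agent.Lib.Helper53.StNBasic
import Cfsg.Agent.Lib.Helper53.StNGeneric
import Cfsg.Agent.Lib.Helper53.StNBlock
import Cfsg.Agent.Lib.Helper53.StNRankOne
import Cfsg.Agent.Lib.Helper53.StNSubgroups
import Cfsg.Agent.Lib.Helper53.StNDecomp
import Cfsg.Agent.Lib.Helper53.StNShape

/-!
The inductive step for the injectivity of `π` on `GS X S` (helper53): structure of the
parabolic subgroup and the kernel argument.
-/

set_option autoImplicit false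
set_option linter.unusedSectionVars false
set_option linter.unusedSimpArgs false

namespace Cfsg.Agent.Lib.Helper53.StN

open Cfsg.Agent.Lib.Helper53.Steinberg Matrix

variable {K : Type*} [Field K] [Finite K] {I : Type*} [DecidableEq I] [Fintype I]
  {Γ : Type*} [Group Γ] {X : I → I → K → Γ}

section

variable (d : StData X) {S : Finset I} {a b c : I} (ha : a ∉ S) (hb : b ∈ S) (hc : c ∈ S)
  (hbc : b ≠ c)

include d ha hb hc hbc

/-- Elements of the torus are of the form `h(t)`. -/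
theorem Tor_eq {h : Γ} (hh : h ∈ Tor X a b) : ∃ t : K, t ≠ 0 ∧ h = Hh (X a b) (X b a) t := by
  have hab : a ≠ b := fun h => ha (h ▸ hb)
  have hac : a ≠ c := fun h => ha (h ▸ hc)
  have dd := d.rankOne hab hbc hac
  obtain ⟨φ, hφx, hφy⟩ := dd.exists_hom
  refine closure_induction_inv (p := fun h => ∃ t : K, t ≠ 0 ∧ h = Hh (X a b) (X b a) t)
    ?_ ?_ ?_ ?_ hh
  · rintro _ ⟨t, ht, rfl⟩
    refine ⟨t⁻¹, inv_ne_zero ht, ?_⟩
    apply inv_eq_of_mul_eq_one_right
    rw [← hh_mul φ hφx hφy ht (inv_ne_zero ht), mul_inv_cancel₀ ht, dd.Hh_one]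
  · rintro _ ⟨t, ht, rfl⟩
    exact ⟨t, ht, rfl⟩
  · exact ⟨1, one_ne_zero, dd.Hh_one.symm⟩
  · rintro _ _ ⟨t, ht, rfl⟩ ⟨u, hu, rfl⟩
    exact ⟨t * u, mul_ne_zero ht hu, (hh_mul φ hφx hφy ht hu).symm⟩

/-- The torus normalizes the row group. -/
theorem Hh_normalizes_VR {t : K} (ht : t ≠ 0) {u : Γ} (hu : u ∈ VR X S a) :
    Hh (X a b) (X b a) t * u * (Hh (X a b) (X b a) t)⁻¹ ∈ VR X S a := by
  have hab : a ≠ b := fun h => ha (h ▸ hb)
  have hac : a ≠ c := fun h => ha (h ▸ hc)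
  have dd := d.rankOne hab hbc hac
  refine conj_mem_of_gens _ ?_ hu
  rintro _ ⟨j, hj, s, rfl⟩
  have hja : j ≠ a := fun h => ha (h ▸ hj)
  by_cases hjb : j = b
  · subst hjb
    have h := dd.Hh_conjX ht s
    rw [MulAut.conj_apply] at h
    rw [h]
    exact X_mem_VR hj _
  · rw [d.conjH_ac hab (Ne.symm hjb) hja.symm ht]
    exact X_mem_VR hj _

/-- The torus normalizes `GS X S`. -/
theorem Hh_normalizes_GS {t : K} (ht : t ≠ 0) {g : Γ} (hg : g ∈ GS X S) :
    Hh (X a b) (X b a) t * g * (Hh (X a b) (X b a) t)⁻¹ ∈ GS X S := by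
  have hab : a ≠ b := fun h => ha (h ▸ hb)
  refine conj_mem_of_gens _ ?_ hg
  rintro _ ⟨i, hi, j, hj, hij, s, rfl⟩
  have hia : i ≠ a := fun h => ha (h ▸ hi)
  have hja : j ≠ a := fun h => ha (h ▸ hj)
  by_cases hib : i = b
  · subst hib
    rw [d.conjH_bc hab hij hja.symm ht]
    exact X_mem_GS hi hj hij _
  · by_cases hjb : j = b
    · subst hjb
      rw [d.conjH_cb hab (Ne.symm hib) hia.symm ht]
      exact X_mem_GS hi hj hij _
    · rw [d.conjH_ce hab hij hia hib hja hjb]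
      exact X_mem_GS hi hj hij _

/-- Structure of the parabolic subgroup. -/
theorem Ppar_eq {p : Γ} (hp : p ∈ Ppar X S a b) :
    ∃ u ∈ VR X S a, ∃ g' ∈ GS X S, ∃ t : K, t ≠ 0 ∧ p = u * g' * Hh (X a b) (X b a) t := by
  have h1 : ∀ q ∈ VR X S a ⊔ GS X S, ∃ u ∈ VR X S a, ∃ g' ∈ GS X S, q = u * g' := by
    intro q hq
    exact mem_sup_of_normalizes (fun y hy x hx => GS_normalizes_VR d ha hy hx) hq
  have h2 : ∀ y ∈ Tor X a b, ∀ x ∈ VR X S a ⊔ GS X S, y * x * y⁻¹ ∈ VR X S a ⊔ GS X S := by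
    intro y hy x hx
    obtain ⟨t, ht, rfl⟩ := Tor_eq d ha hb hc hbc hy
    obtain ⟨u, hu, g', hg', rfl⟩ := h1 x hx
    have e : Hh (X a b) (X b a) t * (u * g') * (Hh (X a b) (X b a) t)⁻¹ =
        (Hh (X a b) (X b a) t * u * (Hh (X a b) (X b a) t)⁻¹) *
          (Hh (X a b) (X b a) t * g' * (Hh (X a b) (X b a) t)⁻¹) := by group
    rw [e]
    exact mul_mem ((le_sup_left : VR X S a ≤ _) (Hh_normalizes_VR d ha hb hc hbc ht hu))
      ((le_sup_right : GS X S ≤ _) (Hh_normalizes_GS d ha hb hc hbc ht hg'))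
  obtain ⟨q, hq, h, hh, rfl⟩ := mem_sup_of_normalizes h2 hp
  obtain ⟨u, hu, g', hg', rfl⟩ := h1 q hq
  obtain ⟨t, ht, rfl⟩ := Tor_eq d ha hb hc hbc hh
  exact ⟨u, hu, g', hg', t, ht, rfl⟩

end

section rep

variable {π : Γ →* Matrix.SpecialLinearGroup I K} (hπ : IsRep X π) (d : StData X)
  {S : Finset I} {a b c : I} (ha : a ∉ S) (hb : b ∈ S) (hc : c ∈ S) (hbc : b ≠ c)

include hπ d ha hb hc hbc

theorem pi_Hh_aa {t : K} (ht : t ≠ 0) : (π (Hh (X a b) (X b a) t)).1 a a = t := by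
  have hab : a ≠ b := fun h => ha (h ▸ hb)
  have hac : a ≠ c := fun h => ha (h ▸ hc)
  have dd := d.rankOne hab hbc hac
  obtain ⟨φ, hφx, hφy⟩ := dd.exists_hom
  rw [pi_Hh φ hφx hφy hπ hab, blk_aa, hhM_val ht]
  simp

theorem pi_Hh_colLine {t : K} (ht : t ≠ 0) : ColLine a (π (Hh (X a b) (X b a) t)).1 := by
  have hab : a ≠ b := fun h => ha (h ▸ hb)
  have hac : a ≠ c := fun h => ha (h ▸ hc)
  have dd := d.rankOne hab hbc hac
  obtain ⟨φ, hφx, hφy⟩ := dd.exists_hom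
  intro r hr
  rw [pi_Hh φ hφx hφy hπ hab]
  by_cases hrb : r = b
  · subst hrb
    rw [blk_ba, hhM_val ht]
    simp
  · exact blk_ca hab hr hrb _

theorem pi_W_aa {t : K} (ht : t ≠ 0) : (π (W (X a b) (X b a) t)).1 a a = 0 := by
  have hab : a ≠ b := fun h => ha (h ▸ hb)
  have hac : a ≠ c := fun h => ha (h ▸ hc)
  have dd := d.rankOne hab hbc hac
  obtain ⟨φ, hφx, hφy⟩ := dd.exists_hom
  rw [pi_W φ hφx hφy hπ hab, blk_aa, wM_val ht]
  simp

theorem Ppar_colLine {p : Γ} (hp : p ∈ Ppar X S a b) : ColLine a (π p).1 := by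
  obtain ⟨u, hu, g', hg', t, ht, rfl⟩ := Ppar_eq d ha hb hc hbc hp
  rw [map_mul, map_mul, Matrix.SpecialLinearGroup.coe_mul, Matrix.SpecialLinearGroup.coe_mul]
  refine ColLine.mul (ColLine.mul ?_ ?_) (pi_Hh_colLine hπ d ha hb hc hbc ht)
  · intro r hr
    have := VR_suppRow hπ d ha hu r a (fun h => hr h.1)
    rw [this, if_neg hr]
  · intro r hr
    have := (GS_blockTriv hπ d ha hg').2 r
    rw [this, if_neg hr]

/-- `π` is injective on the parabolic subgroup, given injectivity on `GS X S`. -/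
theorem Ppar_eq_one (IH : ∀ g ∈ GS X S, π g = 1 → g = 1) {p : Γ} (hp : p ∈ Ppar X S a b)
    (h1 : π p = 1) : p = 1 := by
  have hab : a ≠ b := fun h => ha (h ▸ hb)
  have hac : a ≠ c := fun h => ha (h ▸ hc)
  have dd := d.rankOne hab hbc hac
  obtain ⟨u, hu, g', hg', t, ht, rfl⟩ := Ppar_eq d ha hb hc hbc hp
  have hu_shape := VR_suppRow hπ d ha hu
  have hg_shape := GS_blockTriv hπ d ha hg'
  -- the `(a, a)` entry is `t`
  have haa : (π (u * g' * Hh (X a b) (X b a) t)).1 a a = t := by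
    rw [map_mul, map_mul, Matrix.SpecialLinearGroup.coe_mul, Matrix.SpecialLinearGroup.coe_mul,
      ColLine.mul_apply_aa (pi_Hh_colLine hπ d ha hb hc hbc ht), pi_Hh_aa hπ d ha hb hc hbc ht]
    have hgcol : ColLine a (π g').1 := by
      intro r hr
      rw [hg_shape.2 r, if_neg hr]
    rw [ColLine.mul_apply_aa hgcol, hu_shape a a (fun h => ha h.2), hg_shape.1 a]
    simp
  rw [h1] at haa
  have ht1 : t = 1 := by simpa using haa.symm
  subst ht1
  rw [dd.Hh_one, mul_one] at h1 ⊢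
  -- now `π u = π g'⁻¹`
  have hug : π u = π g'⁻¹ := by
    rw [map_mul] at h1
    rw [map_inv]
    exact eq_inv_of_mul_eq_one_left h1
  have hu1 : u = 1 := by
    apply VR_eq_one hπ d ha hu
    intro j hj
    have hja : a ≠ j := fun h => ha (h ▸ hj)
    rw [hug, (GS_blockTriv hπ d ha (inv_mem hg')).1 j, if_neg hja]
  rw [hu1, one_mul] at h1 ⊢
  exact IH g' hg' h1

/-- The inductive step. -/
theorem step (IH : ∀ g ∈ GS X S, π g = 1 → g = 1) {g : Γ} (hg : g ∈ GS X (insert a S))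
    (h1 : π g = 1) : g = 1 := by
  rcases mem_SetS d ha hb hc hbc hg with ⟨v, hv, p, hp, rfl⟩ | ⟨g', hg', t, ht, p, hp, rfl⟩
  · have hvp : π v = π p⁻¹ := by
      rw [map_mul] at h1
      rw [map_inv]
      exact eq_inv_of_mul_eq_one_left h1
    have hv1 : v = 1 := by
      apply VC_eq_one hπ d ha hv
      intro i hi
      have hia : i ≠ a := fun h => ha (h ▸ hi)
      rw [hvp]
      exact Ppar_colLine hπ d ha hb hc hbc (inv_mem hp) i hia
    rw [hv1, one_mul] at h1 ⊢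
    exact Ppar_eq_one hπ d ha hb hc hbc IH hp h1
  · exfalso
    have haa : (π (g' * W (X a b) (X b a) t * p)).1 a a = 0 := by
      rw [map_mul, map_mul, Matrix.SpecialLinearGroup.coe_mul, Matrix.SpecialLinearGroup.coe_mul,
        ColLine.mul_apply_aa (Ppar_colLine hπ d ha hb hc hbc hp),
        mul_apply_of_row (GS_blockTriv hπ d ha hg').1, pi_W_aa hπ d ha hb hc hbc ht, zero_mul]
    rw [h1] at haa
    simp at haa

end rep

end Cfsg.Agent.Lib.Helper53.StN
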