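import Mathlib
import Cfsg.Agent.Lib.Helper53.StNKernel

/-!
Steinberg's presentation theorem for `SL(I, K)`, `K` a finite field, `|I| ≥ 3`, in abstract
form (helper53): a homomorphism `π : Γ → SL(I, K)` from a group generated by elements `X i j t`
satisfying the Steinberg relations of type `A`, sending `X i j t` to the elementary matrix, is
injective.
-/

set_option autoImplicit false
set_option linter.unusedSectionVars false

namespace Cfsg.Agent.Lib.Helper53.StN

open Cfsg.Agent.Lib.Helper53.Steinberg Matrix

variable {K : Type*} [Field K] [Finite K] {I : Type*} [DecidableEq I] [Fintype I]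
  {Γ : Type*} [Group Γ] {X : I → I → K → Γ}

/-- Base case: the rank-one subgroup. -/
theorem base {π : Γ →* Matrix.SpecialLinearGroup I K} (hπ : IsRep X π) (d : StData X)
    {a b c : I} (hab : a ≠ b) (hbc : b ≠ c) (hac : a ≠ c) {g : Γ}
    (hg : g ∈ GS X (insert a {b})) (h1 : π g = 1) : g = 1 := by
  have dd := d.rankOne hab hbc hac
  obtain ⟨φ, hφx, hφy⟩ := dd.exists_hom
  have hle : GS X (insert a {b}) ≤ φ.range := by
    rw [GS, Subgroup.closure_le]
    rintro _ ⟨i, hi, j, hj, hij, t, rfl⟩
    rw [Finset.mem_insert, Finset.mem_singleton] at hi hj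
    rcases hi with rfl | rfl
    · rcases hj with rfl | rfl
      · exact absurd rfl hij
      · exact ⟨xM t, hφx t⟩
    · rcases hj with rfl | rfl
      · exact ⟨yM t, hφy t⟩
      · exact absurd rfl hij
  obtain ⟨m, rfl⟩ := hle hg
  rw [pi_phi φ hφx hφy hπ hab] at h1
  have : m = 1 := by
    apply blk_injective hab
    rw [h1, map_one]
  rw [this, map_one]

theorem exists_third (hI : 3 ≤ Fintype.card I) (i j : I) : ∃ k : I, k ≠ i ∧ k ≠ j := by
  by_contra hcon
  push Not at hcon
  have : (Finset.univ : Finset I) ⊆ {i, j} := by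
    intro k _
    by_cases hk : k = i
    · simp [hk]
    · simp [hcon k hk]
  have h2 := Finset.card_le_card this
  have h3 : ({i, j} : Finset I).card ≤ 2 := Finset.card_le_two
  rw [Finset.card_univ] at h2
  omega

/-- `π` is injective on every `GS X S` with `|S| ≥ 2`. -/
theorem GS_eq_one {π : Γ →* Matrix.SpecialLinearGroup I K} (hπ : IsRep X π) (d : StData X)
    (hI : 3 ≤ Fintype.card I) :
    ∀ S : Finset I, 2 ≤ S.card → ∀ g ∈ GS X S, π g = 1 → g = 1 := by
  intro S
  induction S using Finset.induction_on with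
  | empty => intro h; simp at h
  | insert a S haS ih =>
    intro hcard g hg h1
    rw [Finset.card_insert_of_notMem haS] at hcard
    by_cases h2 : 2 ≤ S.card
    · obtain ⟨b, hb, c, hc, hbc⟩ := Finset.one_lt_card.mp (by omega : 1 < S.card)
      exact step hπ d haS hb hc hbc (ih h2) hg h1
    · have h1c : S.card = 1 := by omega
      obtain ⟨b, rfl⟩ := Finset.card_eq_one.mp h1c
      have hab : a ≠ b := fun h => haS (by rw [h]; exact Finset.mem_singleton_self b)
      obtain ⟨c, hca, hcb⟩ := exists_third hI a b
      exact base hπ d hab hcb.symm hca.symm hg h1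

/-- Steinberg's theorem: `π` is injective. -/
theorem injective_of_rep {π : Γ →* Matrix.SpecialLinearGroup I K} (hπ : IsRep X π)
    (d : StData X) (hI : 3 ≤ Fintype.card I)
    (hgen : Subgroup.closure {g | ∃ (i j : I), i ≠ j ∧ ∃ t : K, g = X i j t} = ⊤) :
    Function.Injective π := by
  rw [injective_iff_map_eq_one]
  intro g h1
  have hcard : 2 ≤ (Finset.univ : Finset I).card := by rw [Finset.card_univ]; omega
  refine GS_eq_one hπ d hI Finset.univ hcard g ?_ h1
  have : GS X (Finset.univ : Finset I) = ⊤ := by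
    rw [← hgen, GS]
    congr 1
    ext x
    constructor
    · rintro ⟨i, _, j, _, hij, t, rfl⟩
      exact ⟨i, j, hij, t, rfl⟩
    · rintro ⟨i, j, hij, t, rfl⟩
      exact ⟨i, Finset.mem_univ i, j, Finset.mem_univ j, hij, t, rfl⟩
  rw [this]
  exact Subgroup.mem_top g

end Cfsg.Agent.Lib.Helper53.StN
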