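import Mathlib
import Cfsg.Agent.Lib.Helper53.SLnRel
import Cfsg.Agent.Lib.Helper53.StNMain
import Cfsg.Agent.Lib.Helper66.SchurBasic

/-!
Stem extensions of `SL(I, K)` are trivial (`|I| ≥ 3`, `K` finite, outside the exceptional cases)
(helper53): Steinberg lifts exist in every central extension, they satisfy the Steinberg relations,
and Steinberg's presentation theorem makes the extension split over its commutator subgroup.
-/

set_option autoImplicit false
set_option linter.unusedSectionVars false
set_option linter.unusedSimpArgs false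
set_option linter.unusedVariables false

namespace Cfsg.Agent.Lib.Helper53.SLnLift

open Matrix Cfsg.Agent.Lib.Helper53.StN Cfsg.Agent.Lib.Helper53.CLift
  Cfsg.Agent.Lib.Helper53.SLnRoot Cfsg.Agent.Lib.Helper53.AltMult
open scoped commutatorElement

variable {I : Type*} [DecidableEq I] [Fintype I] {K : Type*} [Field K] {Γ : Type*} [Group Γ]
  (σ : Γ →* SpecialLinearGroup I K)

section steinberg

variable (hc : σ.ker ≤ Subgroup.center Γ) (hs : Function.Surjective σ)
  (hC : ∀ {i j k l : I}, i ≠ j → k ≠ l → j ≠ k → i ≠ l → LC σ i j k l)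
  (hR : ∀ {i j k l : I}, i ≠ j → j ≠ l → i ≠ l → i ≠ k → k ≠ l → ∀ (t u : K) {a b a' c : Γ},
    σ a = T i j t → σ b = T j l u → σ a' = T i k (t * u) → σ c = T k l 1 → cm a b = cm a' c)
  (hI : 3 ≤ Fintype.card I)
include hc hs hC hR hI

/-- Steinberg lifts. -/
theorem exists_steinberg_lift : ∃ Y : I → I → K → Γ, StData Y ∧ IsRep Y σ := by
  choose s hs' using hs
  choose th hth using fun i l : I => exists_third hI i l
  obtain ⟨Y, hY⟩ : ∃ Y : I → I → K → Γ, ∀ i l, i ≠ l → ∀ t,
      Y i l t = cm (s (T i (th i l) t)) (s (T (th i l) l 1)) := by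
    refine ⟨fun i l t => if i = l then 1 else cm (s (T i (th i l) t)) (s (T (th i l) l 1)), ?_⟩
    intro i l h t
    exact if_neg h
  have hσY : ∀ i l, i ≠ l → ∀ t, σ (Y i l t) = T i l t := by
    intro i l h t
    rw [hY i l h, map_cm, hs', hs', cm_T (hth i l).1.symm (hth i l).2 h, mul_one]
  refine ⟨Y, ⟨?_, ?_, ?_⟩, ?_⟩
  · intro i l hil t u
    have hmi := (hth i l).1
    have hml := (hth i l).2
    have e : Y i l (t + u) = cm (s (T i (th i l) t) * s (T i (th i l) u)) (s (T (th i l) l 1)) := by
      rw [hY i l hil]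
      apply cm_eq_of_map_eq σ hc _ rfl
      rw [map_mul, hs', hs', hs', T_add hmi.symm]
    have h1 : Commute (s (T i (th i l) t)) (Y i l u) :=
      hC hmi.symm hil hmi hil t u _ _ (hs' _) (hσY i l hil u)
    have h2 : Commute (Y i l u) (Y i l t) :=
      hC hil hil hil.symm hil u t _ _ (hσY i l hil u) (hσY i l hil t)
    rw [e, cm_mul_left, ← hY i l hil, ← hY i l hil, h1.eq, mul_inv_cancel_right, h2.eq]
  · intro i j k l hij hkl hjk hil t u
    exact (hC hij hkl hjk hil t u _ _ (hσY i j hij t) (hσY k l hkl u)).eq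
  · intro i j l hij hjl hil t u
    have := hR hij hjl hil (hth i l).1.symm (hth i l).2 t u (hσY i j hij t) (hσY j l hjl u)
      (hs' (T i (th i l) (t * u))) (hs' (T (th i l) l 1))
    rw [hY i l hil]
    exact this
  · intro i j h t
    rw [hσY i j h, T_of h]

end steinberg

/-- A stem extension of `SL(I, K)` with Steinberg lifts is injective. -/
theorem injective_of_steinberg_lift [Finite K] (hst : Cfsg.IsStemExtension σ)
    (hI : 3 ≤ Fintype.card I) (Y : I → I → K → Γ) (d : StData Y) (hrep : IsRep Y σ) :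
    Function.Injective σ := by
  obtain ⟨hs, hc, hcomm⟩ := hst
  have hcard : 2 ≤ (Finset.univ : Finset I).card := by rw [Finset.card_univ]; omega
  have hmap : ∀ g : SpecialLinearGroup I K, ∃ g₀ ∈ GS Y (Finset.univ : Finset I), σ g₀ = g := by
    intro g
    have : g ∈ (GS Y (Finset.univ : Finset I)).map σ := by
      have htop : (GS Y (Finset.univ : Finset I)).map σ = ⊤ := by
        rw [eq_top_iff, ← Cfsg.Agent.Lib.Helper5.closure_transvection_eq_top, Subgroup.closure_le]
        rintro _ ⟨i, j, hij, t, rfl⟩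
        refine ⟨Y i j t, Subgroup.subset_closure ?_, hrep i j hij t⟩
        exact ⟨i, Finset.mem_univ i, j, Finset.mem_univ j, hij, t, rfl⟩
      rw [htop]
      exact Subgroup.mem_top g
    obtain ⟨g₀, h1, h2⟩ := this
    exact ⟨g₀, h1, h2⟩
  have hle : commutator Γ ≤ GS Y (Finset.univ : Finset I) := by
    rw [commutator_eq_closure, Subgroup.closure_le]
    rintro _ ⟨a, b, rfl⟩
    obtain ⟨a₀, ha₀, ha⟩ := hmap (σ a)
    obtain ⟨b₀, hb₀, hb⟩ := hmap (σ b)
    have e : ⁅a, b⁆ = cm a₀ b₀ := by
      rw [commutatorElement_def]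
      exact cm_eq_of_map_eq σ hc ha.symm hb.symm
    rw [SetLike.mem_coe, e]
    unfold cm
    exact mul_mem (mul_mem (mul_mem ha₀ hb₀) (inv_mem ha₀)) (inv_mem hb₀)
  rw [injective_iff_map_eq_one]
  intro g h1
  have hg : g ∈ GS Y (Finset.univ : Finset I) := hle (hcomm (MonoidHom.mem_ker.mpr h1))
  exact GS_eq_one hrep d hI Finset.univ hcard g hg h1

section field

variable (K)
variable [Fintype K]

theorem exists_pow_ne_one (m : ℕ) (h : ¬ (Fintype.card K - 1) ∣ m) : ∃ e : K, e ≠ 0 ∧ e ^ m ≠ 1 := by
  classical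
  by_contra hcon
  push Not at hcon
  apply h
  have h1 : ∀ x : Kˣ, x ^ m = 1 := by
    intro x
    apply Units.ext
    rw [Units.val_pow_eq_pow_val, Units.val_one]
    exact hcon x x.ne_zero
  have h2 : Monoid.exponent Kˣ ∣ m := Monoid.exponent_dvd_of_forall_pow_eq_one h1
  rw [IsCyclic.exponent_eq_card, Nat.card_eq_fintype_card, Fintype.card_units] at h2
  exact h2

theorem three_elements (h : Fintype.card K = 3) :
    (1 : K) + 1 + 1 = 0 ∧ ∀ t : K, t = 0 ∨ t = 1 ∨ t = -1 := by
  classical
  have h3 : (3 : K) = 0 := by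
    have := Nat.cast_card_eq_zero K
    rw [h] at this
    exact_mod_cast this
  have h111 : (1 : K) + 1 + 1 = 0 := by rw [← h3]; norm_num
  refine ⟨h111, ?_⟩
  have h01 : (0 : K) ≠ 1 := zero_ne_one
  have h0m : (0 : K) ≠ -1 := by
    intro h0
    have : (1 : K) = 0 := by rw [← neg_neg (1 : K), ← h0, neg_zero]
    exact h01 this.symm
  have h1m : (1 : K) ≠ -1 := by
    intro h1
    have h2 : (1 : K) + 1 = 0 := by nth_rewrite 2 [h1]; exact add_neg_cancel 1
    rw [h2, zero_add] at h111
    exact h01 h111.symm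
  have hcard : ({0, 1, -1} : Finset K).card = 3 := by
    rw [Finset.card_insert_of_notMem, Finset.card_insert_of_notMem, Finset.card_singleton]
    · simp [h1m]
    · simp [h01, h0m]
  have huniv : ({0, 1, -1} : Finset K) = Finset.univ := by
    apply Finset.eq_univ_of_card
    rw [hcard, h]
  intro t
  have := Finset.mem_univ t
  rw [← huniv] at this
  simpa using this

end field

/-- Stem extensions of `SL(I, K)` are injective, outside the exceptional cases. -/
theorem injective_of_stem [Fintype K] (hst : Cfsg.IsStemExtension σ)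
    (hI : 3 ≤ Fintype.card I)
    (h3 : Fintype.card I = 3 → Fintype.card K ≠ 2 ∧ Fintype.card K ≠ 4)
    (h4 : Fintype.card I = 4 → Fintype.card K ≠ 2) : Function.Injective σ := by
  have hs := hst.1
  have hc := hst.2.1
  have hq : 2 ≤ Fintype.card K := Fintype.one_lt_card
  have hC : ∀ {i j k l : I}, i ≠ j → k ≠ l → j ≠ k → i ≠ l → LC σ i j k l := by
    intro i j k l hij hkl hjk hil
    refine lc_all σ hc hs hI ?_ ?_ hij hkl hjk hil
    · intro hI3
      obtain ⟨h2, h4'⟩ := h3 hI3
      apply exists_pow_ne_one K 3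
      intro hdvd
      have := Nat.le_of_dvd (by norm_num) hdvd
      have h5 : Fintype.card K - 1 = 1 ∨ Fintype.card K - 1 = 3 := by
        have := (Nat.dvd_prime Nat.prime_three).mp hdvd
        exact this
      omega
    · intro hI4
      have h2 := h4 hI4
      by_cases hq3 : Fintype.card K = 3
      · exact Or.inr (three_elements K hq3)
      · left
        apply exists_pow_ne_one K 2
        intro hdvd
        have h5 : Fintype.card K - 1 = 1 ∨ Fintype.card K - 1 = 2 :=
          (Nat.dvd_prime Nat.prime_two).mp hdvd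
        omega
  have hR : ∀ {i j k l : I}, i ≠ j → j ≠ l → i ≠ l → i ≠ k → k ≠ l → ∀ (t u : K) {a b a' c : Γ},
      σ a = T i j t → σ b = T j l u → σ a' = T i k (t * u) → σ c = T k l 1 → cm a b = cm a' c := by
    intro i j k l hij hjl hil hik hkl t u a b a' c ha hb ha' hc'
    by_cases hI4 : 4 ≤ Fintype.card I
    · exact rel_of_four σ hc hs hC hI4 hij hjl hil hik hkl t u ha hb ha' hc'
    · have hI3 : Fintype.card I = 3 := by omega
      obtain ⟨h2, h4'⟩ := h3 hI3
      have hjk : j = k := by
        by_contra hjk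
        have hcard4 : ({i, j, k, l} : Finset I).card = 4 := by
          rw [Finset.card_insert_of_notMem, Finset.card_insert_of_notMem,
            Finset.card_insert_of_notMem, Finset.card_singleton]
          · simp [hkl]
          · simp [hjk, hjl]
          · simp [hij, hik, hil]
        have := Finset.card_le_univ ({i, j, k, l} : Finset I)
        omega
      subst hjk
      obtain ⟨e', he', he1⟩ := exists_pow_ne_one K 1 (by
        intro hdvd
        have := Nat.dvd_one.mp hdvd
        omega)
      rw [pow_one] at he1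
      exact rel_torus σ hc hs hC h4' e' he' he1 hij hjl hil t u ha hb ha' hc'
  obtain ⟨Y, d, hrep⟩ := exists_steinberg_lift σ hc hs hC hR hI
  exact injective_of_steinberg_lift σ hst hI Y d hrep

end Cfsg.Agent.Lib.Helper53.SLnLift
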