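import Mathlib
import Cfsg.Agent.Lib.Helper53.SLnStem
import Cfsg.Agent.Lib.Helper53.CentralQuotient
import Cfsg.Agent.Lib.Helper53.SL2Multiplier
import Cfsg.Agent.Lib.Helper57.CardSL

/-!
The Schur multiplier of `PSL_n(q)` outside the exceptional cases is cyclic of order
`gcd(n, q - 1)` (helper53).
-/

set_option autoImplicit false

namespace Cfsg.Agent.Lib.Helper53.PSLMult

open Matrix

universe u

variable {F : Type u} [Field F] [Fintype F]

/-- The Schur multiplier of `SL_n(q)` is trivial outside the exceptional cases. -/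
theorem sl_multiplier_one (n : ℕ) (hn : 2 ≤ n)
    (h2 : n = 2 → Fintype.card F ≠ 4 ∧ Fintype.card F ≠ 9)
    (h3 : n = 3 → Fintype.card F ≠ 2 ∧ Fintype.card F ≠ 4)
    (h4 : n = 4 → Fintype.card F ≠ 2) :
    Cfsg.HasCyclicSchurMultiplier (SpecialLinearGroup (Fin n) F) 1 := by
  by_cases hn2 : n = 2
  · subst hn2
    exact Cfsg.Agent.Lib.Helper53.SL2Mult.sl2_multiplier_trivial (h2 rfl).1 (h2 rfl).2
  · apply Cfsg.Agent.Lib.Helper66.hasCyclicSchurMultiplier_one_of
    intro Γ _ _ σ hσ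
    have hinj := Cfsg.Agent.Lib.Helper53.SLnLift.injective_of_stem σ hσ
      (by rw [Fintype.card_fin]; omega) (by rw [Fintype.card_fin]; exact h3)
      (by rw [Fintype.card_fin]; exact h4)
    exact (MonoidHom.ker_eq_bot_iff σ).mpr hinj

theorem sl_perfect (n : ℕ) (hn : 2 ≤ n) (h2 : n = 2 → 4 ≤ Fintype.card F) :
    Group.IsPerfect (SpecialLinearGroup (Fin n) F) := by
  by_cases hn2 : n = 2
  · subst hn2
    have h4 := h2 rfl
    obtain ⟨a, ha, ha2⟩ := Cfsg.Agent.Lib.Helper53.SLnLift.exists_pow_ne_one F 2 (by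
      intro hdvd
      have := Nat.le_of_dvd (by norm_num) hdvd
      omega)
    exact ⟨Matrix.SL2.commutator_eq_top ha ha2⟩
  · exact ⟨Cfsg.Agent.Lib.Helper5.commutator_SL_eq_top_of_three_le_card
      (by rw [Fintype.card_fin]; omega)⟩

/-- The Schur multiplier of `PSL_n(q)`. -/
theorem psl_multiplier {q : ℕ} (hF : Fintype.card F = q) (n : ℕ) (hn : 2 ≤ n)
    (h2 : n = 2 → 4 ≤ q)
    (hexc : (n, q) ∉ ({(2, 4), (2, 9), (3, 2), (3, 4), (4, 2)} : Set (ℕ × ℕ))) :
    Cfsg.HasCyclicSchurMultiplier (Matrix.ProjectiveSpecialLinearGroup (Fin n) F)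
      (Nat.gcd n (q - 1)) := by
  subst hF
  simp only [Set.mem_insert_iff, Set.mem_singleton_iff, Prod.mk.injEq, not_or, not_and] at hexc
  obtain ⟨e1, e2, e3, e4, e5⟩ := hexc
  have hmult : Cfsg.HasCyclicSchurMultiplier (SpecialLinearGroup (Fin n) F) 1 :=
    sl_multiplier_one n hn (fun h => ⟨e1 h, e2 h⟩) (fun h => ⟨e3 h, e4 h⟩) (fun h => e5 h)
  have hperf : Group.IsPerfect (SpecialLinearGroup (Fin n) F) := sl_perfect n hn h2
  have hcyc : IsCyclic (Subgroup.center (SpecialLinearGroup (Fin n) F)) := by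
    have e := SpecialLinearGroup.center_equiv_rootsOfUnity (n := Fin n) (R := F)
    exact isCyclic_of_surjective e.symm e.symm.surjective
  have hcard := Cfsg.Agent.Lib.Helper57.card_center_SL (F := F) n (by omega)
  have eA := zmodCyclicMulEquiv hcyc
  rw [hcard] at eA
  exact Cfsg.Agent.Lib.Helper53.CQuot.hasSchurMultiplier_quotient hmult
    (Subgroup.center (SpecialLinearGroup (Fin n) F)) le_rfl eA.symm

end Cfsg.Agent.Lib.Helper53.PSLMult
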