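import Mathlib
import Cfsg.Prelude.Def_KGroupFacts
import Cfsg.Agent.Lib.Helper53.SmallFields
import Cfsg.Agent.Lib.Helper53.SL29Cover
import Cfsg.Agent.Lib.Helper53.SchurBound
import Cfsg.Agent.Lib.Helper53.SchurTransport
import Cfsg.Agent.Lib.Helper53.SL2Multiplier
import Cfsg.Agent.Lib.Helper66.StemAbelian
import Cfsg.Agent.Lib.Helper66.StemDihedral2
import Cfsg.Agent.Lib.Helper5.SL2Sylow

/-!
The Schur multiplier of `SL₂(9)` is cyclic of order three (helper53).
-/

set_option autoImplicit false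

namespace Cfsg.Agent.Lib.Helper53.SL29

open Matrix Matrix.SpecialLinearGroup Cfsg.Agent.Lib.Helper53.SmallFields
open Cfsg.Agent.Lib.Helper66 Cfsg.Agent.Lib.Helper53.SL2Mult Cfsg.Agent.Lib.Helper5
open scoped MatrixGroups

universe u

section general

variable {F : Type u} [Field F] [Fintype F]

/-- In a finite stem extension of `SL₂(F)`, only the characteristic can divide the order of the
kernel. -/
theorem eq_char_of_prime_dvd_card_ker (p : ℕ) [CharP F p] [Fact p.Prime] {Γ : Type u} [Group Γ]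
    [Finite Γ] (σ : Γ →* SL(2, F)) (hσ : Cfsg.IsStemExtension σ) (r : ℕ) [Fact r.Prime]
    (hdvd : r ∣ Nat.card σ.ker) : r = p := by
  classical
  by_contra hrp
  obtain ⟨z, hz⟩ := exists_prime_orderOf_dvd_card' (G := σ.ker) r hdvd
  have hzo : orderOf (z : Γ) = r := by rw [Subgroup.orderOf_coe]; exact hz
  let R : Sylow r SL(2, F) := default
  have hU2 : commutator ↥((R : Subgroup SL(2, F)).comap σ) ⊓
      (σ.subgroupComap (R : Subgroup SL(2, F))).ker = ⊥ := by
    rcases cyclic_or_quaternion_of_ne_char p r hrp (R : Subgroup SL(2, F)) R.isPGroup' with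
      h | ⟨n, ⟨e⟩⟩
    · haveI := h
      exact inf_eq_bot_of_cyclic σ hσ _
    · exact inf_eq_bot_of_quaternion σ hσ _ n e
  have h1 := pow_index_eq_one σ hσ (R : Subgroup SL(2, F)) hU2 (z : Γ) z.2
  have h2 := orderOf_dvd_of_pow_eq_one h1
  rw [hzo] at h2
  exact Sylow.not_dvd_index R h2

omit [Fintype F] in
theorem xT_zero : xT (0 : F) = 1 := by
  apply sl2_ext <;> simp

omit [Fintype F] in
theorem xT_nsmul (n : ℕ) (t : F) : xT (n • t) = xT t ^ n := by
  induction n with
  | zero => rw [zero_smul, pow_zero, xT_zero]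
  | succ k ih => rw [succ_nsmul, xT_add, ih, pow_succ]

end general

attribute [local instance] fieldK9

theorem charP_K9 : CharP K9 3 :=
  (CharP.charP_iff_prime_eq_zero Nat.prime_three).2 (by decide)

attribute [local instance] charP_K9

theorem three_nsmul_K9 : ∀ t : K9, 3 • t = 0 := by decide

/-- Stem extensions of the unipotent subgroup of `SL₂(9)` have kernel of order at most three. -/
theorem card_ker_le_three_of_stem_unip {Γ : Type} [Group Γ] [Finite Γ] (τ : Γ →* unipSL K9)
    (hτ : Cfsg.IsStemExtension τ) : Nat.card τ.ker ≤ 3 := by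
  have hmem : ∀ t : K9, xT t ∈ unipSL K9 := fun t => transvection01_mem_unipSL t
  set a : unipSL K9 := ⟨xT 1, hmem 1⟩ with ha
  set b : unipSL K9 := ⟨xT ι, hmem ι⟩ with hb
  have hG : ∀ x y : unipSL K9, x * y = y * x := by
    intro x y
    apply Subtype.ext
    show x.1 * y.1 = y.1 * x.1
    rw [eq_xT_of_mem_unipSL x.2, eq_xT_of_mem_unipSL y.2]
    exact xT_comm _ _
  have hgen : Subgroup.closure ({a, b} : Set (unipSL K9)) = ⊤ := by
    rw [eq_top_iff]
    rintro ⟨g, hg⟩ _
    have h1 := eq_xT_of_mem_unipSL hg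
    have : (⟨g, hg⟩ : unipSL K9) = a ^ (g.1 0 1).1.val * b ^ (g.1 0 1).2.val := by
      apply Subtype.ext
      show g = xT 1 ^ (g.1 0 1).1.val * xT ι ^ (g.1 0 1).2.val
      rw [← xT_nsmul, ← xT_nsmul, ← xT_add]
      refine h1.trans ?_
      congr 1
      exact K9_decomp _
    rw [this]
    apply Subgroup.mul_mem
    · exact Subgroup.pow_mem _ (Subgroup.subset_closure (by simp)) _
    · exact Subgroup.pow_mem _ (Subgroup.subset_closure (by simp)) _
  have hb3 : b ^ 3 = 1 := by
    apply Subtype.ext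
    show xT ι ^ 3 = 1
    rw [← xT_nsmul, three_nsmul_K9, xT_zero]
  obtain ⟨c, hc3, hle⟩ := stem_abelian_two_gen τ hτ hG a b hgen 3 hb3
  calc Nat.card τ.ker ≤ Nat.card (Subgroup.zpowers c) := Subgroup.card_le_of_le hle
    _ = orderOf c := Nat.card_zpowers _
    _ ≤ 3 := Nat.le_of_dvd (by norm_num) (orderOf_dvd_of_pow_eq_one hc3)

theorem index_unip_K9 : (unipSL K9).index = 80 := by
  haveI : Fact (Nat.Prime 3) := ⟨Nat.prime_three⟩
  rw [index_unipSL, card_K9]
  norm_num

/-- The order of the kernel of a finite stem extension of `SL₂(9)` is a power of three. -/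
theorem card_ker_eq_pow {Γ : Type} [Group Γ] [Finite Γ] (σ : Γ →* G9)
    (hσ : Cfsg.IsStemExtension σ) : ∃ k : ℕ, Nat.card σ.ker = 3 ^ k := by
  haveI : Fact (Nat.Prime 3) := ⟨Nat.prime_three⟩
  refine ⟨(Nat.card σ.ker).primeFactorsList.length, ?_⟩
  apply Nat.eq_prime_pow_of_unique_prime_dvd Nat.card_pos.ne'
  intro d hd hdvd
  haveI : Fact d.Prime := ⟨hd⟩
  exact eq_char_of_prime_dvd_card_ker 3 σ hσ d hdvd

/-- The kernel of every finite stem extension of `SL₂(9)` has at most three elements. -/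
theorem card_ker_le_three {Γ : Type} [Group Γ] [Finite Γ] (σ : Γ →* G9)
    (hσ : Cfsg.IsStemExtension σ) : Nat.card σ.ker ≤ 3 := by
  obtain ⟨k, hk⟩ := card_ker_eq_pow σ hσ
  haveI : Finite G9 := inferInstance
  have hcop : (Nat.card σ.ker).Coprime (unipSL K9).index := by
    rw [hk, index_unip_K9]
    exact Nat.Coprime.pow_left k (by norm_num)
  refine (SchurBound.card_ker_le_card_commutator_inf_ker σ hσ (unipSL K9) hcop).trans ?_
  exact SchurBound.card_commutator_inf_ker_le 3
    (fun Γ₂ _ _ τ hτ => card_ker_le_three_of_stem_unip τ hτ)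
    (σ.subgroupComap (unipSL K9))
    (σ.subgroupComap_surjective_of_surjective (unipSL K9) hσ.1)
    (subgroupComap_ker_le_center σ hσ (unipSL K9))

/-- The Schur multiplier of `SL₂(9)` is cyclic of order three. -/
theorem multiplier_G9 : Cfsg.HasCyclicSchurMultiplier G9 3 := by
  obtain ⟨Γ, _, _, σ, hσ, hcard⟩ := exists_stem_triple
  haveI : Fact (Nat.Prime 3) := ⟨Nat.prime_three⟩
  have hc3 : Nat.card (Multiplicative (ZMod 3)) = 3 := by
    rw [Nat.card_eq_fintype_card, Fintype.card_multiplicative, ZMod.card]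
  refine ⟨⟨Γ, inferInstance, inferInstance, σ, hσ,
    ⟨mulEquivOfPrimeCardEq (p := 3) hcard hc3⟩⟩, ?_⟩
  intro Γ' _ _ σ' hσ'
  have h3 := card_ker_le_three σ' hσ'
  obtain ⟨k, hk⟩ := card_ker_eq_pow σ' hσ'
  have hcases : Nat.card σ'.ker = 1 ∨ Nat.card σ'.ker = 3 := by
    rcases k with _ | _ | k
    · left; simpa using hk
    · right; simpa using hk
    · exfalso
      rw [hk] at h3
      have : 3 ^ 2 ≤ 3 ^ (k + 1 + 1) := Nat.pow_le_pow_right (by norm_num) (by omega)
      omega
  have hpow : ∀ h : σ'.ker, h ^ 3 = 1 := by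
    intro h
    have h1 : h ^ Nat.card σ'.ker = 1 := pow_card_eq_one'
    rcases hcases with h4 | h4
    · rw [h4, pow_one] at h1
      rw [h1, one_pow]
    · rw [h4] at h1; exact h1
  haveI : IsCyclic σ'.ker := by
    rcases hcases with h4 | h4
    · haveI : Subsingleton σ'.ker := (Nat.card_eq_one_iff_unique.1 h4).1
      exact isCyclic_of_subsingleton
    · exact isCyclic_of_prime_card h4
  exact exists_surjective_zmod_of_isCyclic 3 hpow

/-! ### Transport to `SL₂(F)`, `|F| = 9` -/

/-- A ring isomorphism induces an isomorphism of special linear groups. -/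
def slCongr' {R S : Type*} [CommRing R] [CommRing S] (n : Type*) [DecidableEq n] [Fintype n]
    (e : R ≃+* S) : Matrix.SpecialLinearGroup n R ≃* Matrix.SpecialLinearGroup n S where
  toFun := Matrix.SpecialLinearGroup.map e.toRingHom
  invFun := Matrix.SpecialLinearGroup.map e.symm.toRingHom
  left_inv A := by
    apply Subtype.ext
    ext i j
    change e.symm (e (A.1 i j)) = A.1 i j
    simp
  right_inv A := by
    apply Subtype.ext
    ext i j
    change e (e.symm (A.1 i j)) = A.1 i j
    simp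
  map_mul' := map_mul _

/-- The Schur multiplier of `SL₂(9)` is cyclic of order three. -/
theorem multiplier_SL29 {F : Type u} [Field F] [Fintype F] (hF : Fintype.card F = 9) :
    Cfsg.HasCyclicSchurMultiplier (Matrix.SpecialLinearGroup (Fin 2) F) 3 := by
  have e1 : K9 ≃+* F := FiniteField.ringEquivOfCardEq (by rw [card_K9, hF])
  exact SchurTransport.hasSchurMultiplier_of_mulEquiv (slCongr' (Fin 2) e1) multiplier_G9

end Cfsg.Agent.Lib.Helper53.SL29
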