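import Mathlib
import Cfsg.Agent.Lib.Helper53.StNMain
import Cfsg.Agent.Lib.Helper5.SLGen

/-!
Steinberg's presentation of `SL(I, K)` (`K` a finite field, `|I| ≥ 3`) as a presented group
(helper53).
-/

set_option autoImplicit false
set_option linter.unusedSectionVars false
set_option linter.unusedSimpArgs false

namespace Cfsg.Agent.Lib.Helper53.StN

open Cfsg.Agent.Lib.Helper53.Steinberg Matrix

variable (I : Type*) [DecidableEq I] [Fintype I] (K : Type*) [Field K]

/-- The Steinberg relators of type `A`. -/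
def stRelsN : Set (FreeGroup ({ij : I × I // ij.1 ≠ ij.2} × K)) :=
  {g : FreeGroup ({ij : I × I // ij.1 ≠ ij.2} × K) | ∃ (a : {ij : I × I // ij.1 ≠ ij.2}) (t u : K),
      g = FreeGroup.of (a, t) * FreeGroup.of (a, u) * (FreeGroup.of (a, t + u))⁻¹} ∪
    {g | ∃ (a b : {ij : I × I // ij.1 ≠ ij.2}) (t u : K), a.1.1 ≠ b.1.2 ∧ a.1.2 ≠ b.1.1 ∧
      g = FreeGroup.of (a, t) * FreeGroup.of (b, u) * (FreeGroup.of (a, t))⁻¹ * (FreeGroup.of (b, u))⁻¹} ∪
    {g | ∃ (a b : {ij : I × I // ij.1 ≠ ij.2}) (h : a.1.1 ≠ b.1.2) (t u : K), a.1.2 = b.1.1 ∧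
      g = FreeGroup.of (a, t) * FreeGroup.of (b, u) * (FreeGroup.of (a, t))⁻¹ * (FreeGroup.of (b, u))⁻¹ *
        (FreeGroup.of (⟨(a.1.1, b.1.2), h⟩, t * u))⁻¹}

variable {I K}

/-- The root elements of the presented group, as a total function. -/
noncomputable def Xp (i j : I) (t : K) : PresentedGroup (stRelsN I K) :=
  if h : i ≠ j then PresentedGroup.of (⟨(i, j), h⟩, t) else 1

theorem Xp_of {i j : I} (h : i ≠ j) (t : K) :
    Xp i j t = PresentedGroup.of (rels := stRelsN I K) (⟨(i, j), h⟩, t) := by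
  unfold Xp; rw [dif_pos h]

theorem stData_Xp : StData (Xp : I → I → K → PresentedGroup (stRelsN I K)) := by
  refine ⟨?_, ?_, ?_⟩
  · intro i j hij t u
    have hr : FreeGroup.of ((⟨(i, j), hij⟩ : {ij : I × I // ij.1 ≠ ij.2}), t) *
        FreeGroup.of ((⟨(i, j), hij⟩ : {ij : I × I // ij.1 ≠ ij.2}), u) *
        (FreeGroup.of ((⟨(i, j), hij⟩ : {ij : I × I // ij.1 ≠ ij.2}), t + u))⁻¹ ∈ stRelsN I K :=
      Or.inl (Or.inl ⟨_, t, u, rfl⟩)
    have h1 := PresentedGroup.one_of_mem hr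
    rw [map_mul, map_mul, map_inv] at h1
    rw [Xp_of hij, Xp_of hij, Xp_of hij]
    exact mul_inv_eq_one.mp h1
  · intro i j k l hij hkl hjk hil t u
    have hr : FreeGroup.of ((⟨(i, j), hij⟩ : {ij : I × I // ij.1 ≠ ij.2}), t) *
        FreeGroup.of ((⟨(k, l), hkl⟩ : {ij : I × I // ij.1 ≠ ij.2}), u) *
        (FreeGroup.of ((⟨(i, j), hij⟩ : {ij : I × I // ij.1 ≠ ij.2}), t))⁻¹ *
        (FreeGroup.of ((⟨(k, l), hkl⟩ : {ij : I × I // ij.1 ≠ ij.2}), u))⁻¹ ∈ stRelsN I K :=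
      Or.inl (Or.inr ⟨⟨(i, j), hij⟩, ⟨(k, l), hkl⟩, t, u, hil, hjk, rfl⟩)
    have h1 := PresentedGroup.one_of_mem hr
    rw [map_mul, map_mul, map_mul, map_inv, map_inv] at h1
    rw [Xp_of hij, Xp_of hkl]
    have h2 := mul_inv_eq_one.mp h1
    exact mul_inv_eq_iff_eq_mul.mp h2
  · intro i j l hij hjl hil t u
    have hr : FreeGroup.of ((⟨(i, j), hij⟩ : {ij : I × I // ij.1 ≠ ij.2}), t) *
        FreeGroup.of ((⟨(j, l), hjl⟩ : {ij : I × I // ij.1 ≠ ij.2}), u) *
        (FreeGroup.of ((⟨(i, j), hij⟩ : {ij : I × I // ij.1 ≠ ij.2}), t))⁻¹ *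
        (FreeGroup.of ((⟨(j, l), hjl⟩ : {ij : I × I // ij.1 ≠ ij.2}), u))⁻¹ *
        (FreeGroup.of ((⟨(i, l), hil⟩ : {ij : I × I // ij.1 ≠ ij.2}), t * u))⁻¹ ∈ stRelsN I K :=
      Or.inr ⟨⟨(i, j), hij⟩, ⟨(j, l), hjl⟩, hil, t, u, rfl, rfl⟩
    have h1 := PresentedGroup.one_of_mem hr
    rw [map_mul, map_mul, map_mul, map_mul, map_inv, map_inv, map_inv] at h1
    rw [Xp_of hij, Xp_of hjl, Xp_of hil]
    exact mul_inv_eq_one.mp h1

/-- The elementary matrices satisfy the Steinberg relators. -/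
theorem lift_rel_eq_one :
    ∀ r ∈ stRelsN I K, FreeGroup.lift (fun p : {ij : I × I // ij.1 ≠ ij.2} × K =>
      Matrix.SpecialLinearGroup.transvection p.1.2 p.2) r = 1 := by
  rintro r ((⟨a, t, u, rfl⟩ | ⟨a, b, t, u, h1, h2, rfl⟩) | ⟨a, b, h, t, u, h1, rfl⟩)
  · simp only [map_mul, map_inv, FreeGroup.lift_apply_of]
    rw [Matrix.SpecialLinearGroup.transvection_add, mul_inv_cancel]
  · simp only [map_mul, map_inv, FreeGroup.lift_apply_of]
    obtain ⟨⟨i, j⟩, hij⟩ := a
    obtain ⟨⟨k, l⟩, hkl⟩ := b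
    simp only at h1 h2 hij hkl ⊢
    have hc : Matrix.SpecialLinearGroup.transvection hij t *
        Matrix.SpecialLinearGroup.transvection hkl u =
        Matrix.SpecialLinearGroup.transvection hkl u *
        Matrix.SpecialLinearGroup.transvection hij t := by
      apply Subtype.ext
      simp only [Matrix.SpecialLinearGroup.coe_mul, Matrix.SpecialLinearGroup.transvection_coe]
      simp [mul_add, add_mul, Matrix.single_mul_single_of_ne, h1, h2, Ne.symm h1, Ne.symm h2]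
      abel
    rw [hc]
    group
  · simp only [map_mul, map_inv, FreeGroup.lift_apply_of]
    obtain ⟨⟨i, j⟩, hij⟩ := a
    obtain ⟨⟨k, l⟩, hkl⟩ := b
    simp only at h h1 hij hkl ⊢
    subst h1
    have := Cfsg.Agent.Lib.Helper5.commutator_transvection_transvection (F := K) h hij hkl t u
    rw [commutatorElement_def] at this
    rw [this, mul_inv_cancel]

/-- The canonical homomorphism from the presented group. -/
noncomputable def piP : PresentedGroup (stRelsN I K) →* Matrix.SpecialLinearGroup I K :=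
  PresentedGroup.toGroup lift_rel_eq_one

theorem piP_of (a : {ij : I × I // ij.1 ≠ ij.2}) (t : K) :
    piP (PresentedGroup.of (a, t)) = Matrix.SpecialLinearGroup.transvection a.2 t := by
  unfold piP
  rw [PresentedGroup.toGroup.of]

theorem isRep_piP : IsRep (Xp : I → I → K → _) piP := by
  intro i j h t
  rw [Xp_of h, piP_of]

theorem piP_surjective : Function.Surjective (piP : PresentedGroup (stRelsN I K) →* _) := by
  rw [← MonoidHom.range_eq_top, eq_top_iff, ← Cfsg.Agent.Lib.Helper5.closure_transvection_eq_top,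
    Subgroup.closure_le]
  rintro _ ⟨i, j, hij, c, rfl⟩
  exact ⟨PresentedGroup.of (⟨(i, j), hij⟩, c), piP_of _ _⟩

theorem piP_injective [Finite K] (hI : 3 ≤ Fintype.card I) :
    Function.Injective (piP : PresentedGroup (stRelsN I K) →* _) := by
  refine injective_of_rep isRep_piP stData_Xp hI ?_
  rw [eq_top_iff, ← PresentedGroup.closure_range_of, Subgroup.closure_le]
  rintro _ ⟨⟨⟨⟨i, j⟩, hij⟩, t⟩, rfl⟩
  apply Subgroup.subset_closure
  exact ⟨i, j, hij, t, (Xp_of hij t).symm⟩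

/-- Steinberg's presentation of `SL(I, K)`. -/
theorem exists_presentation [Finite K] (hI : 3 ≤ Fintype.card I) :
    ∃ e : PresentedGroup (stRelsN I K) ≃* Matrix.SpecialLinearGroup I K,
      ∀ (a : {ij : I × I // ij.1 ≠ ij.2}) (t : K),
        ((e (PresentedGroup.of (a, t)) : Matrix I I K)) = Matrix.transvection a.1.1 a.1.2 t := by
  refine ⟨MulEquiv.ofBijective piP ⟨piP_injective hI, piP_surjective⟩, ?_⟩
  intro a t
  show (piP (PresentedGroup.of (a, t))).1 = _
  rw [piP_of]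
  rfl

end Cfsg.Agent.Lib.Helper53.StN
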